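import Cfsg.Agent.Omega.NOThreeL.RRed.Ex.Def
import Cfsg.Agent.Omega.NOThreeL.RRed.ClassMx
import Cfsg.Agent.Omega.NOThreeL.RRed.Blk.AsmEsB

/-!
# NO-3L, box R: THEOREM EX (#26554), dictionary (text: helper245, #27096 (4))

`Q : Nrm H U`, `M = Q.Mod` (`U` written additively), `im Q A` the image of `A ≤ H` in `XH Q`.

* `pre Q S A'` : the preimage of `A'` in `S`; `im_pre : A' ≤ im Q S → im Q (pre Q S A') = A'`;
* `im_eq_bot`, `im_le_im`, `im_inf`;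
* `fx_ad`, `cw_ad`, `ad_le_fxd`, `fxd_eq_ad` : action on `Q.ad X`, `X ≤ U`;
* `el_iff`, `xa_iff`, `mn_iff` : `El`, `Xa`, `Mn` of `im Q A` and `ElemM`, `Exa`, `Mx` of `A`;
* `sit` : `Sit Q.Mod ⊤`; `inv_ad` : `Q.ad D` is invariant.
-/

set_option autoImplicit false
set_option linter.unusedSectionVars false

namespace Cfsg.Agent.Omega.NOThreeL.RRed.Ex.Dict

open Subgroup Cfsg Cfsg.Agent.ZN
open Cfsg.Agent.Omega.FFThm
open Cfsg.Agent.Omega.NOThreeL.RSplit (Nrm)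
open Cfsg.Agent.Omega.NOThreeL.RRed.NS (fxd brk mem_fxd smul_eq_iff conj_eq_cj)
open Cfsg.Agent.Omega.NOThreeL.RRed.Blk.Types (Sit El)
open Cfsg.Agent.Omega.NOThreeL.RRed.Blk.TypesNat (XH ph ph_smul XH_faith ph_eq ph_surj no_XH mem_ker)
open Cfsg.Agent.Omega.NOThreeL.RRed.Blk.AsmCore (im mem_im ph_mem_im im_mono im_cj card_im fxd_im)
open Cfsg.Agent.Omega.NOThreeL.RRed.Blk.AsmEsB (fxd_card lift el_im exact_iff card_mod)
open scoped Pointwise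

universe u

variable {G : Type u} [Group G] {H U S A B X : Subgroup G} (Q : Nrm H U)

/-! ### images and preimages -/

/-- the preimage of `A'` in `S` -/
def pre (S : Subgroup G) (A' : Subgroup (XH Q)) : Subgroup G := S ⊓ (A'.comap (ph Q)).map H.subtype

theorem pre_le {A' : Subgroup (XH Q)} : pre Q S A' ≤ S := inf_le_left

theorem pre_le_H {A' : Subgroup (XH Q)} : pre Q S A' ≤ H := by
  rintro _ ⟨-, a, -, rfl⟩
  exact a.2

theorem mem_pre {A' : Subgroup (XH Q)} {x : G} : x ∈ pre Q S A' ↔ x ∈ S ∧ ∃ hx : x ∈ H, ph Q ⟨x, hx⟩ ∈ A' := by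
  constructor
  · rintro ⟨h1, a, ha, rfl⟩
    exact ⟨h1, a.2, ha⟩
  · rintro ⟨h1, hx, h2⟩
    exact ⟨h1, ⟨x, hx⟩, h2, rfl⟩

theorem im_pre {A' : Subgroup (XH Q)} (h : A' ≤ im Q S) : im Q (pre Q S A') = A' := by
  apply le_antisymm
  · rintro _ ⟨a, ha, rfl⟩
    exact ((mem_pre Q).1 ha).2.choose_spec
  · intro x hx
    obtain ⟨a, ha, rfl⟩ := h hx
    exact ⟨a, (mem_pre Q).2 ⟨ha, a.2, hx⟩, rfl⟩

/-- every subgroup of `im Q S` is `im Q A`, `A ≤ S` -/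
theorem exists_im {A' : Subgroup (XH Q)} (h : A' ≤ im Q S) : ∃ A ≤ S, A ≤ H ∧ im Q A = A' :=
  ⟨pre Q S A', pre_le Q, pre_le_H Q, im_pre Q h⟩

theorem ph_one {x : H} : ph Q x = 1 ↔ (x : G) ∈ centralizer (U : Set G) :=
  MonoidHom.mem_ker.symm.trans (mem_ker Q)

theorem im_eq_bot (hA : A ≤ H) : im Q A = ⊥ ↔ A ≤ centralizer (U : Set G) := by
  constructor
  · intro h a ha
    have h1 : ph Q ⟨a, hA ha⟩ ∈ im Q A := ph_mem_im Q (a := ⟨a, hA ha⟩) ha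
    rw [h, mem_bot] at h1
    exact (ph_one Q).1 h1
  · intro h
    rw [eq_bot_iff]
    rintro _ ⟨a, ha, rfl⟩
    exact (ph_one Q).2 (h ha)

/-- the image of a member of `A` in `im Q B` : it lies in `B C_H(U)` -/
theorem ph_mem_iff {x : H} : ph Q x ∈ im Q B ↔ ∃ b : H, (b : G) ∈ B ∧ (b : G)⁻¹ * x ∈ centralizer (U : Set G) := by
  constructor
  · rintro ⟨b, hb, h1⟩
    refine ⟨b, hb, ?_⟩
    have h2 : ph Q (b⁻¹ * x) = 1 := by rw [map_mul, map_inv, h1, inv_mul_cancel]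
    exact (ph_one Q).1 h2
  · rintro ⟨b, hb, h1⟩
    have h2 : ph Q (b⁻¹ * x) = 1 := (ph_one Q).2 h1
    rw [map_mul, map_inv, inv_mul_eq_one] at h2
    exact ⟨b, hb, h2⟩

/-- `B` contains the kernel in `A`: `im Q A ≤ im Q B` implies `A ≤ B`. -/
theorem le_of_im (hA : A ≤ H) (hB : B ≤ A) (hk : A ⊓ centralizer (U : Set G) ≤ B) (h : im Q A ≤ im Q B) : A ≤ B := by
  intro a ha
  obtain ⟨b, hb, h1⟩ := (ph_mem_iff Q).1 (h (ph_mem_im Q (a := ⟨a, hA ha⟩) ha))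
  have h2 : (b : G)⁻¹ * a ∈ B := hk (mem_inf.2 ⟨mul_mem (inv_mem (hB hb)) ha, h1⟩)
  have h3 := mul_mem hb h2
  rwa [mul_inv_cancel_left] at h3

/-! ### the action on `Q.ad X` -/

theorem fx_ad (hX : X ≤ U) (hA : A ≤ H) : Fx (Q.ad X) (im Q A) ↔ A ≤ centralizer (X : Set G) := by
  constructor
  · intro h a ha
    rw [mem_centralizer_iff]
    intro x hx
    have h1 := h _ (ph_mem_im Q (a := ⟨a, hA ha⟩) ha) (Q.of x (hX hx)) hx
    rw [ph_smul, smul_eq_iff, Nrm.val_of, mul_inv_eq_iff_eq_mul] at h1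
    exact h1.symm
  · rintro h _ ⟨a, ha, rfl⟩ m hm
    rw [ph_smul, smul_eq_iff, mul_inv_eq_iff_eq_mul]
    exact (mem_centralizer_iff.1 (h ha) _ hm).symm

theorem cw_ad (hX : X ≤ U) : cw (Q.ad X) (im Q A) = im Q (A ⊓ centralizer (X : Set G)) := by
  ext x
  rw [mem_cw]
  constructor
  · rintro ⟨⟨a, ha, rfl⟩, h1⟩
    refine ph_mem_im Q (mem_inf.2 ⟨ha, mem_centralizer_iff.2 ?_⟩)
    intro x hx
    have h2 := h1 (Q.of x (hX hx)) hx
    rw [ph_smul, smul_eq_iff, Nrm.val_of, mul_inv_eq_iff_eq_mul] at h2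
    exact h2.symm
  · rintro ⟨a, ha, rfl⟩
    refine ⟨ph_mem_im Q ha.1, fun m hm => ?_⟩
    rw [ph_smul, smul_eq_iff, mul_inv_eq_iff_eq_mul]
    exact (mem_centralizer_iff.1 ha.2 _ hm).symm

theorem ad_le_fxd (hX : X ≤ U) (hA : A ≤ H) :
    Q.ad X ≤ (fxd (im Q A) : AddSubgroup Q.Mod) ↔ A ≤ centralizer (X : Set G) := by
  rw [← fx_ad Q hX hA]
  exact ⟨fun h a ha w hw => h hw a ha, fun h w hw a ha => h a ha w hw⟩

theorem fxd_eq_ad (hA : A ≤ H) : (fxd (im Q A) : AddSubgroup Q.Mod) = Q.ad (U ⊓ centralizer (A : Set G)) := by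
  ext m
  rw [Nrm.mem_ad, mem_inf, fxd_im Q hA]
  exact ⟨fun h => ⟨Q.val_mem m, h⟩, fun h => h.2⟩

/-- `Q.ad D` is invariant -/
theorem inv_ad {D : Subgroup G} (hD : H ≤ normalizer (D : Set G)) : ∀ h : XH Q, ∀ u ∈ Q.ad D, h • u ∈ Q.ad D := by
  intro h u hu
  obtain ⟨x, rfl⟩ := ph_surj Q h
  rw [ph_smul, Nrm.mem_ad, Nrm.val_smul]
  exact (mem_normalizer_iff.1 (hD x.2) _).1 hu

/-! ### `El`, `Xa`, `Mn` -/

theorem el_iff (hA : A ≤ H) : El (im Q A) ↔ ElemM U A := by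
  refine ⟨fun h => ⟨fun a ha => ?_, fun a ha b hb => ?_⟩, el_im Q⟩
  · have h1 := h.sq _ (ph_mem_im Q (a := ⟨a, hA ha⟩) ha)
    rw [← map_mul] at h1
    rw [pow_two]
    exact (ph_one Q).1 h1
  · have h1 := h.cm _ (ph_mem_im Q (a := ⟨a, hA ha⟩) ha) _ (ph_mem_im Q (a := ⟨b, hA hb⟩) hb)
    have h2 : ph Q (⟨a, hA ha⟩ * ⟨b, hA hb⟩ * ⟨a, hA ha⟩⁻¹ * ⟨b, hA hb⟩⁻¹) = 1 := by
      rw [map_mul, map_mul, map_mul, map_inv, map_inv, h1]
      group
    exact (ph_one Q).1 h2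

section fin

variable [Finite G]

/-- a lower bound is enough -/
theorem exa_iff_le (hno : NoOverM U H) (hA : A ≤ H) (hE : ElemM U A) :
    Exa U A ↔ Nat.card U * Nat.card ↥(A ⊓ centralizer (U : Set G)) ≤ Nat.card A * Nat.card ↥(U ⊓ centralizer (A : Set G)) :=
  ⟨fun h => (show _ = _ from h).le, fun h => le_antisymm h (hno A hA hE)⟩

theorem xa_of (hA : A ≤ H) (h : Exa U A) : Xa Q.Mod (im Q A) := ((exact_iff Q hA).1 h).ge

theorem xa_iff (hno : NoOverM U H) (hA : A ≤ H) (hE : ElemM U A) : Xa Q.Mod (im Q A) ↔ Exa U A := by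
  refine ⟨fun h => (exa_iff_le hno hA hE).2 ?_, xa_of Q hA⟩
  have h' : Nat.card Q.Mod ≤ Nat.card (im Q A) * Nat.card (fxd (im Q A) : AddSubgroup Q.Mod) := h
  rw [fxd_card Q hA, ← card_im Q hA, ← card_mod Q]
  calc Nat.card Q.Mod * Nat.card ↥(A ⊓ centralizer (U : Set G))
      ≤ Nat.card (im Q A) * Nat.card (fxd (im Q A) : AddSubgroup Q.Mod) * Nat.card ↥(A ⊓ centralizer (U : Set G)) :=
        Nat.mul_le_mul_right _ h'
    _ = _ := by ring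

theorem mn_of (hno : NoOverM U H) (hA : A ≤ H) (h : Mx U A) : Mn Q.Mod (im Q A) where
  el := el_im Q h.toElemM
  ex := xa_of Q hA h.exact
  ne := fun h1 => h.ne ((im_eq_bot Q hA).1 h1)
  min := by
    intro B' hB' hX
    obtain ⟨B, hBA, hcB, rfl⟩ := lift Q hA hB'
    have hBH := hBA.trans hA
    rcases h.min B hBA ((xa_iff Q hno hBH (VF.elemM_mono h.toElemM hBA)).1 hX) hcB with h1 | h1
    · exact Or.inl ((im_eq_bot Q hBH).2 h1)
    · exact Or.inr (by rw [h1])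

theorem mx_of (hno : NoOverM U H) (hA : A ≤ H) (hp : IsPGroup 2 A) (h : Mn Q.Mod (im Q A)) : Mx U A where
  toElemM := (el_iff Q hA).1 h.el
  pg := hp
  ne := fun h1 => h.ne ((im_eq_bot Q hA).2 h1)
  exact := (xa_iff Q hno hA ((el_iff Q hA).1 h.el)).1 h.ex
  min := by
    intro B hBA hX hk
    have hBH := hBA.trans hA
    rcases h.min _ (im_mono Q hBA) (xa_of Q hBH hX) with h1 | h1
    · exact Or.inl ((im_eq_bot Q hBH).1 h1)
    · exact Or.inr (le_antisymm hBA (le_of_im Q hA hBA hk h1.ge))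

theorem mn_iff (hno : NoOverM U H) (hA : A ≤ H) (hp : IsPGroup 2 A) : Mn Q.Mod (im Q A) ↔ Mx U A :=
  ⟨mx_of Q hno hA hp, mn_of Q hno hA⟩

/-- **`Sit`.** -/
theorem sit (hno : NoOverM U H) (h2 : ∀ v ∈ U, v * v = 1) : Sit Q.Mod (⊤ : Subgroup (XH Q)) where
  faith := fun x _ hx => XH_faith Q x hx
  ch := fun v => Nrm.ext (by
    rw [Nrm.val_add, Nrm.val_zero]
    exact h2 _ (Q.val_mem v))
  no := fun F _ h1 h3 => by
    have h4 := no_XH Q hno F (fun x hx y hy => h3 x hx y hy) (fun x hx => h1 x hx)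
    rw [← AddSubgroup.card_mul_index (fxd F : AddSubgroup Q.Mod), mul_comm]
    exact Nat.mul_le_mul_left _ h4

end fin

/-! ### conjugates -/

theorem im_conj {A' : Subgroup (XH Q)} (hA' : A' ≤ im Q S) (h : H) :
    MulAut.conj (ph Q h) • A' = im Q (MulAut.conj (h : G) • pre Q S A') := by
  rw [im_cj, im_pre Q hA']

end Cfsg.Agent.Omega.NOThreeL.RRed.Ex.Dict
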