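import Cfsg.Agent.Omega.NOThreeL.RRed.Blk.TypesAbs

/-!
# NO-3L, box R: THEOREM EX (#26554), the abstract situation (text: helper245)

`H` acts faithfully on the elementary abelian 2-group `M`, `|A| |C_M(A)| ≤ |M|` for all elementary abelian `A ≤ H`.

* `Xa M A` : `A` is exact;  `Mn M A` : `A` is a minimal exact group;  `Fx W A` : `A` centralises `W`;
  `cw W A = C_A(W)`;
* `Gy M S PP W` : the group `S`, the parabolics `P ∈ PP` with their modules `W P`; facts about one `P`;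
* goal (`Ex/Main`): if all `B ≤ S` with `Mn M B` centralise the `H`-invariant `U`, then all exact elementary abelian
  `A ≤ S` centralise `U`.
-/

set_option autoImplicit false
set_option linter.unusedSectionVars false

namespace Cfsg.Agent.Omega.NOThreeL.RRed.Ex

open Subgroup
open scoped Pointwise
open Cfsg.Agent.Omega.NOThreeL.RRed.NS (fxd brk mem_fxd)
open Cfsg.Agent.Omega.NOThreeL.RRed.Blk.Types (Sit El)

universe u v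

variable {H : Type u} {M : Type v} [Group H] [AddCommGroup M] [DistribMulAction H M]

variable (M) in
/-- `A` is exact -/
def Xa (A : Subgroup H) : Prop := Nat.card M ≤ Nat.card A * Nat.card (fxd A : AddSubgroup M)

/-- `A` centralises `W` -/
def Fx (W : AddSubgroup M) (A : Subgroup H) : Prop := ∀ a ∈ A, ∀ w ∈ W, a • w = w

/-- `C_A(W)` -/
def cw (W : AddSubgroup M) (A : Subgroup H) : Subgroup H where
  carrier := {a | a ∈ A ∧ ∀ w ∈ W, a • w = w}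
  mul_mem' := fun {a b} ha hb => ⟨mul_mem ha.1 hb.1, fun w hw => by rw [mul_smul, hb.2 w hw, ha.2 w hw]⟩
  one_mem' := ⟨one_mem _, fun w _ => one_smul _ w⟩
  inv_mem' := fun {a} ha => ⟨inv_mem ha.1, fun w hw => by rw [inv_smul_eq_iff, ha.2 w hw]⟩

theorem mem_cw {W : AddSubgroup M} {A : Subgroup H} {a : H} : a ∈ cw W A ↔ a ∈ A ∧ ∀ w ∈ W, a • w = w := Iff.rfl

theorem cw_le {W : AddSubgroup M} {A : Subgroup H} : cw W A ≤ A := fun _ ha => ha.1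

theorem fx_cw {W : AddSubgroup M} {A : Subgroup H} : Fx W (cw W A) := fun _ ha => ha.2

variable (M) in
/-- `A` is a minimal exact group -/
structure Mn (A : Subgroup H) : Prop where
  el : El A
  ex : Xa M A
  ne : A ≠ ⊥
  min : ∀ B ≤ A, Xa M B → B = ⊥ ∨ B = A

variable (M) in
/-- **The situation.** -/
structure Gy (S : Subgroup H) (PP : Set (Subgroup H)) (W : Subgroup H → AddSubgroup M) : Prop where
  sit : Sit M (⊤ : Subgroup H)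
  gen : sSup PP = ⊤
  SP : ∀ P ∈ PP, S ≤ P
  WP : ∀ P ∈ PP, ∀ p ∈ P, ∀ w ∈ W P, p • w ∈ W P
  PS : ∀ P ∈ PP, ∀ A ≤ S, Fx (W P) A → ∀ p ∈ P, MulAut.conj p • A ≤ S
  gal : ∀ A ≤ S, A ≠ ⊥ → ∃ h : H, MulAut.conj h • A ≤ S ∧ ∃ P ∈ PP, ¬ Fx (W P) (MulAut.conj h • A)
  sy : ∀ P ∈ PP, ∀ A ≤ S, ∀ p ∈ P, ∃ k ∈ closure {x | ∃ g ∈ P, ∃ a ∈ A, x = g * a * g⁻¹},
    MulAut.conj (k * p) • A ≤ S
  split : ∀ P ∈ PP, ∀ A ≤ S, El A → Xa M A → ¬ Fx (W P) A →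
    Xa M (cw (W P) A) ∧ ∀ m ∈ (fxd (cw (W P) A) : AddSubgroup M), ∃ w ∈ W P, ∃ c ∈ (fxd A : AddSubgroup M), m = w + c
  one : ∀ P ∈ PP, ∀ B ≤ S, Mn M B → ¬ Fx (W P) B → ∀ b ∈ B, b ≠ 1 → ∀ m : M, b • m = m →
    m ∈ (fxd B : AddSubgroup M)
  quad : ∀ P ∈ PP, ∀ B ≤ S, Mn M B → ¬ Fx (W P) B → ∀ B' ≤ S, Mn M B' → brk M B ≤ fxd B'
  out : ∀ P ∈ PP, ∀ B ≤ S, Mn M B → ¬ Fx (W P) B → ∀ b ∈ B, ∀ m : M, b • m ≠ m →
    ∃ p ∈ P, ∃ c ∈ B, (p * c * p⁻¹) • (b • m - m) ∉ (fxd B : AddSubgroup M)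
  pair : ∀ P ∈ PP, ∀ B ≤ S, ∀ B' ≤ S, Mn M B → Mn M B' → ¬ Fx (W P) B → ¬ Fx (W P) B' →
    ∀ b ∈ B, ∀ b' ∈ B', ∀ m m' : M, b • m - m = b' • m' - m' → b • m ≠ m →
      ∀ c ∈ B, ∃ c' ∈ B', ∀ w ∈ W P, c' • w = c • w
  sg : ∀ P ∈ PP, ∀ A ≤ S, El A → Xa M A → ¬ Fx (W P) A →
    (∃ X ≤ A, ∃ Y ≤ A, X ≠ A ∧ Y ≠ A ∧ Xa M X ∧ Xa M Y ∧ X ⊔ Y = A) ∨
      (∀ a ∈ A, (¬ ∀ w ∈ W P, a • w = w) → ∀ w ∈ W P, a • w = w → w ∈ (fxd A : AddSubgroup M))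
  cov : ∀ P ∈ PP, ∀ A ≤ S, El A → Xa M A → ¬ Fx (W P) A → ∀ U : AddSubgroup M, (∀ h : H, ∀ u ∈ U, h • u ∈ U) →
    U ≤ fxd (cw (W P) A) → ¬ U ≤ fxd A → ∀ s ∈ S, (∀ u ∈ U, s • u = u) → ∀ w ∈ W P, s • w = w
  wab : ∀ P ∈ PP, ∀ A ≤ S, El A → Xa M A → ∀ B ≤ S, Mn M B → ∀ a ∈ A, ∀ b ∈ B, ∀ w ∈ W P,
    a • b • w = b • a • w

/-- **THEOREM EX**, the statement. -/
def ExThm (M : Type v) [AddCommGroup M] [DistribMulAction H M] (S : Subgroup H) : Prop :=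
  ∀ U : AddSubgroup M, (∀ h : H, ∀ u ∈ U, h • u ∈ U) → (∀ B ≤ S, Mn M B → U ≤ fxd B) →
    ∀ A ≤ S, El A → Xa M A → U ≤ fxd A

/-- (b) -/
def CommMn (M : Type v) [AddCommGroup M] [DistribMulAction H M] (S : Subgroup H) : Prop :=
  ∀ A ≤ S, ∀ B ≤ S, Mn M A → Mn M B → ∀ a ∈ A, ∀ b ∈ B, a * b = b * a

/-- (one) -/
def OneMn (M : Type v) [AddCommGroup M] [DistribMulAction H M] (S : Subgroup H) : Prop :=
  ∀ B ≤ S, Mn M B → ∀ b ∈ B, b ≠ 1 → ∀ m : M, b • m = m → m ∈ (fxd B : AddSubgroup M)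

/-- (SC) -/
def ScMn (M : Type v) [AddCommGroup M] [DistribMulAction H M] (S : Subgroup H) : Prop :=
  ∀ A ≤ S, ∀ B ≤ S, Mn M A → Mn M B → ∀ a ∈ A, ∀ b ∈ B, ∀ m m' : M, a • m - m = b • m' - m' → a • m ≠ m → A = B

/-- (c) -/
def CommX (M : Type v) [AddCommGroup M] [DistribMulAction H M] (S : Subgroup H) : Prop :=
  ∀ A ≤ S, El A → Xa M A → ∀ B ≤ S, Mn M B → ∀ a ∈ A, ∀ b ∈ B, a * b = b * a

end Cfsg.Agent.Omega.NOThreeL.RRed.Ex
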