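import Cfsg.Agent.Omega.NOThreeL.RRed.Blk.AsmG
import Cfsg.Agent.Omega.NOThreeL.RRed.Ex.Def

/-!
# NO-3L, box R: THEOREM EX (#27096), the instance of `Gy`: the fields `sy` and `split` (text: helper245)

`Q : Nrm L U`, `H := XH Q`, `M := Q.Mod`, `S := im Q S`, `im Q P` for `P ∈ P*(S)`, `P ≤ L`.

* `exists_im` : the subgroups of `im Q S` are the `im Q A`, `A ≤ S`;
* `sy_grp`, **`sy`** : `A ≤ S ≤ P`, `p ∈ P`: `A^(kp) ≤ S` for some `k ∈ ⟨A^P⟩` (Frattini);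
* `cw_im` : `C_{im A}(W) = im (C_A(W))` for `W ≤ U`;
* `exa_of`, `xa_of` : exactness in the two languages;
* **`split`** : `A ≤ S` exact on `U = zl S L`, moving `V_P`: `C_A(V_P)` is exact, `C_U(C_A(V_P)) = V_P C_U(A)`.
-/

set_option autoImplicit false
set_option linter.unusedSectionVars false

namespace Cfsg.Agent.Omega.NOThreeL.RRed.Ex.InstB

open Subgroup Cfsg Cfsg.Agent.ZN Cfsg.Agent.Omega.MinPar
open Cfsg.Agent.Omega.FFThm
open Cfsg.Agent.Omega.NOThreeL.RSplit (Nrm)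
open Cfsg.Agent.Omega.NOThreeL.RRed.NS (fxd brk mem_fxd smul_eq_iff)
open Cfsg.Agent.Omega.NOThreeL.RRed.Blk.Split (ncl mem_ncl le_ncl norm_ncl ncl_le)
open Cfsg.Agent.Omega.NOThreeL.RRed.Blk.TypesNat (XH ph ph_smul mem_ker)
open Cfsg.Agent.Omega.NOThreeL.RRed.Blk.AsmCore
open Cfsg.Agent.Omega.NOThreeL.RRed.Blk.Types (El)
open scoped Pointwise

universe u

variable {G : Type u} [Group G]

section basic

variable {L U : Subgroup G} (Q : Nrm L U)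

/-- the subgroups of `im Q S` are images of subgroups of `S` -/
theorem exists_im {S : Subgroup G} {A' : Subgroup (XH Q)} (h : A' ≤ im Q S) : ∃ A ≤ S, im Q A = A' := by
  refine ⟨(A'.comap (ph Q)).map L.subtype ⊓ S, inf_le_right, ?_⟩
  ext x
  rw [mem_im]
  constructor
  · rintro ⟨a, ⟨⟨b, hb, hba⟩, -⟩, rfl⟩
    have h1 : b = a := Subtype.ext hba
    exact h1 ▸ hb
  · intro hx
    obtain ⟨s, hs, rfl⟩ := h hx
    exact ⟨s, ⟨⟨s, hx, rfl⟩, hs⟩, rfl⟩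

theorem im_ncl_le {P A : Subgroup G} (hP : P ≤ L) (hA : A ≤ L) :
    im Q (ncl P A) ≤ closure {x | ∃ g ∈ im Q P, ∃ a ∈ im Q A, x = g * a * g⁻¹} := by
  apply im_le_of
  unfold ncl
  rw [closure_le]
  rintro _ ⟨g, hg, a, ha, rfl⟩
  refine ⟨⟨g, hP hg⟩ * ⟨a, hA ha⟩ * ⟨g, hP hg⟩⁻¹, ?_, rfl⟩
  rw [SetLike.mem_coe, mem_comap, map_mul, map_mul, map_inv]
  exact subset_closure ⟨_, ph_mem_im Q hg, _, ph_mem_im Q ha, rfl⟩

/-- `C_{im A}(W) = im (C_A(W))`, `W ≤ U` -/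
theorem cw_im {W A : Subgroup G} (hW : W ≤ U) : cw (Q.ad W) (im Q A) = im Q (A ⊓ centralizer (W : Set G)) := by
  ext x
  rw [mem_cw, mem_im, mem_im]
  constructor
  · rintro ⟨⟨a, ha, rfl⟩, h⟩
    refine ⟨a, mem_inf.2 ⟨ha, mem_centralizer_iff.2 fun w hw => ?_⟩, rfl⟩
    have h1 := h (Q.of w (hW hw)) hw
    rw [ph_smul, smul_eq_iff, Nrm.val_of, mul_inv_eq_iff_eq_mul] at h1
    exact h1.symm
  · rintro ⟨a, ha, rfl⟩
    refine ⟨⟨a, (mem_inf.1 ha).1, rfl⟩, fun w hw => ?_⟩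
    rw [ph_smul, smul_eq_iff, mul_inv_eq_iff_eq_mul]
    exact (mem_centralizer_iff.1 (mem_inf.1 ha).2 _ hw).symm

theorem fx_im {W A : Subgroup G} (hW : W ≤ U) (hA : A ≤ L) :
    Fx (Q.ad W) (im Q A) ↔ A ≤ centralizer (W : Set G) := by
  constructor
  · intro h a ha
    rw [mem_centralizer_iff]
    intro w hw
    have h1 := h _ (ph_mem_im Q (a := ⟨a, hA ha⟩) ha) (Q.of w (hW hw)) hw
    rw [ph_smul, smul_eq_iff, Nrm.val_of, mul_inv_eq_iff_eq_mul] at h1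
    exact h1.symm
  · rintro h _ ⟨a, ha, rfl⟩ w hw
    rw [ph_smul, smul_eq_iff, mul_inv_eq_iff_eq_mul]
    exact (mem_centralizer_iff.1 (h ha) _ hw).symm

theorem elemM_of {A : Subgroup G} (hA : A ≤ L) (h : El (im Q A)) : ElemM U A where
  sq a ha := by
    have h1 := h.sq _ (ph_mem_im Q (a := ⟨a, hA ha⟩) ha)
    rw [← map_mul] at h1
    have h2 := (mem_ker Q).1 (MonoidHom.mem_ker.2 h1)
    rw [pow_two]
    exact h2
  comm a ha b hb := by
    have h1 := h.cm _ (ph_mem_im Q (a := ⟨a, hA ha⟩) ha) _ (ph_mem_im Q (a := ⟨b, hA hb⟩) hb)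
    have h3 : ph Q (⟨a, hA ha⟩ * ⟨b, hA hb⟩ * ⟨a, hA ha⟩⁻¹ * ⟨b, hA hb⟩⁻¹) = 1 := by
      rw [map_mul, map_mul, map_mul, map_inv, map_inv, h1]
      group
    exact (mem_ker Q).1 (MonoidHom.mem_ker.2 h3)

theorem card_mod : Nat.card Q.Mod = Nat.card U := rfl

theorem card_fxd_im [Finite G] {A : Subgroup G} (hA : A ≤ L) :
    Nat.card (fxd (im Q A) : AddSubgroup Q.Mod) = Nat.card ↥(U ⊓ centralizer (A : Set G)) := by
  have h1 : (fxd (im Q A) : AddSubgroup Q.Mod) = Q.ad (U ⊓ centralizer (A : Set G)) := by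
    ext m
    rw [fxd_im Q hA, Nrm.mem_ad, mem_inf]
    exact (and_iff_right (Q.val_mem m)).symm
  rw [h1, Nrm.card_ad inf_le_left]

theorem xa_of [Finite G] {A : Subgroup G} (hA : A ≤ L) (h : Exa U A) : Xa Q.Mod (im Q A) := by
  unfold Xa
  unfold Exa at h
  rw [card_fxd_im Q hA, card_mod]
  rw [← card_im Q hA] at h
  refine Nat.le_of_mul_le_mul_right ?_ (Nat.card_pos : 0 < Nat.card ↥(A ⊓ centralizer (U : Set G)))
  rw [h]
  exact le_of_eq (by ring)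

theorem exa_of [Finite G] {A : Subgroup G} (hA : A ≤ L) (hno : NoOverM U L) (hE : ElemM U A) (h : Xa Q.Mod (im Q A)) :
    Exa U A := by
  unfold Xa at h
  unfold Exa
  rw [card_fxd_im Q hA, card_mod] at h
  refine le_antisymm ?_ (hno A hA hE)
  calc Nat.card U * Nat.card ↥(A ⊓ centralizer (U : Set G))
      ≤ Nat.card (im Q A) * Nat.card ↥(U ⊓ centralizer (A : Set G)) * Nat.card ↥(A ⊓ centralizer (U : Set G)) :=
        Nat.mul_le_mul_right _ h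
    _ = Nat.card (im Q A) * Nat.card ↥(A ⊓ centralizer (U : Set G)) * Nat.card ↥(U ⊓ centralizer (A : Set G)) := by
        ring
    _ = Nat.card A * Nat.card ↥(U ⊓ centralizer (A : Set G)) := by rw [card_im Q hA]

end basic

/-! ### `sy` -/

/-- Frattini in `P` for `⟨A^P⟩` -/
theorem sy_grp [Finite G] {S P A : Subgroup G} (hSP : S ≤ P) (hS : IsPGroup 2 S) (hd : ¬ 2 ∣ S.relIndex P)
    (hA : A ≤ S) {p : G} (hp : p ∈ P) : ∃ k ∈ ncl P A, MulAut.conj (k * p) • A ≤ S := by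
  have h1 := MinSimple.Basic.frattini hSP hS hd (norm_ncl (P := P) (A := A)) hp
  have h2 : p ∈ ((ncl P A ⊔ (P ⊓ normalizer ((S ⊓ ncl P A : Subgroup G) : Set G)) : Subgroup G) : Set G) := h1
  rw [coe_mul_of_right_le_normalizer_left _ _ (inf_le_left.trans norm_ncl)] at h2
  obtain ⟨k, hk, n, hn, rfl⟩ := h2
  refine ⟨k⁻¹, inv_mem hk, ?_⟩
  dsimp only
  have e : k⁻¹ * (k * n) = n := by group
  rw [e]
  intro x hx
  rw [NS.mem_conj] at hx
  have h3 : n⁻¹ * x * n ∈ S ⊓ ncl P A := ⟨hA hx, le_ncl hx⟩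
  have h4 := (mem_normalizer_iff.1 hn.2 _).1 h3
  have e2 : n * (n⁻¹ * x * n) * n⁻¹ = x := by group
  rw [e2] at h4
  exact h4.1

/-- **the field `sy`** -/
theorem sy [Finite G] (S : Sylow 2 G) {L U P : Subgroup G} (Q : Nrm L U) (hSP : (S : Subgroup G) ≤ P) (hPL : P ≤ L) :
    ∀ A ≤ im Q (S : Subgroup G), ∀ p ∈ im Q P,
      ∃ k ∈ closure {x | ∃ g ∈ im Q P, ∃ a ∈ A, x = g * a * g⁻¹}, MulAut.conj (k * p) • A ≤ im Q (S : Subgroup G) := by
  intro A' hA' p' hp'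
  obtain ⟨A, hA, rfl⟩ := exists_im Q hA'
  obtain ⟨p, hp, rfl⟩ := hp'
  have hAP : A ≤ P := hA.trans hSP
  obtain ⟨k, hk, h1⟩ := sy_grp hSP S.isPGroup' (MinSimple.Basic.not_dvd_relIndex S hSP) hA
    (show (p : G) ∈ P from hp)
  have hkL : k ∈ L := hPL (ncl_le hAP hk)
  refine ⟨ph Q ⟨k, hkL⟩, im_ncl_le Q hPL (hAP.trans hPL) (ph_mem_im Q hk), ?_⟩
  rw [← map_mul, ← im_cj]
  exact im_mono Q h1

/-! ### `split` -/

/-- **the field `split`** -/
theorem split [Finite G] (hc : IsCharacteristicTwoType G) {S : Sylow 2 G} {L P : Subgroup G}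
    (Q : Nrm L (zl (S : Subgroup G) L)) (hP : IsParS (S : Subgroup G) P) (hPL : P ≤ L)
    (hno : NoOverM (zl (S : Subgroup G) L) L) :
    ∀ A ≤ im Q (S : Subgroup G), El A → Xa Q.Mod A → ¬ Fx (Q.ad (zl (S : Subgroup G) P)) A →
      Xa Q.Mod (cw (Q.ad (zl (S : Subgroup G) P)) A) ∧
      ∀ m ∈ (fxd (cw (Q.ad (zl (S : Subgroup G) P)) A) : AddSubgroup Q.Mod),
        ∃ w ∈ Q.ad (zl (S : Subgroup G) P), ∃ c ∈ (fxd A : AddSubgroup Q.Mod), m = w + c := by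
  intro A' hA' hE hX hF
  obtain ⟨A, hA, rfl⟩ := exists_im Q hA'
  have hAL : A ≤ L := (hA.trans hP.le).trans hPL
  have hWU : zl (S : Subgroup G) P ≤ zl (S : Subgroup G) L := NOThreeL.Star.zl_mono _ hPL
  have hcomm : zl (S : Subgroup G) L ≤ centralizer (zl (S : Subgroup G) L : Set G) := fun x hx =>
    mem_centralizer_iff.2 fun y hy => Q.ab y hy x hx
  have hEM := elemM_of Q hAL hE
  have hex := exa_of Q hAL hno hEM hX
  have hne : ¬ A ≤ centralizer (zl (S : Subgroup G) P : Set G) := fun h => hF ((fx_im Q hWU hAL).2 h)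
  obtain ⟨h1, -, -, -, h2⟩ := exact_split hc hP hPL hno hcomm hA hEM hex hne
  have hFL : A ⊓ centralizer (zl (S : Subgroup G) P : Set G) ≤ L := inf_le_left.trans hAL
  rw [cw_im Q hWU]
  refine ⟨xa_of Q hFL h1, fun m hm => ?_⟩
  rw [fxd_im Q hFL] at hm
  have h3 : Q.val m ∈ zl (S : Subgroup G) P ⊔ (zl (S : Subgroup G) L ⊓ centralizer (A : Set G)) := by
    rw [← h2]
    exact mem_inf.2 ⟨Q.val_mem m, hm⟩
  have h4 : Q.val m ∈ ((zl (S : Subgroup G) P ⊔ (zl (S : Subgroup G) L ⊓ centralizer (A : Set G)) : Subgroup G) :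
      Set G) := h3
  rw [coe_mul_of_left_le_normalizer_right _ _ ((hWU.trans hcomm).trans
    ((centralizer_le inf_le_left).trans (centralizer_le_normalizer _)))] at h4
  obtain ⟨w, hw, c, hc', h5⟩ := h4
  refine ⟨Q.of w (hWU hw), hw, Q.of c (mem_inf.1 hc').1, ?_, ?_⟩
  · rw [fxd_im Q hAL]
    exact (mem_inf.1 hc').2
  · exact Nrm.ext (by rw [Nrm.val_add]; exact h5.symm)

end Cfsg.Agent.Omega.NOThreeL.RRed.Ex.InstB
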