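import Cfsg.Agent.Omega.NOThreeL.RRed.Ex.Pf
import Cfsg.Agent.Omega.NOThreeL.RRed.NS.One

/-!
# NO-3L, box R: THEOREM EX (#26554): the facts about one parabolic, natural type (text: helper245)

* **`pf_nat`** : `Pf S P V U` for natural `P`.
-/

set_option autoImplicit false
set_option linter.unusedSectionVars false

namespace Cfsg.Agent.Omega.NOThreeL.RRed.Ex

open Subgroup Cfsg Cfsg.Agent.ZN Cfsg.Agent.ZN.ChoiceBase
open Cfsg.Agent.Omega.FFThm Cfsg.Agent.Omega.NatPair Cfsg.Agent.Lib.SL2Mat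
open Cfsg.Agent.Omega.NO3S.ThmB Cfsg.Agent.Omega.NO3S.KeyRad
open Cfsg.Agent.Omega.NOThreeL.RRed.NS

universe u

variable {G : Type u} [Group G] [Finite G] {F : Type} [Field F] [Finite F] [CharP F 2] {S P V D U A : Subgroup G} {k : ℕ}
  {M : NatKM F S P V D k} (h : Nb M)

section one

variable {i : Fin k} (O : One M U A i) (hVU : V ≤ U) (hAS : A ≤ S)
include h O hVU hAS

/-- an element of `A` which does not centralise `U` has a parameter `≠ 0` -/
theorem nat_ne {a : G} (ha : a ∈ A) {β : F} (hβ : ActsSL M.e V D a (sg i (up β))) {u : G} (hu : u ∈ U)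
    (hau : a * u ≠ u * a) : β ≠ 0 := by
  intro h0
  apply hau
  rw [h0, up_zero, sg_one] at hβ
  obtain ⟨v, hv, -, c, -, hca, rfl⟩ := O.full u hu
  have h1 := h.comm_of_one (h.SP' (hAS ha)) hβ hv
  exact ((show Commute a v from h1).mul_right (hca a ha)).eq

/-- `C_U(a) = C_U(A)` -/
theorem nat_one {a : G} (ha : a ∈ A) (hac : a ∉ centralizer (U : Set G)) {u : G} (hu : u ∈ U) (hau : a * u = u * a)
    {c : G} (hc : c ∈ A) : c * u = u * c := by
  obtain ⟨β, hβ⟩ := O.act a ha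
  obtain ⟨u', hu', hne⟩ : ∃ u' ∈ U, a * u' ≠ u' * a := by
    by_contra hcon
    push Not at hcon
    exact hac (mem_centralizer_iff.2 fun x hx => (hcon x hx).symm)
  have hb0 := nat_ne h O hVU hAS ha hβ hu' hne
  obtain ⟨v, hv, -, c', -, hca, rfl⟩ := O.full u hu
  have h1 : a * v = v * a := by
    have h2 : Commute a (v * c') := hau
    have h3 := h2.mul_right ((show Commute a c' from hca a ha).inv_right)
    rw [mul_inv_cancel_right] at h3
    exact h3
  have h2 : M.e v i 1 = 0 := by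
    have h3 := hβ.1 v hv i
    have e : a * v * a⁻¹ = v := by rw [h1]; group
    rw [e, sg_self] at h3
    have h4 := congrFun h3 0
    rw [ap_up_0] at h4
    have h5 : β * M.e v i 1 = 0 := left_eq_add.1 h4
    exact (mul_eq_zero.1 h5).resolve_left hb0
  exact ((show Commute c v from (O.cen v hv).2 h2 c hc).mul_right (hca c hc)).eq

/-- the coordinates of `[a, u]` -/
theorem nat_comm {a : G} (ha : a ∈ A) {u : G} (hu : u ∈ U) (hau : a * u ≠ u * a) :
    a * u * a⁻¹ * u⁻¹ ∈ V ∧ (∀ l, l ≠ i → M.e (a * u * a⁻¹ * u⁻¹) l = 0) ∧ M.e (a * u * a⁻¹ * u⁻¹) i 1 = 0 ∧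
      M.e (a * u * a⁻¹ * u⁻¹) i 0 ≠ 0 := by
  obtain ⟨β, hβ⟩ := O.act a ha
  have hb0 := nat_ne h O hVU hAS ha hβ hu hau
  obtain ⟨v, hv, hvl, c', -, hca, rfl⟩ := O.full u hu
  have haP := h.SP' (hAS ha)
  have e : a * (v * c') * a⁻¹ * (v * c')⁻¹ = a * v * a⁻¹ * v⁻¹ := by
    have h1 := hca a ha
    calc a * (v * c') * a⁻¹ * (v * c')⁻¹ = a * v * a⁻¹ * (a * c') * a⁻¹ * c'⁻¹ * v⁻¹ := by group
      _ = a * v * a⁻¹ * v⁻¹ := by rw [h1]; group
  rw [e]
  have hm := h.memV haP hv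
  have e0 : M.e (a * v * a⁻¹ * v⁻¹) = M.e (a * v * a⁻¹) + M.e v := h.e_div hm hv
  have hv1 : M.e v i 1 ≠ 0 := fun h0 => hau (by
    exact ((show Commute a v from (O.cen v hv).2 h0 a ha).mul_right (hca a ha)).eq)
  refine ⟨mul_mem hm (inv_mem hv), fun l hl => ?_, ?_, ?_⟩
  · rw [e0, Pi.add_apply, hβ.1 v hv l, sg_ne hl, ap_one, hvl l hl, add_zero]
  · rw [e0, Pi.add_apply, Pi.add_apply, hβ.1 v hv i, sg_self, ap_up_1]
    exact CharTwo.add_self_eq_zero _
  · rw [e0, Pi.add_apply, Pi.add_apply, hβ.1 v hv i, sg_self, ap_up_0]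
    have e1 : M.e v i 0 + β * M.e v i 1 + M.e v i 0 = β * M.e v i 1 := by
      rw [add_comm, ← add_assoc, CharTwo.add_self_eq_zero, zero_add]
    rw [e1]
    exact mul_ne_zero hb0 hv1

theorem nat_out {a : G} (ha : a ∈ A) {u : G} (hu : u ∈ U) (hau : a * u ≠ u * a) :
    ∃ p ∈ P, ∃ c ∈ A, ∃ d ∈ A, d * (p * c * p⁻¹ * (a * u * a⁻¹ * u⁻¹) * (p * c * p⁻¹)⁻¹) ≠
      p * c * p⁻¹ * (a * u * a⁻¹ * u⁻¹) * (p * c * p⁻¹)⁻¹ * d := by
  obtain ⟨hxV, -, -, hx0⟩ := nat_comm h O hVU hAS ha hu hau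
  set x := a * u * a⁻¹ * u⁻¹ with hx
  obtain ⟨p, hp, hpA⟩ := exists_p M i
  obtain ⟨c, hc, hcA⟩ := O.all 1
  have h1 := acts_conj_of h hp hpA (h.SP' (hAS hc)) hcA
  by_contra hcon
  push Not at hcon
  have h2 := hcon p hp c hc
  have hgP : p * c * p⁻¹ ∈ P := mul_mem (mul_mem hp (h.SP' (hAS hc))) (inv_mem hp)
  have h3 := (O.cen _ (h.memV hgP hxV)).1 h2
  rw [h1.1 x hxV i, sg_self, ap_lo_1] at h3
  obtain ⟨-, -, hx1, -⟩ := nat_comm h O hVU hAS ha hu hau
  rw [← hx] at hx1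
  rw [hx1, add_zero] at h3
  rcases mul_eq_zero.1 h3 with h4 | h4
  · exact one_ne_zero (neg_eq_zero.1 h4)
  · exact hx0 h4

end one

section sg

variable (hVU : V ≤ U) (hAS : A ≤ S)
include h hVU hAS

/-- **the cut** (copy of `Tt.one`) -/
theorem nat_cut {I : Set (Fin k)} (hI1 : ∀ a ∈ A, ∃ b : Fin k → F, (∀ i, i ∉ I → b i = 0) ∧
      ActsSL M.e V D a fun i => up (b i))
    (hI2 : ∀ b : Fin k → F, (∀ i, i ∉ I → b i = 0) → ∃ a ∈ A, ActsSL M.e V D a fun i => up (b i))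
    {i : Fin k} (hi : i ∈ I) : ∃ B ≤ A, A ⊓ centralizer (U : Set G) ≤ B ∧ B ≠ A ∧
      Nat.card A * Nat.card ↥(U ⊓ centralizer (A : Set G)) ≤ Nat.card B * Nat.card ↥(U ⊓ centralizer (B : Set G)) ∧
      ∀ a ∈ A, ∀ b : Fin k → F, ActsSL M.e V D a (fun l => up (b l)) → (a ∈ B ↔ b i = 0) := by
  classical
  have hAP : A ≤ P := hAS.trans h.SP'
  have hsg : ∀ l ∈ I, ∀ β, ∃ a ∈ A, ActsSL M.e V D a (sg l (up β)) := fun l hl β => by
    obtain ⟨a, ha, hab⟩ := hI2 (Function.update 0 l β) fun j hj => by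
      rw [Function.update_of_ne (fun e => hj (by rw [e]; exact hl))]
      rfl
    refine ⟨a, ha, ?_⟩
    have e : (fun j => up (Function.update (0 : Fin k → F) l β j)) = sg l (up β) := by
      funext j
      by_cases hj : j = l
      · rw [hj, Function.update_self, sg_self]
      · rw [Function.update_of_ne hj, sg_ne hj, Pi.zero_apply, up_zero]
    rwa [e] at hab
  have hcen : ∀ v ∈ V, (∀ a ∈ A, a * v = v * a) → M.e v i 1 = 0 := fun v hv hc => by
    obtain ⟨a, ha, hab⟩ := hsg i hi 1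
    have h1 := hab.1 v hv i
    rw [sg_self] at h1
    have h2 : a * v * a⁻¹ = v := by rw [hc a ha]; group
    have h3 := congrFun h1 0
    rw [h2, ap_up_0, one_mul] at h3
    exact left_eq_add.1 h3
  obtain ⟨w0, hw0, hw0i, hw0l⟩ := Nb.exists_single M i ![0, 1]
  let B := Nb.Ai M A hAP h.VP' i
  have hBA : B ≤ A := fun a ha => ha.1
  have hent : ∀ a ∈ A, ∃ b : Fin k → F, (∀ l, l ∉ I → b l = 0) ∧ ActsSL M.e V D a (fun l => up (b l)) ∧
      M.e (a * w0 * a⁻¹) i 0 = b i := fun a ha => by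
    obtain ⟨b, hb, hab⟩ := hI1 a ha
    exact ⟨b, hb, hab, h.up_entry hab hw0 hw0i⟩
  have hBb : ∀ a ∈ A, ∀ b : Fin k → F, ActsSL M.e V D a (fun l => up (b l)) → (a ∈ B ↔ b i = 0) := by
    intro a ha b hab
    constructor
    · intro haB
      have h1 := haB.2 w0 hw0
      have h2 := h.up_entry hab hw0 hw0i
      rw [h1, hw0i] at h2
      exact h2.symm
    · intro h0
      refine ⟨ha, fun v hv => ?_⟩
      have h1 := hab.1 v hv i
      simp only [h0, up_zero, ap_one] at h1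
      exact h1
  have h1B : A ⊓ centralizer (U : Set G) ≤ B := fun a ha => by
    refine ⟨ha.1, fun v hv => ?_⟩
    have h1 : a * v * a⁻¹ = v := by
      rw [← (mem_centralizer_iff.1 ha.2 v (hVU hv))]
      group
    rw [h1]
  have hBne : B ≠ A := fun e => by
    obtain ⟨a, ha, hab⟩ := hsg i hi 1
    have haB : a ∈ B := by rw [e]; exact ha
    have h1 := haB.2 w0 hw0
    have h2 := hab.1 w0 hw0 i
    rw [h1, sg_self, hw0i] at h2
    have h3 := congrFun h2 0
    rw [ap_up_0] at h3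
    simp at h3
  have hBV : ∀ a ∈ B, ∀ v ∈ V, (∀ l, l ≠ i → M.e v l = 0) → a * v = v * a := by
    intro a ha v hv hvl
    obtain ⟨b, hb, hab⟩ := hI1 a ha.1
    have h0 := (hBb a ha.1 b hab).1 ha
    exact h.dir (hAP ha.1) hab (by simp only [h0, up_zero]) hv hvl
  have hcA : Nat.card A ≤ Nat.card F * Nat.card B := by
    refine card_le_of_map (fun a => M.e (a * w0 * a⁻¹) i 0) fun a ha a' ha' he => ?_
    obtain ⟨b, hb, hab, hbi⟩ := hent a ha
    obtain ⟨b', hb', hab', hbi'⟩ := hent a' ha'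
    have h1 : b i = b' i := by rw [← hbi, ← hbi']; exact he
    have h2 := h.acts_mul (hAP ha') (h.acts_inv (hAP ha) hab) hab'
    have e : ((fun l => up (b l))⁻¹ * fun l => up (b' l)) = fun l => up (-(b l) + b' l) := by
      funext l
      rw [Pi.mul_apply, Pi.inv_apply, up_inv, up_mul]
    rw [e] at h2
    exact (hBb _ (mul_mem (inv_mem ha) ha') _ h2).2 (by rw [h1, neg_add_cancel])
  have hw : ∀ x : F, ∃ w ∈ V, M.e w i = ![0, x] ∧ ∀ l, l ≠ i → M.e w l = 0 := fun x => Nb.exists_single M i _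
  choose w hwV hwi hwl using hw
  have hinj : ∀ x c y d, c ∈ U → (∀ a ∈ A, a * c = c * a) → d ∈ U → (∀ a ∈ A, a * d = d * a) →
      w x * c = w y * d → x = y ∧ c = d := by
    intro x c y d hc hca hd hda e
    have h1 : (w y)⁻¹ * w x = d * c⁻¹ := by
      calc (w y)⁻¹ * w x = (w y)⁻¹ * (w x * c) * c⁻¹ := by group
        _ = (w y)⁻¹ * (w y * d) * c⁻¹ := by rw [e]
        _ = d * c⁻¹ := by group
    have h2 := hcen _ (mul_mem (inv_mem (hwV y)) (hwV x)) (fun a ha => by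
      rw [h1]
      exact (show Commute a d from hda a ha).mul_right ((show Commute a c from hca a ha).inv_right))
    rw [M.mul _ (inv_mem (hwV y)) _ (hwV x), h.e_inv (hwV y), Pi.add_apply, Pi.add_apply, hwi, hwi] at h2
    simp only [Matrix.cons_val_one, Matrix.cons_val_zero] at h2
    have h3 : x = y := by
      rw [add_comm] at h2
      exact CharTwo.add_eq_zero.1 h2
    refine ⟨h3, ?_⟩
    rw [h3] at e
    exact mul_left_cancel e
  have hcU : Nat.card F * Nat.card ↥(U ⊓ centralizer (A : Set G)) ≤ Nat.card ↥(U ⊓ centralizer (B : Set G)) := by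
    rw [← Nat.card_prod]
    refine Nat.card_le_card_of_injective
      (fun p : F × ↥(U ⊓ centralizer (A : Set G)) =>
        (⟨w p.1 * p.2, mul_mem ?_ ?_⟩ : ↥(U ⊓ centralizer (B : Set G)))) fun p q e => ?_
    · exact ⟨hVU (hwV _), mem_centralizer_iff.2 fun a ha => hBV a ha _ (hwV _) (hwl _)⟩
    · exact ⟨p.2.2.1, mem_centralizer_iff.2 fun a ha => mem_centralizer_iff.1 p.2.2.2 a (hBA ha)⟩
    · have h1 := hinj p.1 p.2 q.1 q.2 p.2.2.1 (mem_centralizer_iff.1 p.2.2.2) q.2.2.1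
        (mem_centralizer_iff.1 q.2.2.2) (congrArg Subtype.val e)
      exact Prod.ext h1.1 (Subtype.ext h1.2)
  refine ⟨B, hBA, h1B, hBne, ?_, hBb⟩
  calc Nat.card A * Nat.card ↥(U ⊓ centralizer (A : Set G)) ≤
      Nat.card F * Nat.card B * Nat.card ↥(U ⊓ centralizer (A : Set G)) := Nat.mul_le_mul_right _ hcA
    _ = Nat.card B * (Nat.card F * Nat.card ↥(U ⊓ centralizer (A : Set G))) := by ring
    _ ≤ _ := Nat.mul_le_mul_left _ hcU

omit hVU in
/-- `A` acts as the root group of one block: `Tt V A` -/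
theorem nat_tt (hoff : OffM V A) {i : Fin k} (hI : ∀ a ∈ A, ∃ b : Fin k → F, (∀ l, l ≠ i → b l = 0) ∧
      ActsSL M.e V D a fun i => up (b i)) : Tt V A where
  elem := hoff.toElemM
  ne := hoff.ne
  off := hoff.le
  min B h1 h2 h3 h4 := by
    by_contra hcon
    rw [not_lt] at hcon
    apply h3
    have hAP : A ≤ P := hAS.trans h.SP'
    have hoB : OffM V B := by
      refine ⟨⟨fun a ha => hoff.sq a (h2 ha), fun a ha b hb => hoff.comm a (h2 ha) b (h2 hb)⟩, h4, ?_⟩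
      have h5 : Nat.card ↥(B ⊓ centralizer (V : Set G)) ≤ Nat.card ↥(A ⊓ centralizer (V : Set G)) :=
        Subgroup.card_le_of_le (inf_le_inf_right _ h2)
      exact ((Nat.mul_le_mul_left _ h5).trans hoff.le).trans hcon
    obtain ⟨J, hJ1, hJ2⟩ := M.offM B (h2.trans hAS) hoB
    -- `i ∈ J`
    have hiJ : i ∈ J := by
      by_contra hi
      apply h4
      intro b hb
      rw [mem_centralizer_iff]
      intro v hv
      obtain ⟨f, hf, hfb⟩ := hJ1 b hb
      obtain ⟨f', hf', hfb'⟩ := hI b (h2 hb)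
      have key : ∀ l, f l = 0 := by
        intro l
        by_cases hl : l = i
        · rw [hl]; exact hf i hi
        · obtain ⟨w, hw, hwl, -⟩ := Nb.exists_single M l ![0, 1]
          rw [← h.up_entry hfb hw hwl, h.up_entry hfb' hw hwl]
          exact hf' l hl
      have e : (fun l => up (f l)) = (1 : Fin k → Matrix.SpecialLinearGroup (Fin 2) F) := by
        funext l
        rw [key l, up_zero]
        rfl
      rw [e] at hfb
      exact (h.comm_of_one (hAP (h2 hb)) hfb hv).symm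
    apply le_antisymm h2
    intro a ha
    obtain ⟨f, hf, hfa⟩ := hI a ha
    obtain ⟨b, hb, hfb⟩ := hJ2 f fun l hl => hf l fun e => hl (e ▸ hiJ)
    have h5 : b⁻¹ * a ∈ A ⊓ centralizer (V : Set G) := by
      refine mem_inf.2 ⟨mul_mem (inv_mem (h2 hb)) ha, mem_centralizer_iff.2 fun v hv => ?_⟩
      have h6 := h.same (hAP ha) (hAP (h2 hb)) hfa hfb hv
      calc v * (b⁻¹ * a) = b⁻¹ * (b * v * b⁻¹) * a := by group
        _ = b⁻¹ * (a * v * a⁻¹) * a := by rw [h6]
        _ = b⁻¹ * a * v := by group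
    have e : a = b * (b⁻¹ * a) := by group
    rw [e]
    exact mul_mem hb (h1 h5)

theorem nat_sg (hV2 : IsElementaryAbelian 2 V) (hoff : OffM V A) :
    (∃ X ≤ A, ∃ Y ≤ A, A ⊓ centralizer (U : Set G) ≤ X ∧ A ⊓ centralizer (U : Set G) ≤ Y ∧ X ≠ A ∧ Y ≠ A ∧
      Nat.card A * Nat.card ↥(U ⊓ centralizer (A : Set G)) ≤ Nat.card X * Nat.card ↥(U ⊓ centralizer (X : Set G)) ∧
      Nat.card A * Nat.card ↥(U ⊓ centralizer (A : Set G)) ≤ Nat.card Y * Nat.card ↥(U ⊓ centralizer (Y : Set G)) ∧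
      A ≤ X ⊔ Y) ∨
      (∀ a ∈ A, a ∉ centralizer (V : Set G) → ∀ v ∈ V, a * v = v * a → ∀ c ∈ A, c * v = v * c) := by
  classical
  have hAP : A ≤ P := hAS.trans h.SP'
  obtain ⟨I, hI1, hI2⟩ := M.offM A hAS hoff
  by_cases hI : ∃ i ∈ I, ∃ j ∈ I, i ≠ j
  · left
    obtain ⟨i, hi, j, hj, hij⟩ := hI
    obtain ⟨X, hXA, hX1, hXne, hXc, hXb⟩ := nat_cut h hVU hAS hI1 hI2 hi
    obtain ⟨Y, hYA, hY1, hYne, hYc, hYb⟩ := nat_cut h hVU hAS hI1 hI2 hj
    refine ⟨X, hXA, Y, hYA, hX1, hY1, hXne, hYne, hXc, hYc, fun a ha => ?_⟩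
    obtain ⟨f, hf, hfa⟩ := hI1 a ha
    obtain ⟨b, hb, hfb⟩ := hI2 (Function.update 0 i (f i)) fun l hl => by
      by_cases hli : l = i
      · rw [hli] at hl; exact absurd hi hl
      · rw [Function.update_of_ne hli]; rfl
    -- `b ∈ Y`, `a b⁻¹ ∈ X`
    have h1 : b ∈ Y := (hYb b hb _ hfb).2 (by
      rw [Function.update_of_ne (Ne.symm hij)]; rfl)
    have h2 : a * b⁻¹ ∈ X := by
      have h3 := h.acts_mul (inv_mem (hAP hb)) hfa (h.acts_inv (hAP hb) hfb)
      have e : ((fun l => up (f l)) * (fun l => up (Function.update (0 : Fin k → F) i (f i) l))⁻¹) =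
          fun l => up (f l + -(Function.update (0 : Fin k → F) i (f i) l)) := by
        funext l
        rw [Pi.mul_apply, Pi.inv_apply, up_inv, up_mul]
      rw [e] at h3
      refine (hXb _ (mul_mem ha (inv_mem hb)) _ h3).2 ?_
      rw [Function.update_self, add_neg_cancel]
    have e : a = a * b⁻¹ * b := by group
    rw [e]
    exact mul_mem (mem_sup_left h2) (mem_sup_right h1)
  · right
    push Not at hI
    -- `I = {i}`
    obtain ⟨i, hi⟩ : ∃ i, ∀ l, l ∈ I → l = i := by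
      by_cases hne : I.Nonempty
      · obtain ⟨i, hi⟩ := hne
        exact ⟨i, fun l hl => hI l hl i hi⟩
      · exfalso
        rw [Set.not_nonempty_iff_eq_empty] at hne
        refine hoff.ne fun a ha => mem_centralizer_iff.2 fun v hv => ?_
        obtain ⟨b, hb, hab⟩ := hI1 a ha
        have e : (fun i => up (b i)) = (1 : Fin k → Matrix.SpecialLinearGroup (Fin 2) F) := by
          funext l
          rw [hb l (by rw [hne]; exact fun h => h), up_zero]
          rfl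
        rw [e] at hab
        exact (h.comm_of_one (hAP ha) hab hv).symm
    have hT := nat_tt h hAS hoff (i := i) fun a ha => by
      obtain ⟨b, hb, hab⟩ := hI1 a ha
      exact ⟨b, fun l hl => hb l fun hlI => hl (hi l hlI), hab⟩
    obtain ⟨j, O⟩ := hT.one h hV2 le_rfl hAS hoff.ne
    intro a ha hac v hv hav c hc
    exact nat_one h O le_rfl hAS ha hac hv hav hc

omit hVU hAS in
theorem nat_wab {B : Subgroup G} (hA : A ≤ S) (hB : B ≤ S) (oA : OffM V A)
    (oB : OffM V B) {a b v : G} (ha : a ∈ A) (hb : b ∈ B) (hv : v ∈ V) :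
    a * (b * v * b⁻¹) * a⁻¹ = b * (a * v * a⁻¹) * b⁻¹ := by
  obtain ⟨I, hI1, -⟩ := M.offM A hA oA
  obtain ⟨J, hJ1, -⟩ := M.offM B hB oB
  obtain ⟨f, -, hf⟩ := hI1 a ha
  obtain ⟨f', -, hf'⟩ := hJ1 b hb
  exact h.swap (h.SP' (hA ha)) (h.SP' (hB hb)) hf hf' (h.up_comm _ _) hv

end sg

include h in
/-- **natural type** -/
theorem pf_nat (hU2 : IsElementaryAbelian 2 U) (hVU : V ≤ U) : Pf S P V U where
  one := by
    intro B hB t hne b hb hbc u hu hbu c hc
    obtain ⟨i, O⟩ := t.one h hU2 hVU hB hne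
    exact nat_one h O hVU hB hb hbc hu hbu hc
  quad := by
    intro B hB t hne B' hB' t' b hb u hu c hc
    obtain ⟨i, O⟩ := t.one h hU2 hVU hB hne
    exact comm_Y h O hB hU2 hVU hB' t' hc hu hb
  out := by
    intro B hB t hne b hb u hu hbu
    obtain ⟨i, O⟩ := t.one h hU2 hVU hB hne
    exact nat_out h O hVU hB hb hu hbu
  pair := by
    intro B hB B' hB' t t' hne hne' b hb b' hb' u hu u' hu' e hbu c hc
    obtain ⟨i, O⟩ := t.one h hU2 hVU hB hne
    obtain ⟨j, O'⟩ := t'.one h hU2 hVU hB' hne'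
    have h1 := nat_comm h O hVU hB hb hu hbu
    have hbu' : b' * u' ≠ u' * b' := by
      intro h2
      have h3 : b' * u' * b'⁻¹ * u'⁻¹ = 1 := by rw [h2]; group
      rw [← e] at h3
      apply hbu
      exact mul_inv_eq_iff_eq_mul.1 (mul_inv_eq_one.1 h3)
    have h2 := nat_comm h O' hVU hB' hb' hu' hbu'
    have hij : i = j := by
      by_contra hij
      rw [e] at h1
      exact h1.2.2.2 (by rw [h2.2.1 i hij]; rfl)
    subst hij
    obtain ⟨β, hβ⟩ := O.act c hc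
    obtain ⟨c', hc', hβ'⟩ := O'.all β
    exact ⟨c', hc', fun v hv => h.same (h.SP' (hB' hc')) (h.SP' (hB hc)) hβ' hβ hv⟩
  sg := fun A hA hoff => nat_sg h hVU hA h.V2 hoff
  wab := by
    intro A hA oA B hB t hne a ha b hb v hv
    exact nat_wab h hA hB oA (t.offM hU2 hVU hne) ha hb hv

end Cfsg.Agent.Omega.NOThreeL.RRed.Ex
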