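import Cfsg.Agent.Omega.NOThreeL.RRed.Ex.Lat

/-!
# NO-3L, box R: THEOREM EX (#26554), (a), (b), (SC) (text: helper245)

`G : Gy M S PP W`.

* `Gy.l1` **(L1)** : minimal exact `B, B' ≤ S` moving `W P`, `b = b'` on `W P`: `b' = b`;
* `Gy.t1`, `Gy.ab` : `s ∈ S` commuting with `B` on `W P` commutes with `B`;
* `Gy.comm` **(b)** : `CommMn M S`;  `Gy.oneMn` : `OneMn M S`;  `Gy.scMn` **(SC)** : `ScMn M S`.
-/

set_option autoImplicit false
set_option linter.unusedSectionVars false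

namespace Cfsg.Agent.Omega.NOThreeL.RRed.Ex

open Subgroup
open scoped Pointwise
open Cfsg.Agent.Omega.NOThreeL.RRed.NS (fxd brk mem_fxd)
open Cfsg.Agent.Omega.NOThreeL.RRed.Blk.Types (Sit El mem_cj card_cj fxd_cj brk_cj mem_sup_comm mem_fxd_sup sub_mem_brk brk_le)

universe u v

variable {H : Type u} {M : Type v} [Group H] [AddCommGroup M] [DistribMulAction H M] [Finite H] [Finite M]

variable {S : Subgroup H} {PP : Set (Subgroup H)} {W : Subgroup H → AddSubgroup M} (G : Gy M S PP W)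
  {P B B' : Subgroup H}

namespace Gy

include G

theorem cw_bot (hP : P ∈ PP) (hB : B ≤ S) (mB : Mn M B) (hm : ¬ Fx (W P) B) : cw (W P) B = ⊥ := by
  rcases mB.min _ cw_le (G.split P hP B hB mB.el mB.ex hm).1 with h | h
  · exact h
  · exact absurd (h ▸ fx_cw) hm

/-- `M = W P + C_M(B)` -/
theorem full (hP : P ∈ PP) (hB : B ≤ S) (mB : Mn M B) (hm : ¬ Fx (W P) B) (m : M) :
    ∃ w ∈ W P, ∃ c ∈ (fxd B : AddSubgroup M), m = w + c := by
  refine (G.split P hP B hB mB.el mB.ex hm).2 m ?_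
  rw [G.cw_bot hP hB mB hm, mem_fxd]
  intro a ha
  rw [mem_bot] at ha
  rw [ha, one_smul]

theorem smul_W (hP : P ∈ PP) {p : H} (hp : p ∈ P) {w : M} (hw : w ∈ W P) : p • w ∈ W P := G.WP P hP p hp w hw

/-- `[M, B] ≤ W P` -/
theorem brk_W (hP : P ∈ PP) (hB : B ≤ S) (mB : Mn M B) (hm : ¬ Fx (W P) B) {b : H} (hb : b ∈ B) (m : M) :
    b • m - m ∈ W P := by
  obtain ⟨w, hw, c, hc, rfl⟩ := G.full hP hB mB hm m
  rw [smul_add, hc b hb, add_sub_add_right_eq_sub]
  exact sub_mem (G.smul_W hP (G.SP P hP (hB hb)) hw) hw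

/-- two members moving `W P` commute -/
theorem comm_P (hP : P ∈ PP) (hB : B ≤ S) (mB : Mn M B) (hm : ¬ Fx (W P) B) (hB' : B' ≤ S) (mB' : Mn M B')
    (hm' : ¬ Fx (W P) B') : ∀ b ∈ B, ∀ b' ∈ B', b * b' = b' * b := fun b hb b' hb' =>
  G.sit.comm_of (mem_top _) (mem_top _)
    (fun m => mem_fxd.1 (G.quad P hP B hB mB hm B' hB' mB' (sub_mem_brk hb m)) b' hb')
    (fun m => mem_fxd.1 (G.quad P hP B' hB' mB' hm' B hB mB (sub_mem_brk hb' m)) b hb)

/-- **(L1)** -/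
theorem l1 (hP : P ∈ PP) (hB : B ≤ S) (mB : Mn M B) (hm : ¬ Fx (W P) B) (hB' : B' ≤ S) (mB' : Mn M B')
    (hm' : ¬ Fx (W P) B') {b b' : H} (hb : b ∈ B) (hb' : b' ∈ B') (h : ∀ w ∈ W P, b' • w = b • w) : b' = b := by
  have hc := G.comm_P hP hB mB hm hB' mB' hm'
  have hE : El (B ⊔ B') := mB.el.sup mB'.el hc
  have hX : Xa M (B ⊔ B') := (latt G.sit mB.el mB'.el hc mB.ex mB'.ex).1
  have hS : B ⊔ B' ≤ S := sup_le hB hB'
  have hmv : ¬ Fx (W P) (B ⊔ B') := fun h1 => hm fun a ha => h1 a (mem_sup_left ha)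
  set D : Subgroup H := cw (W P) (B ⊔ B') with hD
  have hDX : Xa M D := (G.split P hP _ hS hE hX hmv).1
  have hDE : El D := El.mono hE cw_le
  have hDS : D ≤ S := cw_le.trans hS
  have hWD : W P ≤ (fxd D : AddSubgroup M) := fun w hw d hd => hd.2 w hw
  -- `[M, B B'] ≤ W P`, `≤ C(B)`
  have hbr : ∀ x ∈ B ⊔ B', ∀ m : M, x • m - m ∈ W P ∧ x • m - m ∈ (fxd B : AddSubgroup M) := by
    intro x hx m
    obtain ⟨y, hy, z, hz, rfl⟩ := (mem_sup_comm hc).1 hx
    have e : (y * z) • m - m = (y • (z • m) - z • m) + (z • m - m) := by rw [mul_smul]; abel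
    rw [e]
    exact ⟨add_mem (G.brk_W hP hB mB hm hy _) (G.brk_W hP hB' mB' hm' hz _),
      add_mem (G.quad P hP B hB mB hm B hB mB (sub_mem_brk hy _))
        (G.quad P hP B' hB' mB' hm' B hB mB (sub_mem_brk hz _))⟩
  have hbD : brk M D ≤ fxd D := brk_le fun a ha m => hWD (hbr a (cw_le ha) m).1
  have hbb : b' * b⁻¹ ∈ D := ⟨mul_mem (mem_sup_right hb') (inv_mem (mem_sup_left hb)), fun w hw => by
    have h1 : b⁻¹ • w ∈ W P := G.smul_W hP (inv_mem (G.SP P hP (hB hb))) hw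
    rw [mul_smul, h _ h1, smul_inv_smul]⟩
  by_contra hne
  have hne1 : b' * b⁻¹ ≠ 1 := fun e => hne (mul_inv_eq_one.1 e)
  obtain ⟨v, hv⟩ : ∃ v : M, (b' * b⁻¹) • v ≠ v := by
    by_contra hcon
    push Not at hcon
    exact hne1 (G.sit.faith _ (mem_top _) hcon)
  obtain ⟨w, hw, c, hcc, rfl⟩ := G.full hP hB' mB' hm' v
  have e1 : (b' * b⁻¹) • (w + c) - (w + c) = b • c - c := by
    rw [smul_add, hbb.2 w hw, add_sub_add_left_eq_sub, ← hc _ (inv_mem hb) _ hb', mul_smul, hcc _ hb',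
      El.inv_eq mB.el hb]
  have e2 : b • c ≠ c := by
    intro e
    rw [e, sub_self] at e1
    exact hv (sub_eq_zero.1 e1)
  obtain ⟨p, hp, c', hc', hout⟩ := G.out P hP B hB mB hm b hb c e2
  set g : H := p * c' * p⁻¹ with hg
  have hgP : g ∈ P := mul_mem (mul_mem hp (G.SP P hP (hB hc'))) (inv_mem hp)
  -- `g` is trivial on `M / W P`
  have hgW : ∀ m : M, g • m - m ∈ W P := by
    intro m
    have h1 : g • m - m = p • (c' • (p⁻¹ • m) - p⁻¹ • m) := by
      rw [smul_sub, smul_inv_smul, hg, mul_smul, mul_smul]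
    rw [h1]
    exact G.smul_W hP hp (G.brk_W hP hB mB hm hc' _)
  have hgW' : ∀ m : M, g⁻¹ • m - m ∈ W P := by
    intro m
    have h1 : g⁻¹ • m - m = - (g⁻¹ • (g • m - m)) := by
      rw [smul_sub, inv_smul_smul]; abel
    rw [h1]
    exact neg_mem (G.smul_W hP (inv_mem hgP) (hgW m))
  have hcj : MulAut.conj g • D = D := by
    refine G.sit.cj_eq le_top hDE hDX hbD (mem_top g) fun m => ?_
    constructor
    · intro h1
      have e : g⁻¹ • m = (g⁻¹ • m - m) + m := by abel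
      rw [e]
      exact add_mem (hWD (hgW' m)) h1
    · intro h1
      have e : m = g⁻¹ • m - (g⁻¹ • m - m) := by abel
      rw [e]
      exact sub_mem h1 (hWD (hgW' m))
  apply hout
  rw [← e1]
  have h1 : g * (b' * b⁻¹) * g⁻¹ ∈ D := by rw [← hcj]; exact mem_cj_of hbb
  have h2 := (hbr _ (cw_le h1) (g • (w + c))).2
  have e : (g * (b' * b⁻¹) * g⁻¹) • g • (w + c) - g • (w + c) = g • ((b' * b⁻¹) • (w + c) - (w + c)) := by
    rw [smul_sub, ← mul_smul, ← mul_smul]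
    congr 2
    group
  rwa [e] at h2

/-- `s ∈ S` commuting with `B` on `W P` commutes with `B` -/
theorem t1 (hP : P ∈ PP) (hB : B ≤ S) (mB : Mn M B) (hm : ¬ Fx (W P) B) {s : H} (hs : s ∈ S)
    (h : ∀ b ∈ B, ∀ w ∈ W P, s • b • w = b • s • w) : ∀ b ∈ B, s * b = b * s := by
  intro b hb
  have hsP := G.SP P hP hs
  have hm' : ¬ Fx (W P) (MulAut.conj s • B) := fun h1 => hm (by
    have h2 := h1.cj (x := s⁻¹) fun w hw => by rw [inv_inv]; exact G.smul_W hP hsP hw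
    rwa [cj_cj_inv] at h2)
  have h1 := G.l1 hP hB mB hm (cj_le_of_mem hs hB) (mB.cj s) hm' hb (mem_cj_of hb) fun w hw => by
    have h2 : s⁻¹ • w ∈ W P := G.smul_W hP (inv_mem hsP) hw
    rw [mul_smul, mul_smul, h b hb _ h2, smul_inv_smul]
  rw [mul_inv_eq_iff_eq_mul] at h1
  exact h1

theorem t1' (hP : P ∈ PP) (hB : B ≤ S) (mB : Mn M B) (hm : ¬ Fx (W P) B) {s : H} (hs : s ∈ S)
    (h : ∀ w ∈ W P, s • w = w) : ∀ b ∈ B, s * b = b * s := by
  refine G.t1 hP hB mB hm hs fun b hb w hw => ?_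
  rw [h w hw, h _ (G.smul_W hP (G.SP P hP (hB hb)) hw)]

/-- **(ab)** -/
theorem ab : ∀ P ∈ PP, ∀ A ≤ S, El A → Xa M A → ∀ B ≤ S, Mn M B → ¬ Fx (W P) B → ∀ a ∈ A, ∀ b ∈ B, a * b = b * a :=
  fun P hP A hA eA xA _ hB mB hm a ha b hb =>
    G.t1 hP hB mB hm (hA ha) (fun b hb w hw => G.wab P hP A hA eA xA _ hB mB a ha b hb w hw) b hb

omit [Finite H] [Finite M] in
theorem fx_sup {W : AddSubgroup M} {A B : Subgroup H} (hA : Fx W A) (hB : Fx W B) : Fx W (A ⊔ B) := by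
  intro x hx w hw
  exact mem_fxd_sup (M := M) (fun a ha => hA a ha w hw) (fun b hb => hB b hb w hw) x hx

/-- **(b)** -/
theorem comm : CommMn M S := by
  intro A hA B hB mA mB
  have hS : A ⊔ B ≤ S := sup_le hA hB
  have hne : A ⊔ B ≠ ⊥ := fun e => mA.ne (le_bot_iff.1 (e ▸ le_sup_left))
  obtain ⟨h, hh, P, hP, hmv⟩ := G.gal _ hS hne
  have hA' : MulAut.conj h • A ≤ S := (cj_mono le_sup_left).trans hh
  have hB' : MulAut.conj h • B ≤ S := (cj_mono le_sup_right).trans hh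
  have key : ∀ a ∈ MulAut.conj h • A, ∀ b ∈ MulAut.conj h • B, a * b = b * a := by
    by_cases h1 : Fx (W P) (MulAut.conj h • A)
    · have h2 : ¬ Fx (W P) (MulAut.conj h • B) := fun h2 => hmv (by
        rw [Subgroup.smul_sup]
        exact fx_sup G h1 h2)
      exact G.ab P hP _ hA' (mA.cj h).el (mA.cj h).ex _ hB' (mB.cj h) h2
    · exact fun a ha b hb => (G.ab P hP _ hB' (mB.cj h).el (mB.cj h).ex _ hA' (mA.cj h) h1 b hb a ha).symm
  intro a ha b hb
  have h1 := key _ (mem_cj_of ha) _ (mem_cj_of hb)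
  have h2 : h * (a * b) * h⁻¹ = h * (b * a) * h⁻¹ := by
    calc h * (a * b) * h⁻¹ = h * a * h⁻¹ * (h * b * h⁻¹) := by group
      _ = h * b * h⁻¹ * (h * a * h⁻¹) := h1
      _ = _ := by group
  exact mul_left_cancel (mul_right_cancel h2)

theorem oneMn : OneMn M S := by
  intro B hB mB b hb hb1 m hm
  obtain ⟨h, hh, P, hP, hmv⟩ := G.gal _ hB mB.ne
  have h1 := G.one P hP _ hh (mB.cj h) hmv _ (mem_cj_of hb) (fun e => hb1 (by
    have : h * b * h⁻¹ = h * 1 * h⁻¹ := by rw [e]; group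
    exact mul_left_cancel (mul_right_cancel this))) (h • m) (by
      have e : h * b * h⁻¹ * h = h * b := by group
      rw [← mul_smul, e, mul_smul, hm])
  rw [fxd_cj, inv_smul_smul] at h1
  exact h1

/-- **(SC)** at one `P` -/
theorem sc_P {A : Subgroup H} (hP : P ∈ PP) (hA : A ≤ S) (mA : Mn M A) (hm : ¬ Fx (W P) A) (hB : B ≤ S) (mB : Mn M B)
    {a b : H} (ha : a ∈ A) (hb : b ∈ B) {m m' : M} (h : a • m - m = b • m' - m') (hne : a • m ≠ m) : A = B := by
  by_cases hmB : Fx (W P) B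
  · exfalso
    obtain ⟨p, hp, c, hc, hout⟩ := G.out P hP A hA mA hm a ha m hne
    apply hout
    -- `B^(p⁻¹) ≤ S` commutes with `A`
    have h1 : MulAut.conj p⁻¹ • B ≤ S := G.PS P hP B hB hmB _ (inv_mem hp)
    have h2 : Fx (W P) (MulAut.conj p⁻¹ • B) := hmB.cj fun w hw => by
      rw [inv_inv]; exact G.smul_W hP hp hw
    have h3 : p⁻¹ * b * p ∈ MulAut.conj p⁻¹ • B := by
      have := mem_cj_of (x := p⁻¹) hb
      rwa [inv_inv] at this
    have h4 := G.t1' hP hA mA hm (h1 h3) (h2 _ h3) c hc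
    have h5 : p * c * p⁻¹ * b = b * (p * c * p⁻¹) := by
      calc p * c * p⁻¹ * b = p * (c * (p⁻¹ * b * p)) * p⁻¹ := by group
        _ = p * (p⁻¹ * b * p * c) * p⁻¹ := by rw [h4]
        _ = _ := by group
    -- `[M, b] ≤ C(A)`
    have h6 : ∀ n : M, b • n - n ∈ (fxd A : AddSubgroup M) := by
      intro n a' ha'
      obtain ⟨w, hw, c', hc', rfl⟩ := G.full hP hA mA hm n
      have e : b • (w + c') - (w + c') = b • c' - c' := by
        rw [smul_add, hmB b hb w hw, add_sub_add_left_eq_sub]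
      have h7 := G.t1' hP hA mA hm (hB hb) (hmB b hb) a' ha'
      rw [e, smul_sub, hc' a' ha', ← mul_smul, ← h7, mul_smul, hc' a' ha']
    rw [h]
    have e : (p * c * p⁻¹) • (b • m' - m') = b • ((p * c * p⁻¹) • m') - (p * c * p⁻¹) • m' := by
      rw [smul_sub, ← mul_smul, h5, mul_smul]
    rw [e]
    exact h6 _
  · have h1 : A ≤ B := by
      intro c hc
      obtain ⟨c', hc', h2⟩ := G.pair P hP A hA B hB mA mB hm hmB a ha b hb m m' h hne c hc
      rw [← G.l1 hP hA mA hm hB mB hmB hc hc' h2]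
      exact hc'
    rcases mB.min A h1 mA.ex with h2 | h2
    · exact absurd h2 mA.ne
    · exact h2

/-- **(SC)** -/
theorem scMn : ScMn M S := by
  intro A hA B hB mA mB a ha b hb m m' h hne
  have hS : A ⊔ B ≤ S := sup_le hA hB
  have hne' : A ⊔ B ≠ ⊥ := fun e => mA.ne (le_bot_iff.1 (e ▸ le_sup_left))
  obtain ⟨x, hh, P, hP, hmv⟩ := G.gal _ hS hne'
  have hA' : MulAut.conj x • A ≤ S := (cj_mono le_sup_left).trans hh
  have hB' : MulAut.conj x • B ≤ S := (cj_mono le_sup_right).trans hh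
  have e : ∀ (a : H) (m : M), (x * a * x⁻¹) • x • m - x • m = x • (a • m - m) := by
    intro a m
    have e : x * a * x⁻¹ * x = x * a := by group
    rw [← mul_smul, e, mul_smul, smul_sub]
  have h1 : (x * a * x⁻¹) • x • m - x • m = (x * b * x⁻¹) • x • m' - x • m' := by rw [e, e, h]
  have h2 : (x * a * x⁻¹) • x • m ≠ x • m := by
    intro h3
    have h4 := e a m
    rw [h3, sub_self, eq_comm, smul_eq_zero_iff_eq] at h4
    exact hne (sub_eq_zero.1 h4)
  have h3 : (x * b * x⁻¹) • x • m' ≠ x • m' := by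
    intro h3
    rw [h3, sub_self, sub_eq_zero] at h1
    exact h2 h1
  have key : MulAut.conj x • A = MulAut.conj x • B := by
    by_cases hf : Fx (W P) (MulAut.conj x • A)
    · have hf' : ¬ Fx (W P) (MulAut.conj x • B) := fun h2 => hmv (by
        rw [Subgroup.smul_sup]
        exact fx_sup G hf h2)
      exact (G.sc_P hP hB' (mB.cj x) hf' hA' (mA.cj x) (mem_cj_of hb) (mem_cj_of ha) h1.symm h3).symm
    · exact G.sc_P hP hA' (mA.cj x) hf hB' (mB.cj x) (mem_cj_of ha) (mem_cj_of hb) h1 h2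
  have := congrArg (fun A => MulAut.conj x⁻¹ • A) key
  simpa only [cj_cj_inv] using this

end Gy

end Cfsg.Agent.Omega.NOThreeL.RRed.Ex
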