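import Cfsg.Agent.Omega.NOThreeL.RRed.Ex.Lat

/-!
# NO-3L, box R: THEOREM EX (#26554), (c): the count (text: helper245, literal: helper70)

`A` exact, `F ≤ A` exact, `B` exact, `C_M(b) = C_M(B)` for `1 ≠ b ∈ B`, `C_{C_M(F)}(a) = C_M(A)` for `a ∈ A - F`,
`M = C_M(A) + C_M(B)`, `[F, B] = 1 = F ∩ B`, `B^a ≤ F B`. `A` acts on `F B / F ≅ B` by `θ_a`. If `θ_a ≠ 1` for some
`a`, then `|B| ≤ |A : F| ≤ |C_B(A)| < |B|`. So `b^a ∈ b F`, and `[M, b^a] = [C_M(A), b] ≤ [M, b]`.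

* **`cnt`**.
-/

set_option autoImplicit false
set_option linter.unusedSectionVars false

namespace Cfsg.Agent.Omega.NOThreeL.RRed.Ex

open Subgroup
open scoped Pointwise
open Cfsg.Agent.Omega.NOThreeL.RRed.NS (fxd brk mem_fxd)
open Cfsg.Agent.Omega.NOThreeL.RRed.Blk.Types (Sit El)

universe u v

namespace Cnt

variable {H : Type u} {M : Type v} [Group H] [AddCommGroup M] [DistribMulAction H M]

/-- `|K| = |K ∩ ker f| |f(K)|` -/
theorem card_map_ker [Finite M] (f : M →+ M) (K : AddSubgroup M) :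
    Nat.card K = Nat.card ↥(f.ker ⊓ K) * Nat.card (K.map f) := by
  have h1 : Nat.card (K.map f) = f.ker.relIndex K := (AddSubgroup.relIndex_ker K f).symm
  have h2 := AddSubgroup.relIndex_mul_relIndex (⊥ : AddSubgroup M) (f.ker ⊓ K) K bot_le inf_le_right
  rw [AddSubgroup.relIndex_bot_left, AddSubgroup.relIndex_bot_left, AddSubgroup.inf_relIndex_right] at h2
  rw [h1, h2]

/-- `m ↦ a m - m` -/
def dlt (a : H) : M →+ M := DistribSMul.toAddMonoidHom M a - AddMonoidHom.id M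

theorem dlt_apply (a : H) (m : M) : dlt a m = a • m - m := rfl

theorem mem_ker_dlt {a : H} {m : M} : m ∈ (dlt a : M →+ M).ker ↔ a • m = m := by
  rw [AddMonoidHom.mem_ker, dlt_apply, sub_eq_zero]

/-- the data -/
structure Dat (A F B : Subgroup H) (M : Type v) [AddCommGroup M] [DistribMulAction H M] (th : H → H → H) : Prop where
  s : Sit M (⊤ : Subgroup H)
  hA : El A
  xA : Xa M A
  FA : F ≤ A
  xF : Xa M F
  hB : El B
  xB : Xa M B
  oneB : ∀ b ∈ B, b ≠ 1 → ∀ m : M, b • m = m → m ∈ (fxd B : AddSubgroup M)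
  oneA : ∀ a ∈ A, a ∉ F → ∀ m ∈ (fxd F : AddSubgroup M), a • m = m → m ∈ (fxd A : AddSubgroup M)
  sM : ∀ m : M, ∃ x ∈ (fxd A : AddSubgroup M), ∃ y ∈ (fxd B : AddSubgroup M), m = x + y
  FB : ∀ f ∈ F, ∀ b ∈ B, f * b = b * f
  hd : F ⊓ B = ⊥
  thB : ∀ a ∈ A, ∀ b ∈ B, th a b ∈ B
  thF : ∀ a ∈ A, ∀ b ∈ B, (th a b)⁻¹ * (a * b * a⁻¹) ∈ F

namespace Dat

variable {A F B : Subgroup H} {th : H → H → H} (D : Dat A F B M th)
include D

theorem uniq {b c f g : H} (hb : b ∈ B) (hc : c ∈ B) (hf : f ∈ F) (hg : g ∈ F) (h : b * f = c * g) : b = c := by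
  have h1 : c⁻¹ * b = g * f⁻¹ := by
    calc c⁻¹ * b = c⁻¹ * (b * f) * f⁻¹ := by group
      _ = g * f⁻¹ := by rw [h]; group
  have h2 : c⁻¹ * b ∈ F ⊓ B := mem_inf.2 ⟨h1 ▸ mul_mem hg (inv_mem hf), mul_mem (inv_mem hc) hb⟩
  rw [D.hd, mem_bot, inv_mul_eq_one] at h2
  exact h2.symm

/-- `th a b` is determined by `a b a⁻¹ = c f` -/
theorem th_eq {a b c f : H} (ha : a ∈ A) (hb : b ∈ B) (hc : c ∈ B) (hf : f ∈ F) (h : a * b * a⁻¹ = c * f) :
    th a b = c := by
  refine D.uniq (D.thB a ha b hb) hc (D.thF a ha b hb) hf ?_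
  rw [mul_inv_cancel_left, h]

theorem th_one {a : H} (ha : a ∈ A) : th a 1 = 1 :=
  D.th_eq ha (one_mem _) (one_mem _) (one_mem F) (by group)

theorem th_F {f b : H} (hf : f ∈ F) (hb : b ∈ B) : th f b = b :=
  D.th_eq (D.FA hf) hb hb (one_mem F) (by rw [D.FB f hf b hb]; group)

theorem th_mul {a b c : H} (ha : a ∈ A) (hb : b ∈ B) (hc : c ∈ B) : th a (b * c) = th a b * th a c := by
  refine D.th_eq ha (mul_mem hb hc) (mul_mem (D.thB a ha b hb) (D.thB a ha c hc))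
    (mul_mem (D.thF a ha b hb) (D.thF a ha c hc)) ?_
  have h1 := D.FB _ (D.thF a ha b hb) _ (D.thB a ha c hc)
  set f := (th a b)⁻¹ * (a * b * a⁻¹) with hf
  set g := (th a c)⁻¹ * (a * c * a⁻¹) with hg
  have e1 : a * b * a⁻¹ = th a b * f := by rw [hf]; group
  have e2 : a * c * a⁻¹ = th a c * g := by rw [hg]; group
  calc a * (b * c) * a⁻¹ = (a * b * a⁻¹) * (a * c * a⁻¹) := by group
    _ = th a b * (f * th a c) * g := by rw [e1, e2]; group
    _ = th a b * th a c * (f * g) := by rw [h1]; group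

theorem th_th {a a' b : H} (ha : a ∈ A) (ha' : a' ∈ A) (hb : b ∈ B) : th (a * a') b = th a (th a' b) := by
  have hc := D.thB a' ha' b hb
  refine D.th_eq (mul_mem ha ha') hb (D.thB a ha _ hc) (mul_mem (D.thF a ha _ hc) (D.thF a' ha' b hb)) ?_
  set f := (th a' b)⁻¹ * (a' * b * a'⁻¹) with hf
  have hfF : f ∈ F := D.thF a' ha' b hb
  have e1 : a' * b * a'⁻¹ = th a' b * f := by rw [hf]; group
  have e2 := D.hA.cm a ha f (D.FA hfF)
  set c := th a' b
  set g := (th a c)⁻¹ * (a * c * a⁻¹) with hg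
  have e3 : a * c * a⁻¹ = th a c * g := by rw [hg]; group
  calc a * a' * b * (a * a')⁻¹ = a * (a' * b * a'⁻¹) * a⁻¹ := by group
    _ = a * c * (f * a⁻¹) := by rw [e1]; group
    _ = a * c * (a⁻¹ * (a * f) * a⁻¹) := by group
    _ = a * c * a⁻¹ * f := by rw [e2]; group
    _ = th a c * (g * f) := by rw [e3]; group

theorem th_self {a b : H} (ha : a ∈ A) (hb : b ∈ B) : th a (th a b) = b := by
  rw [← D.th_th ha ha hb, D.hA.sq a ha]
  exact D.th_F (one_mem F) hb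

/-- the action on `C_M(A)` -/
theorem smul_th {a b : H} (ha : a ∈ A) (hb : b ∈ B) {x : M} (hx : x ∈ (fxd A : AddSubgroup M)) :
    a • b • x = th a b • x := by
  set f := (th a b)⁻¹ * (a * b * a⁻¹) with hf
  have h1 : f • x = x := hx f (D.FA (D.thF a ha b hb))
  have h2 : a⁻¹ • x = x := hx a⁻¹ (inv_mem ha)
  have e : a * b = th a b * f * a := by rw [hf]; group
  rw [← mul_smul, e, mul_smul, mul_smul, hx a ha, h1]

theorem smul_fxdF {b : H} (hb : b ∈ B) {x : M} (hx : x ∈ (fxd A : AddSubgroup M)) :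
    b • x ∈ (fxd F : AddSubgroup M) := by
  intro f hf
  rw [← mul_smul, D.FB f hf b hb, mul_smul, hx f (D.FA hf)]

/-- two elements of `B` which agree on a point outside `C_M(B)` are equal -/
theorem mem_of_eq {b c : H} (hb : b ∈ B) (hc : c ∈ B) (hne : b ≠ c) {x : M} (h : b • x = c • x) :
    x ∈ (fxd B : AddSubgroup M) := by
  refine D.oneB (c⁻¹ * b) (mul_mem (inv_mem hc) hb) (fun e => hne (inv_mul_eq_one.1 e).symm) x ?_
  rw [mul_smul, h, inv_smul_smul]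

/-- **the dichotomy** -/
theorem dich {a b : H} (ha : a ∈ A) (haF : a ∉ F) (hb : b ∈ B) (h : th a b = b) : ∀ a' ∈ A, th a' b = b := by
  intro a' ha'
  by_contra hne
  have h1 : ∀ x ∈ (fxd A : AddSubgroup M), x ∈ (fxd B : AddSubgroup M) := by
    intro x hx
    have h2 : b • x ∈ (fxd A : AddSubgroup M) := by
      refine D.oneA a ha haF _ (D.smul_fxdF hb hx) ?_
      rw [D.smul_th ha hb hx, h]
    refine D.mem_of_eq (D.thB a' ha' b hb) hb hne ?_
    rw [← D.smul_th ha' hb hx]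
    exact h2 a' ha'
  have h3 : b = 1 := D.s.faith b (mem_top _) fun m => by
    obtain ⟨x, hx, y, hy, rfl⟩ := D.sM m
    exact add_mem (h1 x hx) hy b hb
  apply hne
  rw [h3]
  exact D.th_one ha'

/-- `C_B(A)` -/
def Bc : Subgroup H where
  carrier := {b | b ∈ B ∧ ∀ a ∈ A, th a b = b}
  mul_mem' := fun {b c} hb hc => ⟨mul_mem hb.1 hc.1, fun a ha => by rw [D.th_mul ha hb.1 hc.1, hb.2 a ha, hc.2 a ha]⟩
  one_mem' := ⟨one_mem _, fun _ ha => D.th_one ha⟩
  inv_mem' := fun {b} hb => by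
    have e : b⁻¹ = b := inv_eq_of_mul_eq_one_left (D.hB.sq b hb.1)
    rw [e]
    exact hb

theorem Bc_le : D.Bc ≤ B := fun _ h => h.1

theorem mem_Bc {b : H} : b ∈ D.Bc ↔ b ∈ B ∧ ∀ a ∈ A, th a b = b := Iff.rfl

/-- `θ_a(b) b ∈ C_B(A)` -/
theorem c_mem {a b : H} (ha : a ∈ A) (hb : b ∈ B) : th a b * b ∈ D.Bc := by
  have h0 : th a b * b ∈ B := mul_mem (D.thB a ha b hb) hb
  by_cases haF : a ∈ F
  · rw [D.th_F haF hb, D.hB.sq b hb]
    exact one_mem _
  · refine ⟨h0, D.dich ha haF h0 ?_⟩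
    rw [D.th_mul ha (D.thB a ha b hb) hb, D.th_self ha hb]
    exact D.hB.cm b hb _ (D.thB a ha b hb)

/-- `a ↦ θ_a(b) b` -/
def cHom {b : H} (hb : b ∈ B) : A →* H where
  toFun a := th a b * b
  map_one' := by
    rw [OneMemClass.coe_one, D.th_F (one_mem F) hb]
    exact D.hB.sq b hb
  map_mul' := by
    intro a a'
    have h1 := D.c_mem a'.2 hb
    have h2 : th (a' : H) b = (th (a' : H) b * b) * b := by rw [mul_assoc, D.hB.sq b hb, mul_one]
    rw [Subgroup.coe_mul, D.th_th a.2 a'.2 hb]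
    conv_lhs => rw [h2]
    rw [D.th_mul a.2 h1.1 hb, h1.2 a a.2, mul_assoc]
    exact D.hB.cm _ h1.1 _ (mul_mem (D.thB a a.2 b hb) hb)

theorem cHom_apply {b : H} (hb : b ∈ B) (a : A) : D.cHom hb a = th a b * b := rfl

variable [Finite H]

/-- `|A : F| ≤ |C_B(A)|` -/
theorem card_le {b : H} (hb : b ∈ B) (hne : b ∉ D.Bc) : Nat.card A ≤ Nat.card F * Nat.card D.Bc := by
  have h1 : Nat.card (D.cHom hb).ker * (D.cHom hb).ker.index = Nat.card A := (D.cHom hb).ker.card_mul_index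
  rw [Subgroup.index_ker] at h1
  have h2 : (D.cHom hb).range ≤ D.Bc := by
    rintro _ ⟨a, rfl⟩
    exact D.c_mem a.2 hb
  have h3 : (D.cHom hb).ker ≤ F.subgroupOf A := by
    intro a ha
    rw [MonoidHom.mem_ker, cHom_apply] at ha
    rw [mem_subgroupOf]
    by_contra haF
    apply hne
    refine ⟨hb, D.dich a.2 haF hb ?_⟩
    rw [mul_eq_one_iff_eq_inv] at ha
    rw [ha]
    exact inv_eq_of_mul_eq_one_left (D.hB.sq b hb)
  have h4 : Nat.card (F.subgroupOf A) = Nat.card F := Nat.card_congr (subgroupOfEquivOfLe D.FA).toEquiv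
  rw [← h1, ← h4]
  exact Nat.mul_le_mul (Subgroup.card_le_of_le h3) (Subgroup.card_le_of_le h2)

variable [Finite M]

/-- `|B| ≤ |A : F|` -/
theorem le_card {a b : H} (ha : a ∈ A) (hb : b ∈ B) (hne : th a b ≠ b) :
    Nat.card F * Nat.card B ≤ Nat.card A := by
  have eA : Nat.card A * Nat.card (fxd A : AddSubgroup M) = Nat.card M := le_antisymm (Sit.no' D.s D.hA) D.xA
  have eF : Nat.card F * Nat.card (fxd F : AddSubgroup M) = Nat.card M :=
    le_antisymm (Sit.no' D.s (El.mono D.hA D.FA)) D.xF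
  have eB : Nat.card B * Nat.card (fxd B : AddSubgroup M) = Nat.card M := le_antisymm (Sit.no' D.s D.hB) D.xB
  -- `M = C_M(A) + C_M(B)`
  have e1 := card_sup_inf_add (A := (fxd A : AddSubgroup M)) (B := fxd B)
  have e2 : (fxd A ⊔ fxd B : AddSubgroup M) = ⊤ := by
    rw [eq_top_iff]
    intro m _
    obtain ⟨x, hx, y, hy, rfl⟩ := D.sM m
    exact AddSubgroup.add_mem_sup hx hy
  rw [e2, AddSubgroup.card_top] at e1
  -- the two maps
  have f1 := card_map_ker (dlt a : M →+ M) (fxd F)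
  have f2 := card_map_ker ((dlt a : M →+ M).comp (dlt b)) (fxd A)
  have g1 : Nat.card (fxd A : AddSubgroup M) ≤ Nat.card ↥((dlt a : M →+ M).ker ⊓ fxd F) := by
    refine AddSubgroup.card_le_of_le fun x hx => ⟨mem_ker_dlt.2 (hx a ha), fxd_anti D.FA hx⟩
  have g2 : Nat.card ↥(((dlt a : M →+ M).comp (dlt b)).ker ⊓ fxd A) ≤ Nat.card ↥(fxd A ⊓ fxd B : AddSubgroup M) := by
    refine AddSubgroup.card_le_of_le ?_
    rintro x ⟨h1, hx⟩
    refine ⟨hx, ?_⟩
    have h2 : a • (b • x - x) = b • x - x := mem_ker_dlt.1 h1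
    refine D.mem_of_eq (D.thB a ha b hb) hb hne ?_
    rw [smul_sub, D.smul_th ha hb hx, hx a ha, sub_left_inj] at h2
    exact h2
  have g3 : Nat.card ((fxd A : AddSubgroup M).map ((dlt a : M →+ M).comp (dlt b))) ≤
      Nat.card ((fxd F : AddSubgroup M).map (dlt a)) := by
    refine AddSubgroup.card_le_of_le ?_
    rintro _ ⟨x, hx, rfl⟩
    exact ⟨dlt b x, sub_mem (D.smul_fxdF hb hx) (fxd_anti D.FA hx), rfl⟩
  set α := Nat.card A
  set φ := Nat.card F
  set β := Nat.card B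
  set m := Nat.card M
  set cA := Nat.card (fxd A : AddSubgroup M)
  set cF := Nat.card (fxd F : AddSubgroup M)
  set cB := Nat.card (fxd B : AddSubgroup M)
  set cAB := Nat.card ↥(fxd A ⊓ fxd B : AddSubgroup M)
  set i := Nat.card ((fxd F : AddSubgroup M).map (dlt a))
  have pB : 0 < cB := Nat.card_pos
  have pA : 0 < cA := Nat.card_pos
  have pAB : 0 < cAB := Nat.card_pos
  -- `β cAB = cA`, `cA ≤ cAB i`, `cA i ≤ cF`
  have i1 : β * cAB = cA := by
    refine Nat.eq_of_mul_eq_mul_right pB ?_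
    calc β * cAB * cB = (β * cB) * cAB := by ring
      _ = cA * cB := by rw [eB, e1]
  have i2 : cA ≤ cAB * i := by
    rw [f2]
    exact Nat.mul_le_mul g2 g3
  have i3 : cA * i ≤ cF := by
    rw [f1]
    exact Nat.mul_le_mul_right _ g1
  have i4 : β ≤ i := by
    refine Nat.le_of_mul_le_mul_right (c := cAB) ?_ pAB
    calc β * cAB = cA := i1
      _ ≤ cAB * i := i2
      _ = i * cAB := mul_comm _ _
  refine Nat.le_of_mul_le_mul_right (c := cA) ?_ pA
  calc φ * β * cA ≤ φ * i * cA := Nat.mul_le_mul_right _ (Nat.mul_le_mul_left _ i4)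
    _ = φ * (cA * i) := by ring
    _ ≤ φ * cF := Nat.mul_le_mul_left _ i3
    _ = α * cA := by rw [eF, eA]

/-- **all `θ_a = 1`** -/
theorem th_triv {a b : H} (ha : a ∈ A) (hb : b ∈ B) : th a b = b := by
  by_contra hne
  have hbc : b ∉ D.Bc := fun h => hne (h.2 a ha)
  have h1 := D.card_le hb hbc
  have h2 := D.le_card ha hb hne
  have h3 : Nat.card B ≤ Nat.card D.Bc := Nat.le_of_mul_le_mul_left (h2.trans h1) Nat.card_pos
  exact hbc ((Subgroup.eq_of_le_of_card_ge D.Bc_le h3).symm ▸ hb)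

end Dat

end Cnt

variable {H : Type u} {M : Type v} [Group H] [AddCommGroup M] [DistribMulAction H M] [Finite H] [Finite M]

/-- **The count.** -/
theorem cnt (s : Sit M (⊤ : Subgroup H)) {A F B : Subgroup H} (hA : El A) (xA : Xa M A) (hFA : F ≤ A) (xF : Xa M F)
    (hB : El B) (xB : Xa M B)
    (oneB : ∀ b ∈ B, b ≠ 1 → ∀ m : M, b • m = m → m ∈ (fxd B : AddSubgroup M))
    (oneA : ∀ a ∈ A, a ∉ F → ∀ m ∈ (fxd F : AddSubgroup M), a • m = m → m ∈ (fxd A : AddSubgroup M))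
    (hM : ∀ m : M, ∃ x ∈ (fxd A : AddSubgroup M), ∃ y ∈ (fxd B : AddSubgroup M), m = x + y)
    (hFB : ∀ f ∈ F, ∀ b ∈ B, f * b = b * f) (hd : F ⊓ B = ⊥)
    (hn : ∀ a ∈ A, ∀ b ∈ B, ∃ b' ∈ B, ∃ f ∈ F, a * b * a⁻¹ = b' * f)
    (sc : ∀ a ∈ A, ∀ b ∈ B, b ≠ 1 → (∀ m : M, ∃ m' : M, (a * b * a⁻¹) • m - m = b • m' - m') →
      ∀ b ∈ B, a * b * a⁻¹ ∈ B) :
    ∀ a ∈ A, ∀ b ∈ B, a * b = b * a := by
  choose! th h1 ph h2 h3 using hn
  have D : Cnt.Dat A F B M th :=
    { s := s, hA := hA, xA := xA, FA := hFA, xF := xF, hB := hB, xB := xB, oneB := oneB, oneA := oneA, sM := hM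
      FB := hFB, hd := hd, thB := h1
      thF := fun a ha b hb => by
        rw [h3 a ha b hb, inv_mul_cancel_left]
        exact h2 a ha b hb }
  intro a ha b hb
  by_cases hb1 : b = 1
  · rw [hb1, mul_one, one_mul]
  have e1 : a * b * a⁻¹ = b * ph a b := by
    have := h3 a ha b hb
    rwa [D.th_triv ha hb] at this
  have h4 := sc a ha b hb hb1 (fun m => by
    obtain ⟨x, hx, y, hy, hxy⟩ := hM (a⁻¹ • m)
    refine ⟨x, ?_⟩
    have e2 : m = x + a • y := by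
      rw [← hx a ha, ← smul_add, ← hxy, smul_inv_smul]
    have e3 : (a * b * a⁻¹) • a • y = a • y := by
      have e4 : a * b * a⁻¹ * a = a * b := by group
      rw [← mul_smul, e4, mul_smul, hy b hb]
    have e5 : (a * b * a⁻¹) • x = b • x := by
      rw [e1, mul_smul, hx _ (hFA (h2 a ha b hb))]
    rw [e2, smul_add, e3, e5, add_sub_add_right_eq_sub]) b hb
  have h5 : ph a b ∈ F ⊓ B := by
    refine mem_inf.2 ⟨h2 a ha b hb, ?_⟩
    have h6 : b⁻¹ * (a * b * a⁻¹) ∈ B := mul_mem (inv_mem hb) h4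
    rw [e1, inv_mul_cancel_left] at h6
    exact h6
  rw [hd, mem_bot] at h5
  rw [h5, mul_one, mul_inv_eq_iff_eq_mul] at e1
  exact e1

end Cfsg.Agent.Omega.NOThreeL.RRed.Ex
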