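import Cfsg.Agent.Omega.NOThreeL.RRed.Ex.Lat

/-!
# NO-3L, box R: THEOREM EX (#26554), step (c): THE COUNT (literal: helper70, #27721)

`F ≤ A` exact, `B` exact, `F ∩ B = 1`, `a b a⁻¹ ∈ B F`: `A` and `B` commute.
-/

set_option autoImplicit false
set_option linter.unusedSectionVars false

namespace Cfsg.Agent.Omega.NOThreeL.RRed.Ex.CntB

open Subgroup
open scoped Pointwise
open Cfsg.Agent.Omega.NOThreeL.RRed.NS (fxd brk mem_fxd)
open Cfsg.Agent.Omega.NOThreeL.RRed.Blk.Types (Sit El)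

universe u v

variable {H : Type u} {M : Type v} [Group H] [AddCommGroup M] [DistribMulAction H M]

/-- `|X| = |X ∩ ker φ| |φ(X)|` for an additive endomorphism. -/
theorem card_map [Finite M] (X : AddSubgroup M) (φ : M →+ M) :
    Nat.card X = Nat.card ↥(X ⊓ φ.ker) * Nat.card ↥(X.map φ) := by
  have h1 := (φ.comp X.subtype).ker.card_mul_index
  rw [AddSubgroup.index_ker] at h1
  have h2 : Nat.card (φ.comp X.subtype).ker = Nat.card ↥(X ⊓ φ.ker) := by
    refine Nat.card_congr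
      { toFun := fun x => ⟨((x : X) : M), ⟨(x : X).2, x.2⟩⟩
        invFun := fun x => ⟨⟨x.1, x.2.1⟩, x.2.2⟩
        left_inv := fun x => rfl
        right_inv := fun x => rfl }
  have h3 : (φ.comp X.subtype).range = X.map φ := by
    ext y
    constructor
    · rintro ⟨x, rfl⟩
      exact ⟨x, x.2, rfl⟩
    · rintro ⟨x, hx, rfl⟩
      exact ⟨⟨x, hx⟩, rfl⟩
  rw [h2, h3] at h1
  exact h1.symm

theorem card_eq_of_xa [Finite M] (s : Sit M (⊤ : Subgroup H)) {A : Subgroup H} (hA : El A) (xA : Xa M A) :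
    Nat.card M = Nat.card A * Nat.card (fxd A : AddSubgroup M) := le_antisymm xA (Sit.no' s hA)

/-- **THE COUNT.** -/
theorem cnt [Finite H] [Finite M] (s : Sit M (⊤ : Subgroup H)) {A F B : Subgroup H} (hA : El A) (xA : Xa M A)
    (hFA : F ≤ A) (xF : Xa M F) (hB : El B) (xB : Xa M B)
    (oneB : ∀ b ∈ B, b ≠ 1 → ∀ m : M, b • m = m → m ∈ (fxd B : AddSubgroup M))
    (oneA : ∀ a ∈ A, a ∉ F → ∀ m ∈ (fxd F : AddSubgroup M), a • m = m → m ∈ (fxd A : AddSubgroup M))
    (hM : ∀ m : M, ∃ x ∈ (fxd A : AddSubgroup M), ∃ y ∈ (fxd B : AddSubgroup M), m = x + y)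
    (hFB : ∀ f ∈ F, ∀ b ∈ B, f * b = b * f) (hd : F ⊓ B = ⊥)
    (hn : ∀ a ∈ A, ∀ b ∈ B, ∃ b' ∈ B, ∃ f ∈ F, a * b * a⁻¹ = b' * f)
    (sc : ∀ a ∈ A, ∀ b ∈ B, b ≠ 1 → (∀ m : M, ∃ m' : M, (a * b * a⁻¹) • m - m = b • m' - m') →
      ∀ b ∈ B, a * b * a⁻¹ ∈ B) : ∀ a ∈ A, ∀ b ∈ B, a * b = b * a := by
  classical
  by_cases hcase : ∀ a ∈ A, ∀ b ∈ B, ∃ f ∈ F, a * b * a⁻¹ = b * f
  · -- `θ_a = 1` for all `a`
    intro a ha b hb
    by_cases hb1 : b = 1
    · rw [hb1, mul_one, one_mul]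
    obtain ⟨f, hf, e⟩ := hcase a ha b hb
    have h1 : ∀ m : M, ∃ m' : M, (a * b * a⁻¹) • m - m = b • m' - m' := by
      intro m
      obtain ⟨x, hx, y, hy, hxy⟩ := hM (a⁻¹ • m)
      refine ⟨x, ?_⟩
      have hax : a • x = x := mem_fxd.1 hx a ha
      have hm : m = x + a • y := by
        have : a • a⁻¹ • m = a • (x + y) := by rw [hxy]
        rwa [smul_inv_smul, smul_add, hax] at this
      have h2 : (a * b * a⁻¹) • x = b • x := by
        rw [e, mul_smul, mem_fxd.1 hx f (hFA hf)]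
      have h3 : (a * b * a⁻¹) • a • y = a • y := by
        rw [← mul_smul, inv_mul_cancel_right, mul_smul, mem_fxd.1 hy b hb]
      rw [hm, smul_add, h2, h3]
      abel
    have h2 := sc a ha b hb hb1 h1 b hb
    have h3 : f ∈ F ⊓ B := by
      refine mem_inf.2 ⟨hf, ?_⟩
      have h4 : f = b⁻¹ * (a * b * a⁻¹) := by rw [e]; group
      rw [h4]
      exact mul_mem (inv_mem hb) h2
    rw [hd, mem_bot] at h3
    rw [h3, mul_one] at e
    calc a * b = (a * b * a⁻¹) * a := by group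
      _ = b * a := by rw [e]
  · exfalso
    push Not at hcase
    obtain ⟨a₀, ha₀, b₀, hb₀, hne⟩ := hcase
    obtain ⟨b₁, hb₁, f₀, hf₀, e₀⟩ := hn a₀ ha₀ b₀ hb₀
    have hb₁₀ : b₁ ≠ b₀ := fun h => hne f₀ hf₀ (by rw [e₀, h])
    have hc1 : b₀⁻¹ * b₁ ≠ 1 := fun h => hb₁₀ (inv_mul_eq_one.1 h).symm
    have hcB : b₀⁻¹ * b₁ ∈ B := mul_mem (inv_mem hb₀) hb₁
    have hFfx : (fxd A : AddSubgroup M) ≤ fxd F := fun m hm f hf => hm f (hFA hf)
    -- `a₀ b₀ x = b₁ x` for `x ∈ C(A)`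
    have hact : ∀ x ∈ (fxd A : AddSubgroup M), a₀ • b₀ • x = b₁ • x := by
      intro x hx
      have h1 : (a₀ * b₀ * a₀⁻¹) • x = a₀ • b₀ • x := by
        rw [mul_smul, mul_smul]
        congr 2
        rw [inv_smul_eq_iff]
        exact (mem_fxd.1 hx a₀ ha₀).symm
      rw [← h1, e₀, mul_smul, mem_fxd.1 hx f₀ (hFA hf₀)]
    -- `x ∈ C(A)`, `a₀ b₀ x = b₀ x` implies `x ∈ C(B)`
    have hfix : ∀ x ∈ (fxd A : AddSubgroup M), a₀ • b₀ • x = b₀ • x → x ∈ (fxd B : AddSubgroup M) := by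
      intro x hx h
      refine oneB _ hcB hc1 x ?_
      rw [hact x hx] at h
      rw [mul_smul, inv_smul_eq_iff]
      exact h
    -- `b₀ x ∈ C(F)` for `x ∈ C(A)`
    have hbF : ∀ x ∈ (fxd A : AddSubgroup M), b₀ • x ∈ (fxd F : AddSubgroup M) := by
      intro x hx
      rw [mem_fxd]
      intro f hf
      rw [← mul_smul, hFB f hf b₀ hb₀, mul_smul, mem_fxd.1 hx f (hFA hf)]
    have ha₀F : a₀ ∉ F := by
      intro h
      apply hne 1 (one_mem _)
      rw [hFB a₀ h b₀ hb₀]; group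
    -- `C(A)` is not in `C(B)`
    have hnle : ¬ (fxd A : AddSubgroup M) ≤ fxd B := by
      intro h
      apply hc1
      refine s.faith _ (mem_top _) fun m => ?_
      obtain ⟨x, hx, y, hy, rfl⟩ := hM m
      rw [smul_add, mem_fxd.1 (h hx) _ hcB, mem_fxd.1 hy _ hcB]
    -- the maps
    let φ : M →+ M :=
      { toFun := fun x => a₀ • b₀ • x - b₀ • x
        map_zero' := by simp
        map_add' := fun x y => by simp only [smul_add]; abel }
    let ψ : M →+ M :=
      { toFun := fun x => a₀ • x - x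
        map_zero' := by simp
        map_add' := fun x y => by simp only [smul_add]; abel }
    have hφ : (fxd A ⊓ φ.ker : AddSubgroup M) = fxd A ⊓ fxd B := by
      apply le_antisymm
      · intro x hx
        exact AddSubgroup.mem_inf.2 ⟨hx.1, hfix x hx.1 (sub_eq_zero.1 hx.2)⟩
      · intro x hx
        refine AddSubgroup.mem_inf.2 ⟨hx.1, ?_⟩
        change a₀ • b₀ • x - b₀ • x = 0
        rw [hact x hx.1, mem_fxd.1 hx.2 b₁ hb₁, mem_fxd.1 hx.2 b₀ hb₀, sub_self]
    have hψ : (fxd F ⊓ ψ.ker : AddSubgroup M) = fxd A := by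
      apply le_antisymm
      · intro x hx
        exact oneA a₀ ha₀ ha₀F x hx.1 (sub_eq_zero.1 hx.2)
      · intro x hx
        refine AddSubgroup.mem_inf.2 ⟨hFfx hx, ?_⟩
        change a₀ • x - x = 0
        rw [mem_fxd.1 hx a₀ ha₀, sub_self]
    have hle : (fxd A : AddSubgroup M).map φ ≤ (fxd F : AddSubgroup M).map ψ := by
      rintro y ⟨x, hx, rfl⟩
      exact ⟨b₀ • x, hbF x hx, rfl⟩
    have c1 := card_map (fxd A : AddSubgroup M) φ
    have c2 := card_map (fxd F : AddSubgroup M) ψ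
    rw [hφ] at c1
    rw [hψ] at c2
    have c3 := AddSubgroup.card_le_of_le hle
    have cA := card_eq_of_xa s hA xA
    have cF := card_eq_of_xa s (El.mono hA hFA) xF
    have cB := card_eq_of_xa s hB xB
    have hsup : (fxd A ⊔ fxd B : AddSubgroup M) = ⊤ := by
      rw [eq_top_iff]
      intro m _
      obtain ⟨x, hx, y, hy, rfl⟩ := hM m
      exact AddSubgroup.mem_sup.2 ⟨x, hx, y, hy, rfl⟩
    have c4 := card_sup_inf_add (A := (fxd A : AddSubgroup M)) (B := fxd B)
    rw [hsup, AddSubgroup.card_top] at c4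
    have pAB : 0 < Nat.card ↥(fxd A ⊓ fxd B : AddSubgroup M) := Nat.card_pos
    have pB : 0 < Nat.card (fxd B : AddSubgroup M) := Nat.card_pos
    have pA : 0 < Nat.card (fxd A : AddSubgroup M) := Nat.card_pos
    -- `|B| = |φ(C(A))|`
    have d1 : Nat.card B = Nat.card ↥((fxd A : AddSubgroup M).map φ) := by
      have h1 : Nat.card M * Nat.card ↥(fxd A ⊓ fxd B : AddSubgroup M) =
          (Nat.card ↥((fxd A : AddSubgroup M).map φ) * Nat.card (fxd B : AddSubgroup M)) *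
            Nat.card ↥(fxd A ⊓ fxd B : AddSubgroup M) := by
        rw [c4]
        nth_rewrite 1 [c1]
        ring
      have h2 := Nat.eq_of_mul_eq_mul_right pAB h1
      rw [cB] at h2
      exact Nat.eq_of_mul_eq_mul_right pB h2
    -- `|F| |B| ≤ |A|`
    have d2 : Nat.card F * Nat.card B ≤ Nat.card A := by
      have h1 : Nat.card F * Nat.card ↥((fxd F : AddSubgroup M).map ψ) = Nat.card A := by
        have h2 : (Nat.card F * Nat.card ↥((fxd F : AddSubgroup M).map ψ)) * Nat.card (fxd A : AddSubgroup M) =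
            Nat.card A * Nat.card (fxd A : AddSubgroup M) := by
          rw [← cA, cF, c2]
          ring
        exact Nat.eq_of_mul_eq_mul_right pA h2
      rw [← h1, d1]
      exact Nat.mul_le_mul_left _ c3
    -- `|A| ≤ |F| (|B| - 1)`
    let th : A → B := fun a => ⟨(hn a a.2 b₀ hb₀).choose, (hn a a.2 b₀ hb₀).choose_spec.1⟩
    have hth : ∀ a : A, ∃ f ∈ F, (a : H) * b₀ * (a : H)⁻¹ = th a * f := fun a => (hn a a.2 b₀ hb₀).choose_spec.2
    have hb₀1 : b₀ ≠ 1 := by
      intro h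
      apply hne 1 (one_mem _)
      rw [h]; group
    have hth1 : ∀ a : A, th a ≠ 1 := by
      intro a h
      obtain ⟨f, hf, e⟩ := hth a
      rw [h, OneMemClass.coe_one, one_mul] at e
      apply hb₀1
      have h1 : b₀ = (a : H)⁻¹ * f * a := by rw [← e]; group
      have h2 : (a : H)⁻¹ * f * a = f := by
        rw [hA.cm _ (inv_mem a.2) _ (hFA hf)]; group
      have h3 : b₀ ∈ F ⊓ B := mem_inf.2 ⟨by rw [h1, h2]; exact hf, hb₀⟩
      rwa [hd, mem_bot] at h3
    have hthF : ∀ a a' : A, th a = th a' → (a' : H)⁻¹ * a ∈ F := by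
      intro a a' h
      obtain ⟨f, hf, e⟩ := hth a
      obtain ⟨f', hf', e'⟩ := hth a'
      by_contra hdF
      have hdA : (a' : H)⁻¹ * a ∈ A := mul_mem (inv_mem a'.2) a.2
      -- `d b₀ d⁻¹ = b₀ g`
      have hg : ∃ g ∈ F, ((a' : H)⁻¹ * a) * b₀ * ((a' : H)⁻¹ * a)⁻¹ = b₀ * g := by
        refine ⟨f'⁻¹ * f, mul_mem (inv_mem hf') hf, ?_⟩
        have h1 : (a : H) * b₀ * (a : H)⁻¹ = (a' : H) * b₀ * (a' : H)⁻¹ * (f'⁻¹ * f) := by
          rw [e', e, h]; group
        calc ((a' : H)⁻¹ * a) * b₀ * ((a' : H)⁻¹ * a)⁻¹ = (a' : H)⁻¹ * (a * b₀ * (a : H)⁻¹) * a' := by group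
          _ = b₀ * ((a' : H)⁻¹ * (f'⁻¹ * f) * a') := by rw [h1]; group
          _ = b₀ * (f'⁻¹ * f) := by
            congr 1
            rw [hA.cm _ (inv_mem a'.2) _ (hFA (mul_mem (inv_mem hf') hf))]; group
      obtain ⟨g, hgF, eg⟩ := hg
      apply hnle
      intro x hx
      refine hfix x hx ?_
      have h2 : ((a' : H)⁻¹ * a) • b₀ • x = b₀ • x := by
        have h3 : (((a' : H)⁻¹ * a) * b₀ * ((a' : H)⁻¹ * a)⁻¹) • x = ((a' : H)⁻¹ * a) • b₀ • x := by
          rw [mul_smul _ (((a' : H)⁻¹ * a)⁻¹), mul_smul]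
          congr 2
          rw [inv_smul_eq_iff]
          exact (mem_fxd.1 hx _ hdA).symm
        rw [← h3, eg, mul_smul, mem_fxd.1 hx g (hFA hgF)]
      exact mem_fxd.1 (oneA _ hdA hdF _ (hbF x hx) h2) a₀ ha₀
    have : Fintype A := Fintype.ofFinite _
    have : Fintype B := Fintype.ofFinite _
    have d3 : Nat.card A ≤ Nat.card F * (Nat.card B - 1) := by
      have h1 := Finset.card_le_mul_card_image (f := th) (Finset.univ : Finset A) (Nat.card F) (by
        intro b hb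
        obtain ⟨a', _, ha'⟩ := Finset.mem_image.1 hb
        have h2 : Nat.card {a : A // th a = b} ≤ Nat.card F := by
          refine Nat.card_le_card_of_injective
            (fun a : {a : A // th a = b} => (⟨(a' : H)⁻¹ * a.1, hthF a.1 a' (a.2.trans ha'.symm)⟩ : F)) ?_
          rintro ⟨a, ha⟩ ⟨a2, ha2⟩ h
          have h3 : (a' : H)⁻¹ * a = (a' : H)⁻¹ * a2 := congrArg Subtype.val h
          exact Subtype.ext (Subtype.ext (mul_left_cancel h3))
        rw [Nat.card_eq_fintype_card, Fintype.card_subtype] at h2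
        exact h2)
      have h4 : ((Finset.univ : Finset A).image th).card ≤ Nat.card B - 1 := by
        have h5 : (Finset.univ : Finset A).image th ⊆ (Finset.univ : Finset B).erase 1 := by
          intro b hb
          obtain ⟨a, _, rfl⟩ := Finset.mem_image.1 hb
          exact Finset.mem_erase.2 ⟨hth1 a, Finset.mem_univ _⟩
        have h6 := Finset.card_le_card h5
        rwa [Finset.card_erase_of_mem (Finset.mem_univ _), Finset.card_univ, ← Nat.card_eq_fintype_card] at h6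
      rw [Finset.card_univ, ← Nat.card_eq_fintype_card] at h1
      exact h1.trans (Nat.mul_le_mul_left _ h4)
    have pF : 0 < Nat.card F := Nat.card_pos
    have pB' : 0 < Nat.card B := Nat.card_pos
    have d4 : Nat.card F * Nat.card B ≤ Nat.card F * (Nat.card B - 1) := d2.trans d3
    have d5 := Nat.le_of_mul_le_mul_left d4 pF
    omega

end Cfsg.Agent.Omega.NOThreeL.RRed.Ex.CntB
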