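import Cfsg.Agent.Omega.NOThreeL.RRed.Ex.InstB

/-!
# NO-3L, box R: THEOREM EX (#26554), the field `cov`

`A ≤ S` exact on `V = zl S L`, moving `V_P`, `F = C_A(V_P)`; `U ≤ V` is normalised by `P`, centralised by `F`, not by `A`.
Then `U ∩ V_P` covers `V_P / C_{V_P}(O²(P))`, so `V_P ≤ U Z`: an `s ∈ S` which centralises `U` centralises `V_P`.
-/

set_option autoImplicit false
set_option linter.unusedSectionVars false

namespace Cfsg.Agent.Omega.NOThreeL.RRed.Ex.Cov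

open Subgroup Cfsg Cfsg.Agent.ZN Cfsg.Agent.Omega.MinPar
open Cfsg.Agent.Omega.FFThm
open Cfsg.Agent.Omega.FrameFF (cv)
open Cfsg.Agent.Omega.NOThreeL.RSplit (Nrm)
open Cfsg.Agent.Omega.NOThreeL.RRed.NS (fxd brk mem_fxd smul_eq_iff conj_eq_cj)
open Cfsg.Agent.Omega.NOThreeL.RRed.Blk.Types (El)
open Cfsg.Agent.Omega.NOThreeL.RRed.Blk.TypesNat (XH ph ph_smul ph_surj)
open Cfsg.Agent.Omega.NOThreeL.RRed.Blk.AsmCore
open Cfsg.Agent.MinSimple.VModule (oddGen)
open scoped Pointwise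

universe u

variable {G : Type u} [Group G]

theorem norm_of {X T : Subgroup G} (h : ∀ g ∈ X, ∀ x ∈ T, g * x * g⁻¹ ∈ T) : X ≤ normalizer (T : Set G) := by
  intro g hg
  rw [mem_normalizer_iff]
  refine fun x => ⟨h g hg x, fun hx => ?_⟩
  have h1 := h g⁻¹ (inv_mem hg) _ hx
  have e : g⁻¹ * (g * x * g⁻¹) * g⁻¹⁻¹ = x := by group
  rwa [e] at h1

variable [Finite G] {S : Sylow 2 G} {L P A : Subgroup G}

/-- `W ≤ V_P` normalised by `P`, `W ≰ cv`: `V_P = W cv` -/
theorem cover (hP : IsParS (S : Subgroup G) P) (hc : ConclM (S : Subgroup G) P)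
    {W : Subgroup G} (hW : W ≤ zl (S : Subgroup G) P) (hPW : P ≤ normalizer (W : Set G))
    (hWD : ¬ W ≤ cv (S : Subgroup G) P) :
    ∀ v ∈ zl (S : Subgroup G) P, ∃ w ∈ W, w⁻¹ * v ∈ cv (S : Subgroup G) P := by
  have hSP := hP.le
  intro v hv
  rcases hc with ⟨F, _, _, _, k, hk, ⟨M⟩⟩ | ⟨k, m, hk, hm, ⟨M⟩⟩
  · obtain ⟨w, hw, he⟩ := cover_nat M.toNatK hSP hW hPW hWD (M.e v)
    refine ⟨w, hw, (M.ker _ (mul_mem (inv_mem (hW hw)) hv)).1 ?_⟩
    have h1 := M.mul w (hW hw) (w⁻¹ * v) (mul_mem (inv_mem (hW hw)) hv)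
    rw [mul_inv_cancel_left, he] at h1
    exact left_eq_add.1 h1
  · obtain ⟨w, hw, he⟩ := cover_sym M.toSymK hSP (by omega) hW hPW hWD hv
    refine ⟨w, hw, (M.ker _ (mul_mem (inv_mem (hW hw)) hv)).1 ?_⟩
    have h1 := M.mul w (hW hw) (w⁻¹ * v) (mul_mem (inv_mem (hW hw)) hv)
    rw [mul_inv_cancel_left, he] at h1
    exact left_eq_add.1 h1

/-- an offender centralises `cv` -/
theorem cv_le (hc : ConclM (S : Subgroup G) P) (hA : A ≤ (S : Subgroup G)) (hoff : OffM (zl (S : Subgroup G) P) A) :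
    cv (S : Subgroup G) P ≤ centralizer (A : Set G) := by
  intro d hd
  rw [mem_centralizer_iff]
  intro a ha
  rcases hc with ⟨F, _, _, _, k, hk, ⟨M⟩⟩ | ⟨k, m, hk, hm, ⟨M⟩⟩
  · obtain ⟨I, hI1, -⟩ := M.offM A hA hoff
    obtain ⟨b, -, hb⟩ := hI1 a ha
    exact hb.2 d hd
  · exact (M.offM A hA hoff).1 a ha d hd

/-- `V_P ≤ W Z` -/
theorem zl_le_sup (hP : IsParS (S : Subgroup G) P) (hc : ConclM (S : Subgroup G) P)
    {W : Subgroup G} (hW : W ≤ zl (S : Subgroup G) P) (hPW : P ≤ normalizer (W : Set G))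
    (hWD : ¬ W ≤ cv (S : Subgroup G) P) : zl (S : Subgroup G) P ≤ W ⊔ zc (S : Subgroup G) := by
  have hcov := cover hP hc hW hPW hWD
  have hZ := MinSimple.VModule.zc_le_zl (S : Subgroup G) P
  have key : ∀ g, g ∈ P → (∀ z ∈ zc (S : Subgroup G), g * z * g⁻¹ ∈ W ⊔ zc (S : Subgroup G)) →
      ∀ x ∈ W ⊔ zc (S : Subgroup G), g * x * g⁻¹ ∈ W ⊔ zc (S : Subgroup G) := by
    intro g hg hz
    have h1 : W ⊔ zc (S : Subgroup G) ≤ (W ⊔ zc (S : Subgroup G)).comap (MulAut.conj g).toMonoidHom := by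
      refine sup_le (fun w hw => ?_) fun z hz' => hz z hz'
      exact mem_sup_left ((mem_normalizer_iff.1 (hPW hg) w).1 hw)
    exact fun x hx => h1 hx
  refine MinSimple.VModule.zl_le le_sup_right ?_
  conv_lhs => rw [← NoFF.LinesPlug.oddGen_sup hP.le (MinSimple.Basic.not_dvd_relIndex S hP.le)]
  refine sup_le ?_ ?_
  · refine norm_of fun g hg => key g (MinSimple.VModule.oddGen_le P hg) fun z hz => ?_
    obtain ⟨w, hw, hd⟩ := hcov z (hZ hz)
    have h2 : g * (w⁻¹ * z) = w⁻¹ * z * g := mem_centralizer_iff.1 hd.2 g hg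
    have e : g * z * g⁻¹ = (g * w * g⁻¹) * (w⁻¹ * z) := by
      calc g * z * g⁻¹ = g * w * (w⁻¹ * z) * g⁻¹ := by group
        _ = g * w * g⁻¹ * (g * (w⁻¹ * z)) * g⁻¹ := by group
        _ = _ := by rw [h2]; group
    rw [e]
    have h3 := (mem_normalizer_iff.1 (hPW (MinSimple.VModule.oddGen_le P hg)) w).1 hw
    exact mul_mem (mem_sup_left h3) (mul_mem (mem_sup_left (inv_mem hw)) (mem_sup_right hz))
  · refine norm_of fun g hg => key g (hP.le hg) fun z hz => ?_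
    have h2 : g * z = z * g := (MinSimple.VModule.mem_zc.1 hz).2.1 g hg
    rw [h2, mul_inv_cancel_right]
    exact mem_sup_right hz

/-- **`cov`**, group form -/
theorem cov_g (hc : IsCharacteristicTwoType G) (hP : IsParS (S : Subgroup G) P) (hPL : P ≤ L)
    (hno : NoOverM (zl (S : Subgroup G) L) L)
    (hcomm : zl (S : Subgroup G) L ≤ centralizer (zl (S : Subgroup G) L : Set G))
    (hA : A ≤ (S : Subgroup G)) (hE : ElemM (zl (S : Subgroup G) L) A)
    (hex : Exa (zl (S : Subgroup G) L) A) (hne : ¬ A ≤ centralizer (zl (S : Subgroup G) P : Set G))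
    {U : Subgroup G} (hU : U ≤ zl (S : Subgroup G) L) (hPU : P ≤ normalizer (U : Set G))
    (hF : U ≤ centralizer ((A ⊓ centralizer (zl (S : Subgroup G) P : Set G) : Subgroup G) : Set G))
    (hUA : ¬ U ≤ centralizer (A : Set G)) {s : G} (hs : s ∈ (S : Subgroup G)) (hsU : s ∈ centralizer (U : Set G)) :
    s ∈ centralizer (zl (S : Subgroup G) P : Set G) := by
  obtain ⟨-, -, hoff, hconcl, hspl⟩ := exact_split hc hP hPL hno hcomm hA hE hex hne
  have hn : P ≤ normalizer (zl (S : Subgroup G) P : Set G) := MinSimple.VModule.le_normalizer_zl _ _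
  have hPW : P ≤ normalizer ((U ⊓ zl (S : Subgroup G) P : Subgroup G) : Set G) :=
    (le_inf hPU hn).trans (Subgroup.inf_normalizer_le_normalizer_inf)
  have hVU : zl (S : Subgroup G) P ≤ zl (S : Subgroup G) L := Star.zl_mono _ hPL
  have hWD : ¬ U ⊓ zl (S : Subgroup G) P ≤ cv (S : Subgroup G) P := by
    intro h
    rcases par_dich hc hP hconcl hA hoff (inf_le_right : U ⊓ zl (S : Subgroup G) P ≤ _) hPW with h1 | h1
    · apply hoff.ne
      rw [le_centralizer_iff]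
      exact h1.trans (sup_le (h.trans (cv_le hconcl hA hoff)) inf_le_right)
    · apply hUA
      intro u hu
      have h2 : u ∈ zl (S : Subgroup G) L ⊓
          centralizer ((A ⊓ centralizer (zl (S : Subgroup G) P : Set G) : Subgroup G) : Set G) := ⟨hU hu, hF hu⟩
      rw [hspl] at h2
      have hcm : ∀ x ∈ zl (S : Subgroup G) P, ∀ y ∈ zl (S : Subgroup G) L ⊓ centralizer (A : Set G),
          x * y = y * x := fun x hx y hy => (mem_centralizer_iff.1 (hcomm (hVU hx)) y hy.1).symm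
      obtain ⟨v, hv, w, hw, rfl⟩ := F4.Split.mem_sup_comm hcm h2
      have hvA : ∀ a ∈ A, a * v = v * a := by
        refine h1 v hv fun a ha => ?_
        have haP := hP.le (hA ha)
        have haw : a * w = w * a := mem_centralizer_iff.1 hw.2 a ha
        have e : a * (v * w) * a⁻¹ * (v * w)⁻¹ = a * v * a⁻¹ * v⁻¹ := by
          calc a * (v * w) * a⁻¹ * (v * w)⁻¹ = a * v * a⁻¹ * (a * w) * a⁻¹ * w⁻¹ * v⁻¹ := by group
            _ = a * v * a⁻¹ * v⁻¹ := by rw [haw]; group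
        refine mem_inf.2 ⟨?_, mul_mem (conj_div hn haP hv) (inv_mem hv)⟩
        rw [← e]
        exact mul_mem (conj_div hPU haP hu) (inv_mem hu)
      rw [mem_centralizer_iff]
      intro a ha
      have haw : a * w = w * a := mem_centralizer_iff.1 hw.2 a ha
      rw [← mul_assoc, hvA a ha, mul_assoc, haw, mul_assoc]
  have h3 := zl_le_sup hP hconcl inf_le_right hPW hWD
  have h4 : zl (S : Subgroup G) P ≤ centralizer ({s} : Set G) := by
    refine h3.trans (sup_le (fun w hw => ?_) fun z hz => ?_)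
    · rw [mem_centralizer_singleton_iff]
      exact mem_centralizer_iff.1 hsU w hw.1
    · rw [mem_centralizer_singleton_iff]
      exact ((MinSimple.VModule.mem_zc.1 hz).2.1 s hs).symm
  rw [mem_centralizer_iff]
  intro v hv
  exact mem_centralizer_singleton_iff.1 (h4 hv)

/-- the subgroup of a submodule -/
def gr {L U : Subgroup G} (Q : Nrm L U) (N : AddSubgroup Q.Mod) : Subgroup G where
  carrier := {x | ∃ m ∈ N, Q.val m = x}
  mul_mem' := by
    rintro _ _ ⟨m, hm, rfl⟩ ⟨m', hm', rfl⟩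
    exact ⟨m + m', add_mem hm hm', Nrm.val_add m m'⟩
  one_mem' := ⟨0, zero_mem _, Nrm.val_zero⟩
  inv_mem' := by
    rintro _ ⟨m, hm, rfl⟩
    exact ⟨-m, neg_mem hm, Nrm.val_neg m⟩

/-- **the field `cov`** -/
theorem cov (hc : IsCharacteristicTwoType G) (Q : Nrm L (zl (S : Subgroup G) L)) (hP : IsParS (S : Subgroup G) P)
    (hPL : P ≤ L) (hno : NoOverM (zl (S : Subgroup G) L) L) :
    ∀ A ≤ im Q (S : Subgroup G), El A → Xa Q.Mod A → ¬ Fx (Q.ad (zl (S : Subgroup G) P)) A →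
      ∀ U : AddSubgroup Q.Mod, (∀ h : XH Q, ∀ u ∈ U, h • u ∈ U) →
      U ≤ fxd (cw (Q.ad (zl (S : Subgroup G) P)) A) → ¬ U ≤ fxd A → ∀ s ∈ im Q (S : Subgroup G),
        (∀ u ∈ U, s • u = u) → ∀ w ∈ Q.ad (zl (S : Subgroup G) P), s • w = w := by
  intro A' hA' hE hX hF N hN hNF hNA s' hs' hsN w hw
  obtain ⟨A, hA, rfl⟩ := InstB.exists_im Q hA'
  obtain ⟨s, hs, rfl⟩ := hs'
  have hAL : A ≤ L := (hA.trans hP.le).trans hPL
  have hWU : zl (S : Subgroup G) P ≤ zl (S : Subgroup G) L := NOThreeL.Star.zl_mono _ hPL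
  have hcomm : zl (S : Subgroup G) L ≤ centralizer (zl (S : Subgroup G) L : Set G) := fun x hx =>
    mem_centralizer_iff.2 fun y hy => Q.ab y hy x hx
  have hEM := InstB.elemM_of Q hAL hE
  have hex := InstB.exa_of Q hAL hno hEM hX
  have hne : ¬ A ≤ centralizer (zl (S : Subgroup G) P : Set G) := fun h => hF ((InstB.fx_im Q hWU hAL).2 h)
  have hFL : A ⊓ centralizer (zl (S : Subgroup G) P : Set G) ≤ L := inf_le_left.trans hAL
  rw [InstB.cw_im Q hWU] at hNF
  have hsV : (s : G) ∈ centralizer (zl (S : Subgroup G) P : Set G) := by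
    refine cov_g hc hP hPL hno hcomm hA hEM hex hne (U := gr Q N) ?_ ?_ ?_ ?_ hs ?_
    · rintro _ ⟨m, -, rfl⟩
      exact Q.val_mem m
    · refine norm_of ?_
      rintro g hg _ ⟨m, hm, rfl⟩
      refine ⟨ph Q ⟨g, hPL hg⟩ • m, hN _ m hm, ?_⟩
      rw [ph_smul, Nrm.val_smul]
    · rintro _ ⟨m, hm, rfl⟩
      exact (fxd_im Q hFL).1 (hNF hm)
    · intro h
      apply hNA
      intro m hm
      exact (fxd_im Q hAL).2 (h ⟨m, hm, rfl⟩)
    · rw [mem_centralizer_iff]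
      rintro _ ⟨m, hm, rfl⟩
      have h1 := hsN m hm
      rw [ph_smul, smul_eq_iff, mul_inv_eq_iff_eq_mul] at h1
      exact h1.symm
  rw [ph_smul, smul_eq_iff, mul_inv_eq_iff_eq_mul]
  exact (mem_centralizer_iff.1 hsV _ hw).symm

end Cfsg.Agent.Omega.NOThreeL.RRed.Ex.Cov
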