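import Cfsg.Agent.Omega.NOThreeL.RRed.Blk.AsmG
import Cfsg.Agent.Omega.NOThreeL.RRed.Ex.Def

/-!
# NO-3L, box R: THEOREM EX (#26554), the instance `Gy` for `V = zl S L`

* `Gp M S P W` : the fields of `Gy` about one parabolic;
* `exists_pre` : every `A ≤ im Q S` is `im Q B`, `B ≤ S`;
* `WW S L Q` : `im Q P ↦ Q.ad (zl S P)`;
* **`gy_of`** : `Gy` from `Gp` for every `P ∈ P*(S)`, `P ≤ L`.
-/

set_option autoImplicit false
set_option linter.unusedSectionVars false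

namespace Cfsg.Agent.Omega.NOThreeL.RRed.Ex.Inst

open Subgroup Cfsg Cfsg.Agent.ZN Cfsg.Agent.Omega.MinPar
open Cfsg.Agent.Omega.FFThm
open Cfsg.Agent.Omega.NOThreeL.RSplit (Nrm)
open Cfsg.Agent.Omega.NOThreeL.RRed.NS (fxd brk mem_fxd smul_eq_iff conj_eq_cj)
open Cfsg.Agent.Omega.NOThreeL.RRed.Blk.Types (Sit El)
open Cfsg.Agent.Omega.NOThreeL.RRed.Blk.TypesNat (XH ph ph_smul XH_faith ph_eq ph_surj no_XH)
open Cfsg.Agent.Omega.NOThreeL.RRed.Blk.AsmCore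
open Cfsg.Agent.Omega.NOThreeL.RRed.Blk.AsmG (Ps sSup_Ps)
open Cfsg.Agent.ZN.ChoiceBase (cj)
open scoped Pointwise

universe u v

/-- The fields of `Gy` about one parabolic. -/
structure Gp {H : Type u} (M : Type v) [Group H] [AddCommGroup M] [DistribMulAction H M] (S P : Subgroup H)
    (W : AddSubgroup M) : Prop where
  sy : ∀ A ≤ S, ∀ p ∈ P, ∃ k ∈ closure {x | ∃ g ∈ P, ∃ a ∈ A, x = g * a * g⁻¹},
    MulAut.conj (k * p) • A ≤ S
  split : ∀ A ≤ S, El A → Xa M A → ¬ Fx W A →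
    Xa M (cw W A) ∧ ∀ m ∈ (fxd (cw W A) : AddSubgroup M), ∃ w ∈ W, ∃ c ∈ (fxd A : AddSubgroup M), m = w + c
  one : ∀ B ≤ S, Mn M B → ¬ Fx W B → ∀ b ∈ B, b ≠ 1 → ∀ m : M, b • m = m →
    m ∈ (fxd B : AddSubgroup M)
  quad : ∀ B ≤ S, Mn M B → ¬ Fx W B → ∀ B' ≤ S, Mn M B' → brk M B ≤ fxd B'
  out : ∀ B ≤ S, Mn M B → ¬ Fx W B → ∀ b ∈ B, ∀ m : M, b • m ≠ m →
    ∃ p ∈ P, ∃ c ∈ B, (p * c * p⁻¹) • (b • m - m) ∉ (fxd B : AddSubgroup M)
  pair : ∀ B ≤ S, ∀ B' ≤ S, Mn M B → Mn M B' → ¬ Fx W B → ¬ Fx W B' →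
    ∀ b ∈ B, ∀ b' ∈ B', ∀ m m' : M, b • m - m = b' • m' - m' → b • m ≠ m →
      ∀ c ∈ B, ∃ c' ∈ B', ∀ w ∈ W, c' • w = c • w
  sg : ∀ A ≤ S, El A → Xa M A → ¬ Fx W A →
    (∃ X ≤ A, ∃ Y ≤ A, X ≠ A ∧ Y ≠ A ∧ Xa M X ∧ Xa M Y ∧ X ⊔ Y = A) ∨
      (∀ a ∈ A, (¬ ∀ w ∈ W, a • w = w) → ∀ w ∈ W, a • w = w → w ∈ (fxd A : AddSubgroup M))
  cov : ∀ A ≤ S, El A → Xa M A → ¬ Fx W A → ∀ U : AddSubgroup M, (∀ h : H, ∀ u ∈ U, h • u ∈ U) →
    U ≤ fxd (cw W A) → ¬ U ≤ fxd A → ∀ s ∈ S, (∀ u ∈ U, s • u = u) → ∀ w ∈ W, s • w = w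
  wab : ∀ A ≤ S, El A → Xa M A → ∀ B ≤ S, Mn M B → ∀ a ∈ A, ∀ b ∈ B, ∀ w ∈ W,
    a • b • w = b • a • w

variable {G : Type u} [Group G]

section pre

variable {L U : Subgroup G} (Q : Nrm L U)

/-- every subgroup of `im Q S` is the image of a subgroup of `S` -/
theorem exists_pre {S : Subgroup G} {A : Subgroup (XH Q)} (h : A ≤ im Q S) : ∃ B ≤ S, B ≤ L ∧ im Q B = A := by
  refine ⟨S ⊓ (A.comap (ph Q)).map L.subtype, inf_le_left, ?_, ?_⟩
  · rintro _ ⟨-, y, -, rfl⟩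
    exact y.2
  · ext x
    constructor
    · rintro ⟨a, ⟨-, y, hy, h1⟩, rfl⟩
      obtain rfl : y = a := Subtype.ext h1
      exact hy
    · intro hx
      obtain ⟨a, ha, rfl⟩ := h hx
      exact ⟨a, ⟨ha, a, hx, rfl⟩, rfl⟩

/-- `im Q A` centralises `Q.ad X` iff `A` centralises `U ⊓ X` -/
theorem fx_ad_iff {A X : Subgroup G} (hA : A ≤ L) (hX : X ≤ U) :
    Fx (Q.ad X) (im Q A) ↔ A ≤ centralizer (X : Set G) := by
  unfold Fx
  rw [im_smul]
  constructor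
  · intro h a ha
    rw [mem_centralizer_iff]
    intro x hx
    have h1 := h a ha (hA ha) (Q.of x (hX hx)) hx
    rw [Nrm.val_of, mul_inv_eq_iff_eq_mul] at h1
    exact h1.symm
  · intro h a ha _ m hm
    rw [mul_inv_eq_iff_eq_mul]
    exact (mem_centralizer_iff.1 (h ha) _ hm).symm

end pre

open Classical in
/-- `im Q P ↦ V_P` -/
noncomputable def WW (S L : Subgroup G) {U : Subgroup G} (Q : Nrm L U) (K : Subgroup (XH Q)) : AddSubgroup Q.Mod :=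
  if h : ∃ P, IsParS S P ∧ P ≤ L ∧ K = im Q P then Q.ad (zl S h.choose) else ⊥

theorem exists_WW {S L U : Subgroup G} {Q : Nrm L U} {K : Subgroup (XH Q)} (hK : K ∈ Ps S L Q) :
    ∃ P, IsParS S P ∧ P ≤ L ∧ K = im Q P ∧ WW S L Q K = Q.ad (zl S P) := by
  have h : ∃ P, IsParS S P ∧ P ≤ L ∧ K = im Q P := hK
  refine ⟨h.choose, h.choose_spec.1, h.choose_spec.2.1, h.choose_spec.2.2, ?_⟩
  unfold WW
  rw [dif_pos h]

theorem zl_le_of_im {S L U P P' : Subgroup G} (Q : Nrm L U) (hU : zc S ≤ U) (hP : P ≤ L) (h : im Q P ≤ im Q P') :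
    zl S P ≤ zl S P' := by
  refine iSup_le fun g => ?_
  rintro _ ⟨z, hz, rfl⟩
  obtain ⟨p, hp, h1⟩ := h (ph_mem_im Q (a := ⟨g, hP g.2⟩) g.2)
  have h2 := (ph_eq Q).1 h1 (Q.of z (hU hz))
  have h3 := congrArg Q.val h2
  rw [Nrm.val_smul, Nrm.val_smul, Nrm.val_of] at h3
  have h4 := (mem_normalizer_iff.1 (MinSimple.VModule.le_normalizer_zl S P' hp) z).1
    (MinSimple.VModule.zc_le_zl S P' hz)
  change (p : G) * z * (p : G)⁻¹ ∈ _ at h4
  rw [h3] at h4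
  exact h4

theorem WW_im {S L U P : Subgroup G} (Q : Nrm L U) (hU : zc S ≤ U) (hP : IsParS S P) (hPL : P ≤ L) :
    WW S L Q (im Q P) = Q.ad (zl S P) := by
  obtain ⟨P', -, hPL', h1, h2⟩ := exists_WW (S := S) (L := L) (Q := Q) (K := im Q P) ⟨P, hP, hPL, rfl⟩
  rw [h2, le_antisymm (zl_le_of_im (S := S) Q hU hPL' h1.ge) (zl_le_of_im (S := S) Q hU hPL h1.le)]

section gy

variable [Finite G] {S : Sylow 2 G} {L : Subgroup G} (Q : Nrm L (zl (S : Subgroup G) L))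

/-- **the instance** -/
theorem gy_of (hc : IsCharacteristicTwoType G) (hSL : (S : Subgroup G) ≤ L) (hL : IsLoc (S : Subgroup G) L)
    (gen : L ≤ sSup {P | IsParS (S : Subgroup G) P ∧ P ≤ L})
    (el : IsElementaryAbelian 2 (zl (S : Subgroup G) L)) (no : NoOverM (zl (S : Subgroup G) L) L)
    (h : ∀ P, IsParS (S : Subgroup G) P → P ≤ L →
      Gp Q.Mod (im Q (S : Subgroup G)) (im Q P) (Q.ad (zl (S : Subgroup G) P))) :
    Gy Q.Mod (im Q (S : Subgroup G)) (Ps (S : Subgroup G) L Q) (WW (S : Subgroup G) L Q) where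
  sit :=
    { faith := fun x _ hx => XH_faith Q x hx
      ch := fun m => Nrm.ext (by
        rw [Nrm.val_add, Nrm.val_zero]
        have := el.2 _ (Q.val_mem m)
        rwa [pow_two] at this)
      no := fun F _ h1 h2 => by
        have h3 := no_XH Q no F (fun x hx y hy => h2 x hx y hy) (fun x hx => h1 x hx)
        have h4 := AddSubgroup.card_mul_index (fxd F : AddSubgroup Q.Mod)
        rw [← h4, mul_comm]
        exact Nat.mul_le_mul_left _ h3 }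
  gen := sSup_Ps Q gen
  SP := by
    rintro _ ⟨P, hP, -, rfl⟩
    exact im_mono Q hP.le
  WP := by
    intro K hK
    obtain ⟨P, hP, hPL, rfl, h1⟩ := exists_WW hK
    rw [h1]
    rintro _ ⟨p, hp, rfl⟩ w hw
    rw [ph_smul]
    refine Nrm.mem_ad.2 ?_
    rw [Nrm.val_smul]
    exact (mem_normalizer_iff.1 (MinSimple.VModule.le_normalizer_zl (S : Subgroup G) P hp) _).1 hw
  PS := by
    intro K hK
    obtain ⟨P, hP, hPL, rfl, h1⟩ := exists_WW hK
    rw [h1]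
    intro A hA hfx
    obtain ⟨B, hBS, hBL, rfl⟩ := exists_pre Q hA
    rintro _ ⟨p, hp, rfl⟩
    rw [fx_ad_iff Q hBL (NOThreeL.Star.zl_mono _ hPL)] at hfx
    have h2 : B ≤ o2 P := by
      rw [← hP.inf_centralizer S hc]
      exact le_inf hBS hfx
    rw [← im_cj]
    refine im_mono Q ?_
    have h3 : MulAut.conj (p : G) • B ≤ o2 P := by
      intro x hx
      have h4 := h2 (NS.mem_conj.1 hx)
      have h5 : (p : G) ∈ normalizer (o2 P : Set G) := le_normalizer_o2 P hp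
      have h6 := (mem_normalizer_iff.1 h5 _).1 h4
      have e : (p : G) * ((p : G)⁻¹ * x * p) * (p : G)⁻¹ = x := by group
      rwa [e] at h6
    exact h3.trans hP.isLoc.o2_le
  gal := by
    intro A hA hne
    obtain ⟨B, hBS, hBL, rfl⟩ := exists_pre Q hA
    have h1 : ¬ B ≤ centralizer (zl (S : Subgroup G) L : Set G) := by
      intro h2
      apply hne
      rw [eq_bot_iff]
      rintro _ ⟨b, hb, rfl⟩
      rw [Subgroup.mem_bot]
      exact MonoidHom.mem_ker.1 ((Blk.TypesNat.mem_ker Q).2 (h2 hb))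
    obtain ⟨m, hm, P, hP, hPL, hmS, hmP⟩ := VF.gallery hc S hL gen hBL (S.isPGroup'.to_le hBS) h1
    have h3 : im Q P ∈ Ps (S : Subgroup G) L Q := ⟨P, hP, hPL, rfl⟩
    refine ⟨ph Q ⟨m, hm⟩, ?_, ?_⟩
    · have h4 : im Q (MulAut.conj m • B) ≤ im Q (S : Subgroup G) := im_mono Q (by rwa [conj_eq_cj])
      have h5 := im_cj Q (A := B) ⟨m, hm⟩
      rwa [h5] at h4
    · refine ⟨_, h3, ?_⟩
      rw [WW_im Q (MinSimple.VModule.zc_le_zl _ _) hP hPL, ← im_cj, fx_ad_iff Q _ (NOThreeL.Star.zl_mono _ hPL)]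
      · rwa [← conj_eq_cj] at hmP
      · change MulAut.conj m • B ≤ L
        rw [conj_eq_cj]
        exact hmS.trans hSL
  sy := by
    intro K hK
    obtain ⟨P, hP, hPL, rfl, h1⟩ := exists_WW hK
    exact (h P hP hPL).sy
  split := by
    intro K hK
    obtain ⟨P, hP, hPL, rfl, h1⟩ := exists_WW hK
    rw [h1]
    exact (h P hP hPL).split
  one := by
    intro K hK
    obtain ⟨P, hP, hPL, rfl, h1⟩ := exists_WW hK
    rw [h1]
    exact (h P hP hPL).one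
  quad := by
    intro K hK
    obtain ⟨P, hP, hPL, rfl, h1⟩ := exists_WW hK
    rw [h1]
    exact (h P hP hPL).quad
  out := by
    intro K hK
    obtain ⟨P, hP, hPL, rfl, h1⟩ := exists_WW hK
    rw [h1]
    exact (h P hP hPL).out
  pair := by
    intro K hK
    obtain ⟨P, hP, hPL, rfl, h1⟩ := exists_WW hK
    rw [h1]
    exact (h P hP hPL).pair
  sg := by
    intro K hK
    obtain ⟨P, hP, hPL, rfl, h1⟩ := exists_WW hK
    rw [h1]
    exact (h P hP hPL).sg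
  cov := by
    intro K hK
    obtain ⟨P, hP, hPL, rfl, h1⟩ := exists_WW hK
    rw [h1]
    exact (h P hP hPL).cov
  wab := by
    intro K hK
    obtain ⟨P, hP, hPL, rfl, h1⟩ := exists_WW hK
    rw [h1]
    exact (h P hP hPL).wab

end gy

end Cfsg.Agent.Omega.NOThreeL.RRed.Ex.Inst
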