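import Cfsg.Agent.Omega.NOThreeL.RRed.Ex.Def
import Cfsg.Agent.Lib.ProductSet

/-!
# NO-3L, box R: THEOREM EX (#26554): the lattice of exact groups (text: helper245)

* `latt` : `X`, `Y` exact, commuting: `X ⊔ Y` and `X ⊓ Y` are exact, `C_M(X ⊓ Y) = C_M(X) + C_M(Y)`;
* `eq_of_fx` : an exact `D ≤ F`, `C_M(D) ≤ C_M(F)`: `F = D`;
* `Mn.cj`, `Xa.cj`, `Fx.cj`.
-/

set_option autoImplicit false
set_option linter.unusedSectionVars false

namespace Cfsg.Agent.Omega.NOThreeL.RRed.Ex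

open Subgroup
open scoped Pointwise
open Cfsg.Agent.Omega.NOThreeL.RRed.NS (fxd brk mem_fxd)
open Cfsg.Agent.Omega.NOThreeL.RRed.Blk.Types (Sit El mem_cj card_cj fxd_cj brk_cj mem_sup_comm mem_fxd_sup sub_mem_brk brk_le)

universe u v

variable {H : Type u} {M : Type v} [Group H] [AddCommGroup M] [DistribMulAction H M]

theorem fxd_anti {A B : Subgroup H} (h : A ≤ B) : (fxd B : AddSubgroup M) ≤ fxd A := fun _ hm a ha => hm a (h ha)

theorem El.mono {A B : Subgroup H} (h : El B) (hAB : A ≤ B) : El A :=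
  ⟨fun x hx => h.sq x (hAB hx), fun x hx y hy => h.cm x (hAB hx) y (hAB hy)⟩

theorem El.inv_eq {A : Subgroup H} (h : El A) {a : H} (ha : a ∈ A) : a⁻¹ = a := by
  rw [inv_eq_iff_mul_eq_one]; exact h.sq a ha

theorem Sit.no' (s : Sit M (⊤ : Subgroup H)) {F : Subgroup H} (h : El F) :
    Nat.card F * Nat.card (fxd F : AddSubgroup M) ≤ Nat.card M := s.no F le_top h.sq h.cm

theorem card_sup_inf {A B : Subgroup H} [Finite H] (hAB : ∀ a ∈ A, ∀ b ∈ B, a * b = b * a) :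
    Nat.card ↥(A ⊔ B) * Nat.card ↥(A ⊓ B) = Nat.card A * Nat.card B := by
  rw [← Cfsg.Agent.Lib.ProductSet.card_mul_card_inf A B]
  congr 1
  refine Nat.card_congr (Equiv.setCongr ?_)
  ext x
  rw [SetLike.mem_coe, mem_sup_comm hAB, Set.mem_mul]
  rfl

theorem card_sup_inf_add {A B : AddSubgroup M} [Finite M] :
    Nat.card ↥(A ⊔ B) * Nat.card ↥(A ⊓ B) = Nat.card A * Nat.card B := by
  have h1 := AddSubgroup.card_mul_index (A.addSubgroupOf (A ⊔ B))
  have h2 : Nat.card (A.addSubgroupOf (A ⊔ B)) = Nat.card A :=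
    Nat.card_congr (AddSubgroup.addSubgroupOfEquivOfLe le_sup_left).toEquiv
  have h3 : (A.addSubgroupOf (A ⊔ B)).index = (A ⊓ B).relIndex B := by
    have := AddSubgroup.relIndex_sup_left B A
    rw [AddSubgroup.inf_relIndex_right, ← this, sup_comm]
    rfl
  have h4 : Nat.card ↥(A ⊓ B) * (A ⊓ B).relIndex B = Nat.card B := by
    have h5 := AddSubgroup.card_mul_index ((A ⊓ B).addSubgroupOf B)
    have h6 : Nat.card ((A ⊓ B).addSubgroupOf B) = Nat.card ↥(A ⊓ B) :=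
      Nat.card_congr (AddSubgroup.addSubgroupOfEquivOfLe inf_le_right).toEquiv
    rw [h6] at h5
    exact h5
  rw [h2, h3] at h1
  calc Nat.card ↥(A ⊔ B) * Nat.card ↥(A ⊓ B) = Nat.card A * (A ⊓ B).relIndex B * Nat.card ↥(A ⊓ B) := by rw [h1]
    _ = Nat.card A * (Nat.card ↥(A ⊓ B) * (A ⊓ B).relIndex B) := by ring
    _ = _ := by rw [h4]

/-- **The lattice of exact groups.** -/
theorem latt [Finite H] [Finite M] (s : Sit M (⊤ : Subgroup H)) {X Y : Subgroup H} (hX : El X) (hY : El Y)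
    (hc : ∀ a ∈ X, ∀ b ∈ Y, a * b = b * a) (eX : Xa M X) (eY : Xa M Y) :
    Xa M (X ⊔ Y) ∧ Xa M (X ⊓ Y) ∧ ∀ m ∈ (fxd (X ⊓ Y) : AddSubgroup M),
      ∃ x ∈ (fxd X : AddSubgroup M), ∃ y ∈ (fxd Y : AddSubgroup M), m = x + y := by
  have h1 := card_sup_inf hc
  have h2 := card_sup_inf_add (A := (fxd X : AddSubgroup M)) (B := fxd Y)
  have h3 : (fxd X ⊓ fxd Y : AddSubgroup M) = fxd (X ⊔ Y) := by
    apply le_antisymm
    · exact fun m hm => mem_fxd_sup (AddSubgroup.mem_inf.1 hm).1 (AddSubgroup.mem_inf.1 hm).2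
    · exact le_inf (fxd_anti le_sup_left) (fxd_anti le_sup_right)
  have h4 : (fxd X ⊔ fxd Y : AddSubgroup M) ≤ fxd (X ⊓ Y) := sup_le (fxd_anti inf_le_left) (fxd_anti inf_le_right)
  have h5 := AddSubgroup.card_le_of_le h4
  have h6 := Sit.no' s (hX.sup hY hc)
  have h7 := Sit.no' s (El.mono hX (inf_le_left : X ⊓ Y ≤ X))
  rw [h3] at h2
  unfold Xa at eX eY ⊢
  have p1 : 0 < Nat.card M := Nat.card_pos
  have key : Nat.card M * Nat.card M ≤ (Nat.card ↥(X ⊔ Y) * Nat.card (fxd (X ⊔ Y) : AddSubgroup M)) *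
      (Nat.card ↥(X ⊓ Y) * Nat.card ↥(fxd X ⊔ fxd Y : AddSubgroup M)) := by
    calc Nat.card M * Nat.card M ≤ (Nat.card X * Nat.card (fxd X : AddSubgroup M)) *
          (Nat.card Y * Nat.card (fxd Y : AddSubgroup M)) := Nat.mul_le_mul eX eY
      _ = (Nat.card X * Nat.card Y) * (Nat.card (fxd X : AddSubgroup M) * Nat.card (fxd Y : AddSubgroup M)) := by ring
      _ = _ := by rw [← h1, ← h2]; ring
  have k1 : Nat.card M ≤ Nat.card ↥(X ⊓ Y) * Nat.card ↥(fxd X ⊔ fxd Y : AddSubgroup M) := by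
    refine Nat.le_of_mul_le_mul_left (a := Nat.card M) ?_ p1
    exact key.trans (Nat.mul_le_mul_right _ h6)
  have k2 : Nat.card M ≤ Nat.card ↥(X ⊔ Y) * Nat.card (fxd (X ⊔ Y) : AddSubgroup M) := by
    refine Nat.le_of_mul_le_mul_right (c := Nat.card M) ?_ p1
    exact key.trans (Nat.mul_le_mul_left _ ((Nat.mul_le_mul_left _ h5).trans h7))
  refine ⟨k2, k1.trans (Nat.mul_le_mul_left _ h5), fun m hm => ?_⟩
  have k3 : Nat.card (fxd (X ⊓ Y) : AddSubgroup M) ≤ Nat.card ↥(fxd X ⊔ fxd Y : AddSubgroup M) :=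
    Nat.le_of_mul_le_mul_left (h7.trans k1) Nat.card_pos
  have k4 : (fxd X ⊔ fxd Y : AddSubgroup M) = fxd (X ⊓ Y) := AddSubgroup.eq_of_le_of_card_ge h4 k3
  rw [← k4, AddSubgroup.mem_sup] at hm
  obtain ⟨x, hx, y, hy, e⟩ := hm
  exact ⟨x, hx, y, hy, e.symm⟩

theorem Xa.cj [Finite M] {A : Subgroup H} (h : Xa M A) (x : H) : Xa M (MulAut.conj x • A) := by
  unfold Xa at h ⊢
  rw [card_cj]
  refine h.trans (Nat.mul_le_mul_left _ ?_)
  refine Nat.card_le_card_of_injective (fun m : (fxd A : AddSubgroup M) =>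
    (⟨x • (m : M), (fxd_cj x A).2 (by rw [inv_smul_smul]; exact m.2)⟩ : (fxd (MulAut.conj x • A) : AddSubgroup M))) ?_
  intro a b hab
  exact Subtype.ext (MulAction.injective x (congrArg Subtype.val hab))

theorem cj_cj_inv (x : H) (A : Subgroup H) : MulAut.conj x⁻¹ • MulAut.conj x • A = A := by
  rw [← mul_smul, ← map_mul, inv_mul_cancel, map_one, one_smul]

theorem cj_inv_cj (x : H) (A : Subgroup H) : MulAut.conj x • MulAut.conj x⁻¹ • A = A := by
  rw [← mul_smul, ← map_mul, mul_inv_cancel, map_one, one_smul]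

theorem cj_mono {x : H} {A B : Subgroup H} (h : A ≤ B) : MulAut.conj x • A ≤ MulAut.conj x • B :=
  Subgroup.pointwise_smul_le_pointwise_smul_iff.2 h

theorem mem_cj_of {x a : H} {A : Subgroup H} (ha : a ∈ A) : x * a * x⁻¹ ∈ MulAut.conj x • A := by
  rw [mem_cj]
  have e : x⁻¹ * (x * a * x⁻¹) * x = a := by group
  rwa [e]

theorem Mn.cj [Finite M] {A : Subgroup H} (h : Mn M A) (x : H) : Mn M (MulAut.conj x • A) := by
  refine ⟨h.el.cj x, h.ex.cj x, fun e => h.ne ?_, fun B hB hx => ?_⟩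
  · have := congrArg (fun B => MulAut.conj x⁻¹ • B) e
    simpa [cj_cj_inv] using this
  · have h1 : MulAut.conj x⁻¹ • B ≤ A := by
      have := cj_mono (x := x⁻¹) hB
      rwa [cj_cj_inv] at this
    rcases h.min _ h1 (hx.cj _) with h2 | h2
    · left
      have := congrArg (fun B => MulAut.conj x • B) h2
      simpa [cj_inv_cj] using this
    · right
      rw [← h2, cj_inv_cj]

theorem Fx.cj {W : AddSubgroup M} {A : Subgroup H} (h : Fx W A) {x : H} (hx : ∀ w ∈ W, x⁻¹ • w ∈ W) :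
    Fx W (MulAut.conj x • A) := fun a ha w hw => by
  have h1 := h _ (mem_cj.1 ha) _ (hx w hw)
  have e : x⁻¹ * a * x * x⁻¹ = x⁻¹ * a := by group
  rw [← mul_smul, e, mul_smul] at h1
  exact (MulAction.injective x⁻¹ h1)

theorem cj_le_of_mem {x : H} {A B : Subgroup H} (hx : x ∈ B) (hA : A ≤ B) : MulAut.conj x • A ≤ B := fun y hy => by
  have h1 := hA (mem_cj.1 hy)
  have e : y = x * (x⁻¹ * y * x) * x⁻¹ := by group
  rw [e]; exact mul_mem (mul_mem hx h1) (inv_mem hx)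

end Cfsg.Agent.Omega.NOThreeL.RRed.Ex
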