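import Cfsg.Agent.Omega.NOThreeL.RRed.Blk.AsmG
import Cfsg.Agent.Omega.NOThreeL.RRed.NS.GOne
import Cfsg.Agent.Omega.NOThreeL.RRed.Ex.Dict

/-!
# NO-3L, box R: THEOREM EX (#26554), the instance of `Gy`: the fields `one` and `quad` (text: helper245)

`U = zl S L`, `P ∈ P*(S)`, `P ≤ L`, `A ≤ S` a minimal exact group on `U` which moves `V_P`.

* `cases_of` : `A` is a root group of a natural block (`One`) or generated by a transposition (`OneS`) modulo `C(U)`;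
* `oneN`, `oneS` : `b ∈ A`, `b ∉ C(U)`: `C_U(b) = C_U(A)`;
* `cenS`, `quadN`, `quadS` : all minimal exact groups in `S` centralise `[U, A]`;
* **`one`**, **`quad`** : the fields.
-/

set_option autoImplicit false
set_option linter.unusedSectionVars false

namespace Cfsg.Agent.Omega.NOThreeL.RRed.Ex.OneQuad

open Subgroup Cfsg Cfsg.Agent.ZN Cfsg.Agent.Omega.MinPar
open Cfsg.Agent.Omega.FFThm Cfsg.Agent.Lib.SL2Mat
open Cfsg.Agent.Omega.FrameFF (cv)
open Cfsg.Agent.Omega.NatPair (ap)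
open Cfsg.Agent.Omega.NO3S.ThmB Cfsg.Agent.Omega.NO3S.KeyRad
open Cfsg.Agent.Omega.NOThreeL.RSplit (Nrm)
open Cfsg.Agent.Omega.NOThreeL.RRed.NS (fxd brk mem_fxd smul_eq_iff Tt tt_of_mx)
open Cfsg.Agent.Omega.NOThreeL.RRed.Blk.TypesNat (XH ph ph_smul ph_eq)
open Cfsg.Agent.Omega.NOThreeL.RRed.Blk.AsmCore (im mem_im ph_mem_im fxd_im)
open Cfsg.Agent.Omega.NOThreeL.RRed.Blk.Types (El brk_le)
open scoped Pointwise

universe u

variable {G : Type u} [Group G]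

/-! ### `b ∈ A`, `b ∉ C(U)` -/

section nat

variable {F : Type} [Field F] [CharP F 2] {S P V D U A : Subgroup G} {k : ℕ} {M : NatKM F S P V D k} (h : Nb M)
  {i : Fin k} (O : One M U A i)
include h O

/-- `C_U(b) = C_U(A)`, natural type -/
theorem oneN (hAP : A ≤ P) {b u : G} (hb : b ∈ A) (hbU : b ∉ centralizer (U : Set G)) (hu : u ∈ U)
    (hbu : b * u = u * b) : ∀ a ∈ A, a * u = u * a := by
  obtain ⟨β, hβ⟩ := O.act b hb
  have hβ0 : β ≠ 0 := by
    rintro rfl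
    refine hbU (mem_centralizer_iff.2 fun w hw => ?_)
    obtain ⟨v, hv, -, c, hc, hca, rfl⟩ := O.full w hw
    have e : (sg i (up (0 : F)) : Fin k → Matrix.SpecialLinearGroup (Fin 2) F) = 1 := by
      funext l
      by_cases hl : l = i
      · rw [hl, sg_self, up_zero]; rfl
      · rw [sg_ne hl]; rfl
    rw [e] at hβ
    have h1 : Commute b v := h.comm_of_one (hAP hb) hβ hv
    exact (h1.mul_right (hca b hb)).eq.symm
  obtain ⟨v, hv, -, c, hc, hca, rfl⟩ := O.full u hu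
  have hbc : Commute b c := hca b hb
  have hbv : Commute b v := by
    have h1 : Commute b (v * c) := hbu
    have h2 : Commute b (v * c * c⁻¹) := h1.mul_right hbc.inv_right
    rwa [mul_inv_cancel_right] at h2
  have h1 := hβ.1 v hv i
  have h2 : b * v * b⁻¹ = v := by rw [hbv.eq]; group
  rw [h2, sg_self] at h1
  have h3 := congrFun h1 0
  rw [ap_up_0] at h3
  have h4 : β * M.e v i 1 = 0 := left_eq_add.1 h3
  have h5 : M.e v i 1 = 0 := (mul_eq_zero.1 h4).resolve_left hβ0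
  intro a ha
  exact (show Commute a v from (O.cen v hv).2 h5 a ha).mul_right (hca a ha)

end nat

section sym

variable {S P V D U A : Subgroup G} {k m : ℕ} {M : SymKM S P V D k m} {i : Fin k} {x y : Fin (2 ^ m + 1)} {t n0 : G}
  (O : OneS M U A i x y t n0)
include O

theorem act_t {b u : G} (hb : b ∈ A) (hbU : b ∉ centralizer (U : Set G)) (hu : u ∈ U) (hbu : b * u = u * b) :
    t * u = u * t := by
  have h1 : t⁻¹ * b ∈ centralizer (U : Set G) := (O.act b hb).resolve_left hbU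
  have h2 : Commute (t⁻¹ * b) u := (mem_centralizer_iff.1 h1 u hu).symm
  have h3 : Commute b u := hbu
  have h4 : Commute (b * (t⁻¹ * b)⁻¹) u := h3.mul_left h2.inv_left
  have e : b * (t⁻¹ * b)⁻¹ = t := by group
  rw [e] at h4
  exact h4

theorem all_of_t {u : G} (hu : u ∈ U) (htu : t * u = u * t) : ∀ a ∈ A, a * u = u * a := by
  intro a ha
  rcases O.act a ha with h1 | h1
  · exact (mem_centralizer_iff.1 h1 u hu).symm
  · have h2 : Commute (t⁻¹ * a) u := (mem_centralizer_iff.1 h1 u hu).symm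
    have h3 : Commute t u := htu
    have h4 : Commute (t * (t⁻¹ * a)) u := h3.mul_left h2
    rw [mul_inv_cancel_left] at h4
    exact h4

/-- `C_U(b) = C_U(A)`, symmetric type -/
theorem oneS {b u : G} (hb : b ∈ A) (hbU : b ∉ centralizer (U : Set G)) (hu : u ∈ U)
    (hbu : b * u = u * b) : ∀ a ∈ A, a * u = u * a :=
  all_of_t O hu (act_t O hb hbU hu hbu)

/-! ### `[U, A]` -/

variable (h : Sb M) (hU2 : IsElementaryAbelian 2 U) (hVU : V ≤ U) (hPU : P ≤ normalizer (U : Set G))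
  (hE : ElemM U A)
include h hU2 hVU hPU hE

/-- an element of `P` which fixes `0` and fixes or interchanges `x`, `y` commutes with `[t, n₀]` -/
theorem cenS {g : G} (hg : g ∈ P) {τ : Fin k → Equiv.Perm (Fin (2 ^ m + 1))} (hτ : Ac M g τ) (h0 : τ i 0 = 0)
    (hxy : (τ i x = x ∧ τ i y = y) ∨ (τ i x = y ∧ τ i y = x)) :
    g * (t * n0 * t⁻¹ * n0⁻¹) = t * n0 * t⁻¹ * n0⁻¹ * g := by
  have htP : t ∈ P := h.SP' (O.AS O.tA)
  have hpx : pr i x y i x = y := by rw [pr, sg_self, Equiv.swap_apply_left]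
  have hpy : pr i x y i y = x := by rw [pr, sg_self, Equiv.swap_apply_right]
  have hp0 : pr i x y i 0 = 0 := by
    rw [pr, sg_self, Equiv.swap_apply_of_ne_of_ne (Ne.symm O.x0) (Ne.symm O.y0)]
  have hpi : ((pr i x y)⁻¹ : Fin k → Equiv.Perm (Fin (2 ^ m + 1))) i = pr i x y i := by
    rw [Pi.inv_apply, pr, sg_self, Equiv.swap_inv]
  -- first case
  have key : ∀ g ∈ P, ∀ τ : Fin k → Equiv.Perm (Fin (2 ^ m + 1)), Ac M g τ → τ i 0 = 0 → τ i x = x → τ i y = y →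
      Commute g (t * n0 * t⁻¹ * n0⁻¹) := by
    intro g hg τ hτ h0 hx hy
    have h1 : Commute g n0 := O.fix g hg τ hτ hx hy h0
    have h2 : Commute (t⁻¹ * g * t) n0 := by
      refine O.fix _ (mul_mem (mul_mem (inv_mem htP) hg) htP) ((pr i x y)⁻¹ * τ * pr i x y)
        (h.ac_mul htP (h.ac_mul hg (h.ac_inv htP O.tt) hτ) O.tt) ?_ ?_ ?_
      · rw [Pi.mul_apply, Pi.mul_apply, hpi, Equiv.Perm.mul_apply, Equiv.Perm.mul_apply, hpx, hy, hpy]
      · rw [Pi.mul_apply, Pi.mul_apply, hpi, Equiv.Perm.mul_apply, Equiv.Perm.mul_apply, hpy, hx, hpx]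
      · rw [Pi.mul_apply, Pi.mul_apply, hpi, Equiv.Perm.mul_apply, Equiv.Perm.mul_apply, hp0, h0, hp0]
    have h3 : Commute g (t * n0 * t⁻¹) := by
      have e := h2.eq
      have e1 : g * (t * n0 * t⁻¹) = t * (t⁻¹ * g * t * n0) * t⁻¹ := by group
      have e2 : t * n0 * t⁻¹ * g = t * (n0 * (t⁻¹ * g * t)) * t⁻¹ := by group
      show g * (t * n0 * t⁻¹) = t * n0 * t⁻¹ * g
      rw [e1, e2, e]
    exact h3.mul_right h1.inv_right
  -- `t` commutes with `[t, n₀]`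
  have hn : n0 ∈ U := hVU O.nV
  have htn : t * n0 * t⁻¹ ∈ U := (mem_normalizer_iff.1 (hPU htP) n0).1 hn
  have ht2 : t * (t * n0 * t⁻¹) * t⁻¹ = n0 := by
    have h1 : t ^ 2 ∈ centralizer (U : Set G) := hE.sq t O.tA
    have h2 := mem_centralizer_iff.1 h1 n0 hn
    have e : t * (t * n0 * t⁻¹) * t⁻¹ = t ^ 2 * n0 * (t ^ 2)⁻¹ := by rw [pow_two]; group
    rw [e, ← h2]
    group
  have hab : ∀ v ∈ U, ∀ w ∈ U, v * w = w * v := fun v hv w hw => elem_comm hU2 hv hw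
  have hsq : ∀ v ∈ U, v⁻¹ = v := fun v hv => by
    have h1 := hU2.2 v hv
    rw [pow_two] at h1
    exact inv_eq_of_mul_eq_one_left h1
  have htc : Commute t (t * n0 * t⁻¹ * n0⁻¹) := by
    have e : t * (t * n0 * t⁻¹ * n0⁻¹) * t⁻¹ = t * n0 * t⁻¹ * n0⁻¹ := by
      have e1 : t * (t * n0 * t⁻¹ * n0⁻¹) * t⁻¹ = t * (t * n0 * t⁻¹) * t⁻¹ * (t * n0 * t⁻¹)⁻¹ := by group
      rw [e1, ht2, hsq _ htn, hsq _ hn]
      exact hab _ hn _ htn
    have e2 := mul_inv_eq_iff_eq_mul.1 e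
    exact e2
  rcases hxy with ⟨hx, hy⟩ | ⟨hx, hy⟩
  · exact key g hg τ hτ h0 hx hy
  · have h1 := key (t⁻¹ * g) (mul_mem (inv_mem htP) hg) ((pr i x y)⁻¹ * τ) (h.ac_mul hg (h.ac_inv htP O.tt) hτ)
      (by rw [Pi.mul_apply, hpi, Equiv.Perm.mul_apply, h0, hp0])
      (by rw [Pi.mul_apply, hpi, Equiv.Perm.mul_apply, hx, hpy])
      (by rw [Pi.mul_apply, hpi, Equiv.Perm.mul_apply, hy, hpx])
    have h2 : Commute (t * (t⁻¹ * g)) (t * n0 * t⁻¹ * n0⁻¹) := htc.mul_left h1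
    rw [mul_inv_cancel_left] at h2
    exact h2

/-- `[a, u]` is `1` or `[t, n₀]` -/
theorem commS {a u : G} (ha : a ∈ A) (hu : u ∈ U) :
    a * u * a⁻¹ * u⁻¹ = 1 ∨ a * u * a⁻¹ * u⁻¹ = t * n0 * t⁻¹ * n0⁻¹ := by
  have hn : n0 ∈ U := hVU O.nV
  have hab : ∀ v ∈ U, ∀ w ∈ U, v * w = w * v := fun v hv w hw => elem_comm hU2 hv hw
  rcases O.act a ha with h1 | h1
  · left
    rw [← mem_centralizer_iff.1 h1 u hu]
    group
  · rcases O.full u hu with h2 | h2
    · left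
      rw [h2 a ha]
      group
    · right
      have h3 : Commute t (n0⁻¹ * u) := h2 t O.tA
      have h5 : Commute (t⁻¹ * a) u := (mem_centralizer_iff.1 h1 u hu).symm
      -- `[a, u] = [t, u]`
      have e1 : a * u * a⁻¹ = t * u * t⁻¹ := by
        have e : a = t * (t⁻¹ * a) := by group
        calc a * u * a⁻¹ = t * ((t⁻¹ * a) * u) * (t⁻¹ * a)⁻¹ * t⁻¹ := by group
          _ = t * (u * (t⁻¹ * a)) * (t⁻¹ * a)⁻¹ * t⁻¹ := by rw [h5.eq]
          _ = t * u * t⁻¹ := by group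
      have e2 : t * u * t⁻¹ * u⁻¹ = t * n0 * t⁻¹ * n0⁻¹ := by
        calc t * u * t⁻¹ * u⁻¹ = t * n0 * t⁻¹ * (t * (n0⁻¹ * u) * t⁻¹) * u⁻¹ := by group
          _ = t * n0 * t⁻¹ * (n0⁻¹ * u * t * t⁻¹) * u⁻¹ := by rw [h3.eq]
          _ = t * n0 * t⁻¹ * n0⁻¹ := by group
      rw [e1, e2]

/-- all smallest best offenders in `S` centralise `[U, A]` -/
theorem quadS [Finite G] {B : Subgroup G} (hBS : B ≤ S) (tB : Tt U B) {b a u : G} (hb : b ∈ B) (ha : a ∈ A) (hu : u ∈ U) :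
    b * (a * u * a⁻¹ * u⁻¹) = a * u * a⁻¹ * u⁻¹ * b := by
  rcases commS O h hU2 hVU hPU hE ha hu with e | e
  · rw [e, mul_one, one_mul]
  · rw [e]
    by_cases hBV : B ≤ centralizer (V : Set G)
    · have htP : t ∈ P := h.SP' (O.AS O.tA)
      have h1 : t * n0 * t⁻¹ * n0⁻¹ ∈ V :=
        mul_mem ((mem_normalizer_iff.1 (h.VP' htP) n0).1 O.nV) (inv_mem O.nV)
      exact (mem_centralizer_iff.1 (hBV hb) _ h1).symm
    · obtain ⟨τ, hτ, h0, hτ'⟩ := NS.off_elem' hBS (tB.offM hU2 hVU hBV) hb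
      exact cenS O h hU2 hVU hPU hE (h.SP' (hBS hb)) hτ (h0 i) (NS.keep' h hBS hτ' (O.AS O.tA) O.xy O.tt.1)

end sym

/-! ### The fields -/

section fields

variable [Finite G] {S : Sylow 2 G} {L P : Subgroup G}

/-- **The two types.** -/
theorem cases_of (hc : IsCharacteristicTwoType G) (hL : IsLoc (S : Subgroup G) L) (hP : IsParS (S : Subgroup G) P)
    (hPL : P ≤ L) (no : NoOverM (zl (S : Subgroup G) L) L) {A : Subgroup G} (hA : A ≤ (S : Subgroup G))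
    (hM : Mx (zl (S : Subgroup G) L) A) (hne : ¬ A ≤ centralizer (zl (S : Subgroup G) P : Set G)) :
    (∃ (F : Type) (_ : Field F) (_ : Finite F) (_ : CharP F 2) (k : ℕ)
      (M : NatKM F (S : Subgroup G) P (zl (S : Subgroup G) P) (cv (S : Subgroup G) P) k) (i : Fin k),
      Nb M ∧ One M (zl (S : Subgroup G) L) A i) ∨
    ∃ (k m : ℕ) (M : SymKM (S : Subgroup G) P (zl (S : Subgroup G) P) (cv (S : Subgroup G) P) k m) (i : Fin k)
      (x y : Fin (2 ^ m + 1)) (t n0 : G), Sb M ∧ OneS M (zl (S : Subgroup G) L) A i x y t n0 := by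
  have hE := FFThm.elem_zl hc S hL
  have hcomm : zl (S : Subgroup G) L ≤ centralizer (zl (S : Subgroup G) L : Set G) := fun x hx =>
    mem_centralizer_iff.2 fun y hy => congrArg Subtype.val (hE.1.is_comm.comm ⟨y, hy⟩ ⟨x, hx⟩)
  obtain ⟨-, -, -, h3, -⟩ := exact_split hc hP hPL no hcomm hA hM.toElemM hM.exact hne
  have hVU : zl (S : Subgroup G) P ≤ zl (S : Subgroup G) L := Star.zl_mono _ hPL
  have t : Tt (zl (S : Subgroup G) L) A := tt_of_mx hM no ((hA.trans hP.le).trans hPL)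
  rcases h3 with ⟨F, i1, i2, i3, k, -, ⟨M⟩⟩ | ⟨k, m, -, hm, ⟨M⟩⟩
  · left
    have h := NO3S.ThmB.Inst.nb hc hP M
    obtain ⟨i, O⟩ := t.one h hE hVU hA hne
    exact ⟨F, i1, i2, i3, k, M, i, h, O⟩
  · right
    have h := NO3S.ThmB.Inst.sb hc hP hm M
    obtain ⟨i, x, y, t', n0, O⟩ := NS.Tt.oneS h t hE hVU hA hne
    exact ⟨k, m, M, i, x, y, t', n0, h, O⟩

/-- `C_U(b) = C_U(A)` -/
theorem one_grp (hc : IsCharacteristicTwoType G) (hL : IsLoc (S : Subgroup G) L) (hP : IsParS (S : Subgroup G) P)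
    (hPL : P ≤ L) (no : NoOverM (zl (S : Subgroup G) L) L) {A : Subgroup G} (hA : A ≤ (S : Subgroup G))
    (hM : Mx (zl (S : Subgroup G) L) A) (hne : ¬ A ≤ centralizer (zl (S : Subgroup G) P : Set G)) {b u : G}
    (hb : b ∈ A) (hbU : b ∉ centralizer (zl (S : Subgroup G) L : Set G)) (hu : u ∈ zl (S : Subgroup G) L)
    (hbu : b * u = u * b) : ∀ a ∈ A, a * u = u * a := by
  rcases cases_of hc hL hP hPL no hA hM hne with ⟨F, i1, i2, i3, k, M, i, h, O⟩ | ⟨k, m, M, i, x, y, t, n0, h, O⟩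
  · exact oneN h O (hA.trans hP.le) hb hbU hu hbu
  · exact oneS O hb hbU hu hbu

/-- all minimal exact groups in `S` centralise `[U, A]` -/
theorem quad_grp (hc : IsCharacteristicTwoType G) (hL : IsLoc (S : Subgroup G) L) (hP : IsParS (S : Subgroup G) P)
    (hPL : P ≤ L) (no : NoOverM (zl (S : Subgroup G) L) L) {A B : Subgroup G} (hA : A ≤ (S : Subgroup G))
    (hM : Mx (zl (S : Subgroup G) L) A) (hne : ¬ A ≤ centralizer (zl (S : Subgroup G) P : Set G))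
    (hB : B ≤ (S : Subgroup G)) (hMB : Mx (zl (S : Subgroup G) L) B) {a b u : G}
    (ha : a ∈ A) (hb : b ∈ B) (hu : u ∈ zl (S : Subgroup G) L) :
    b * (a * u * a⁻¹ * u⁻¹) = a * u * a⁻¹ * u⁻¹ * b := by
  have hE := FFThm.elem_zl hc S hL
  have hVU : zl (S : Subgroup G) P ≤ zl (S : Subgroup G) L := Star.zl_mono _ hPL
  have tB : Tt (zl (S : Subgroup G) L) B := tt_of_mx hMB no ((hB.trans hP.le).trans hPL)
  rcases cases_of hc hL hP hPL no hA hM hne with ⟨F, i1, i2, i3, k, M, i, h, O⟩ | ⟨k, m, M, i, x, y, t, n0, h, O⟩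
  · exact NS.comm_Y h O hA hE hVU hB tB hb hu ha
  · exact quadS O h hE hVU (hPL.trans (le_normalizer_zl _ _)) hM.toElemM hB tB hb ha hu

variable (Q : Nrm L (zl (S : Subgroup G) L))

/-- **the field `one`** -/
theorem one (hc : IsCharacteristicTwoType G) (hL : IsLoc (S : Subgroup G) L) (hP : IsParS (S : Subgroup G) P)
    (hPL : P ≤ L) (no : NoOverM (zl (S : Subgroup G) L) L) :
    ∀ B ≤ im Q (S : Subgroup G), Mn Q.Mod B → ¬ Fx (Q.ad (zl (S : Subgroup G) P)) B → ∀ b ∈ B, b ≠ 1 →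
      ∀ m : Q.Mod, b • m = m → m ∈ (fxd B : AddSubgroup Q.Mod) := by
  intro B' hB' hMn hF b' hb' hb1 m hm
  obtain ⟨B, hBS, hBL, rfl⟩ := Dict.exists_im Q hB'
  have hVU : zl (S : Subgroup G) P ≤ zl (S : Subgroup G) L := Star.zl_mono _ hPL
  have hM := Dict.mx_of Q no hBL (S.isPGroup'.to_le hBS) hMn
  have hne : ¬ B ≤ centralizer (zl (S : Subgroup G) P : Set G) := fun h => hF ((Dict.fx_ad Q hVU hBL).2 h)
  obtain ⟨b, hb, rfl⟩ := hb'
  have hbU : (b : G) ∉ centralizer (zl (S : Subgroup G) L : Set G) := fun h => hb1 ((Dict.ph_one Q).2 h)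
  rw [ph_smul, smul_eq_iff, mul_inv_eq_iff_eq_mul] at hm
  rw [fxd_im Q hBL, mem_centralizer_iff]
  exact one_grp hc hL hP hPL no hBS hM hne hb hbU (Q.val_mem m) hm

/-- **the field `quad`** -/
theorem quad (hc : IsCharacteristicTwoType G) (hL : IsLoc (S : Subgroup G) L) (hP : IsParS (S : Subgroup G) P)
    (hPL : P ≤ L) (no : NoOverM (zl (S : Subgroup G) L) L) :
    ∀ B ≤ im Q (S : Subgroup G), Mn Q.Mod B → ¬ Fx (Q.ad (zl (S : Subgroup G) P)) B →
      ∀ B' ≤ im Q (S : Subgroup G), Mn Q.Mod B' → brk Q.Mod B ≤ fxd B' := by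
  intro A' hA' hMnA hF B' hB' hMnB
  obtain ⟨A, hAS, hAL, rfl⟩ := Dict.exists_im Q hA'
  obtain ⟨B, hBS, hBL, rfl⟩ := Dict.exists_im Q hB'
  have hVU : zl (S : Subgroup G) P ≤ zl (S : Subgroup G) L := Star.zl_mono _ hPL
  have hMA := Dict.mx_of Q no hAL (S.isPGroup'.to_le hAS) hMnA
  have hMB := Dict.mx_of Q no hBL (S.isPGroup'.to_le hBS) hMnB
  have hne : ¬ A ≤ centralizer (zl (S : Subgroup G) P : Set G) := fun h => hF ((Dict.fx_ad Q hVU hAL).2 h)
  refine brk_le ?_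
  rintro _ ⟨a, ha, rfl⟩ m
  rw [fxd_im Q hBL, mem_centralizer_iff]
  intro b hb
  rw [ph_smul, Nrm.val_sub, Nrm.val_smul]
  exact quad_grp hc hL hP hPL no hAS hMA hne hBS hMB ha hb (Q.val_mem m)

end fields

end Cfsg.Agent.Omega.NOThreeL.RRed.Ex.OneQuad
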