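import Cfsg.Agent.Omega.NOThreeL.RRed.Ex.Nat
import Cfsg.Agent.Omega.NO3S.ThmB.Inst

/-!
# NO-3L, box R: THEOREM EX (#26554): `Pf S P V_P U` from the FF theorem (text: helper245)
-/

set_option autoImplicit false
set_option linter.unusedSectionVars false

namespace Cfsg.Agent.Omega.NOThreeL.RRed.Ex

open Subgroup Cfsg Cfsg.Agent.ZN Cfsg.Agent.Omega.MinPar
open Cfsg.Agent.Omega.FFThm
open Cfsg.Agent.Omega.FrameFF (cv)
open Cfsg.Agent.Omega.NO3S.ThmB

universe u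

variable {G : Type u} [Group G] [Finite G] {S : Sylow 2 G} {P U : Subgroup G}

theorem pf_of' (hc : IsCharacteristicTwoType G) (hP : IsParS (S : Subgroup G) P) (hU2 : IsElementaryAbelian 2 U)
    (hVU : zl (S : Subgroup G) P ≤ U) (con : ConclM (S : Subgroup G) P)
    (hs : ∀ {k m : ℕ} {M : SymKM (S : Subgroup G) P (zl (S : Subgroup G) P) (cv (S : Subgroup G) P) k m},
      Sb M → Pf (S : Subgroup G) P (zl (S : Subgroup G) P) U) :
    Pf (S : Subgroup G) P (zl (S : Subgroup G) P) U := by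
  rcases con with ⟨F, i1, i2, i3, k, -, ⟨M⟩⟩ | ⟨k, m, -, hm, ⟨M⟩⟩
  · exact pf_nat (Inst.nb hc hP M) hU2 hVU
  · exact hs (Inst.sb hc hP hm M)

end Cfsg.Agent.Omega.NOThreeL.RRed.Ex
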