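import Cfsg.Agent.Omega.NOThreeL.RRed.NS.Act
import Cfsg.Agent.Omega.NOThreeL.RRed.NS.Sym

/-!
# NO-3L, box R: THEOREM EX (#26554): the facts about one parabolic, in the group `G` (text: helper245)

`V = zl S P`, `U = zl S L`. `Pf S P V U` : the fields `one`, `quad`, `out`, `pair`, `sg`, `wab` of `Ex.Gy` for `P`.
-/

set_option autoImplicit false
set_option linter.unusedSectionVars false

namespace Cfsg.Agent.Omega.NOThreeL.RRed.Ex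

open Subgroup
open Cfsg.Agent.Omega.FFThm (ElemM OffM)
open Cfsg.Agent.Omega.NOThreeL.RRed.NS (Tt)

universe u

variable {G : Type u} [Group G]

/-- The facts about one parabolic. -/
structure Pf (S P V U : Subgroup G) : Prop where
  one : ∀ B ≤ S, Tt U B → ¬ B ≤ centralizer (V : Set G) → ∀ b ∈ B, b ∉ centralizer (U : Set G) → ∀ u ∈ U,
    b * u = u * b → ∀ c ∈ B, c * u = u * c
  quad : ∀ B ≤ S, Tt U B → ¬ B ≤ centralizer (V : Set G) → ∀ B' ≤ S, Tt U B' → ∀ b ∈ B, ∀ u ∈ U, ∀ c ∈ B',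
    c * (b * u * b⁻¹ * u⁻¹) = b * u * b⁻¹ * u⁻¹ * c
  out : ∀ B ≤ S, Tt U B → ¬ B ≤ centralizer (V : Set G) → ∀ b ∈ B, ∀ u ∈ U, b * u ≠ u * b →
    ∃ p ∈ P, ∃ c ∈ B, ∃ d ∈ B, d * (p * c * p⁻¹ * (b * u * b⁻¹ * u⁻¹) * (p * c * p⁻¹)⁻¹) ≠
      p * c * p⁻¹ * (b * u * b⁻¹ * u⁻¹) * (p * c * p⁻¹)⁻¹ * d
  pair : ∀ B ≤ S, ∀ B' ≤ S, Tt U B → Tt U B' → ¬ B ≤ centralizer (V : Set G) → ¬ B' ≤ centralizer (V : Set G) →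
    ∀ b ∈ B, ∀ b' ∈ B', ∀ u ∈ U, ∀ u' ∈ U, b * u * b⁻¹ * u⁻¹ = b' * u' * b'⁻¹ * u'⁻¹ → b * u ≠ u * b →
      ∀ c ∈ B, ∃ c' ∈ B', ∀ v ∈ V, c' * v * c'⁻¹ = c * v * c⁻¹
  sg : ∀ A ≤ S, OffM V A →
    (∃ X ≤ A, ∃ Y ≤ A, A ⊓ centralizer (U : Set G) ≤ X ∧ A ⊓ centralizer (U : Set G) ≤ Y ∧ X ≠ A ∧ Y ≠ A ∧
      Nat.card A * Nat.card ↥(U ⊓ centralizer (A : Set G)) ≤ Nat.card X * Nat.card ↥(U ⊓ centralizer (X : Set G)) ∧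
      Nat.card A * Nat.card ↥(U ⊓ centralizer (A : Set G)) ≤ Nat.card Y * Nat.card ↥(U ⊓ centralizer (Y : Set G)) ∧
      A ≤ X ⊔ Y) ∨
      (∀ a ∈ A, a ∉ centralizer (V : Set G) → ∀ v ∈ V, a * v = v * a → ∀ c ∈ A, c * v = v * c)
  wab : ∀ A ≤ S, OffM V A → ∀ B ≤ S, Tt U B → ¬ B ≤ centralizer (V : Set G) → ∀ a ∈ A, ∀ b ∈ B, ∀ v ∈ V,
    a * (b * v * b⁻¹) * a⁻¹ = b * (a * v * a⁻¹) * b⁻¹

end Cfsg.Agent.Omega.NOThreeL.RRed.Ex
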