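import Cfsg.Agent.Omega.NOThreeL.RRed.Ex.InstB
import Cfsg.Agent.Omega.NOThreeL.RRed.Ex.Pf

/-!
# NO-3L, box R: THEOREM EX (#26554), the field `sg` of `Gp` from `Pf.sg`
-/

set_option autoImplicit false
set_option linter.unusedSectionVars false

namespace Cfsg.Agent.Omega.NOThreeL.RRed.Ex.Sg

open Subgroup Cfsg Cfsg.Agent.ZN Cfsg.Agent.Omega.MinPar
open Cfsg.Agent.Omega.FFThm
open Cfsg.Agent.Omega.NOThreeL.RSplit (Nrm)
open Cfsg.Agent.Omega.NOThreeL.RRed.NS (fxd brk mem_fxd smul_eq_iff conj_eq_cj)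
open Cfsg.Agent.Omega.NOThreeL.RRed.Blk.Types (El)
open Cfsg.Agent.Omega.NOThreeL.RRed.Blk.TypesNat (XH ph ph_smul ph_surj mem_ker)
open Cfsg.Agent.Omega.NOThreeL.RRed.Blk.AsmCore
open scoped Pointwise

universe u

variable {G : Type u} [Group G]

section basic

variable {L U : Subgroup G} (Q : Nrm L U)

/-- `C_A(U) ≤ X ≤ A`, `im X = im A`: `X = A` -/
theorem eq_of_im {A X : Subgroup G} (hA : A ≤ L) (hX : X ≤ A) (hc : A ⊓ centralizer (U : Set G) ≤ X)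
    (h : im Q X = im Q A) : X = A := by
  refine le_antisymm hX fun a ha => ?_
  have h1 : ph Q ⟨a, hA ha⟩ ∈ im Q X := by
    rw [h]
    exact ph_mem_im Q ha
  obtain ⟨x, hx, h2⟩ := h1
  have hx' : (x : G) ∈ X := hx
  have h3 : (⟨a, hA ha⟩ * x⁻¹ : L) ∈ (ph Q).ker := by
    rw [MonoidHom.mem_ker, map_mul, map_inv, h2, mul_inv_cancel]
  have h4 : a * (x : G)⁻¹ ∈ centralizer (U : Set G) := (mem_ker Q).1 h3
  have h5 : a * (x : G)⁻¹ ∈ X := hc (mem_inf.2 ⟨A.mul_mem ha (A.inv_mem (hX hx')), h4⟩)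
  have h6 := mul_mem h5 hx'
  rwa [inv_mul_cancel_right] at h6

theorem xa_mono [Finite G] {A X : Subgroup G} (hA : A ≤ L) (hX : X ≤ A) (hc : A ⊓ centralizer (U : Set G) ≤ X)
    (h : Xa Q.Mod (im Q A))
    (hn : Nat.card A * Nat.card ↥(U ⊓ centralizer (A : Set G)) ≤ Nat.card X * Nat.card ↥(U ⊓ centralizer (X : Set G))) :
    Xa Q.Mod (im Q X) := by
  unfold Xa at h ⊢
  have hXL := hX.trans hA
  rw [InstB.card_fxd_im Q hA] at h
  rw [InstB.card_fxd_im Q hXL]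
  have e : X ⊓ centralizer (U : Set G) = A ⊓ centralizer (U : Set G) :=
    le_antisymm (inf_le_inf_right _ hX) (le_inf hc inf_le_right)
  have h1 := card_im Q hA
  have h2 := card_im Q hXL
  rw [e] at h2
  rw [← h1, ← h2] at hn
  refine h.trans ?_
  refine Nat.le_of_mul_le_mul_right ?_ (Nat.card_pos : 0 < Nat.card ↥(A ⊓ centralizer (U : Set G)))
  calc _ = Nat.card (im Q A) * Nat.card ↥(A ⊓ centralizer (U : Set G)) * Nat.card ↥(U ⊓ centralizer (A : Set G)) := by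
        ring
    _ ≤ _ := hn
    _ = _ := by ring

end basic

/-- **the field `sg`** -/
theorem sg [Finite G] (hc : IsCharacteristicTwoType G) {S : Sylow 2 G} {L P : Subgroup G}
    (Q : Nrm L (zl (S : Subgroup G) L)) (hP : IsParS (S : Subgroup G) P) (hPL : P ≤ L)
    (hno : NoOverM (zl (S : Subgroup G) L) L)
    (pf : ConclM (S : Subgroup G) P → Pf (S : Subgroup G) P (zl (S : Subgroup G) P) (zl (S : Subgroup G) L)) :
    ∀ A ≤ im Q (S : Subgroup G), El A → Xa Q.Mod A → ¬ Fx (Q.ad (zl (S : Subgroup G) P)) A →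
    (∃ X ≤ A, ∃ Y ≤ A, X ≠ A ∧ Y ≠ A ∧ Xa Q.Mod X ∧ Xa Q.Mod Y ∧ X ⊔ Y = A) ∨
      (∀ a ∈ A, (¬ ∀ w ∈ Q.ad (zl (S : Subgroup G) P), a • w = w) →
        ∀ w ∈ Q.ad (zl (S : Subgroup G) P), a • w = w → w ∈ (fxd A : AddSubgroup Q.Mod)) := by
  intro A' hA' hE hX hF
  obtain ⟨A, hA, rfl⟩ := InstB.exists_im Q hA'
  have hAL : A ≤ L := (hA.trans hP.le).trans hPL
  have hWU : zl (S : Subgroup G) P ≤ zl (S : Subgroup G) L := NOThreeL.Star.zl_mono _ hPL
  have hcomm : zl (S : Subgroup G) L ≤ centralizer (zl (S : Subgroup G) L : Set G) := fun x hx =>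
    mem_centralizer_iff.2 fun y hy => Q.ab y hy x hx
  have hEM := InstB.elemM_of Q hAL hE
  have hex := InstB.exa_of Q hAL hno hEM hX
  have hne : ¬ A ≤ centralizer (zl (S : Subgroup G) P : Set G) := fun h => hF ((InstB.fx_im Q hWU hAL).2 h)
  obtain ⟨-, -, hoff, hconcl, -⟩ := exact_split hc hP hPL hno hcomm hA hEM hex hne
  rcases (pf hconcl).sg A hA hoff with ⟨X, hXA, Y, hYA, hcX, hcY, hXne, hYne, hnX, hnY, hXY⟩ | h
  · left
    refine ⟨im Q X, im_mono Q hXA, im Q Y, im_mono Q hYA, fun h => hXne (eq_of_im Q hAL hXA hcX h),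
      fun h => hYne (eq_of_im Q hAL hYA hcY h), xa_mono Q hAL hXA hcX hX hnX, xa_mono Q hAL hYA hcY hX hnY, ?_⟩
    refine le_antisymm (sup_le (im_mono Q hXA) (im_mono Q hYA)) ?_
    apply im_le_of
    refine hXY.trans (sup_le ?_ ?_)
    · intro x hx
      exact ⟨⟨x, hAL (hXA hx)⟩, mem_sup_left (ph_mem_im Q hx), rfl⟩
    · intro x hx
      exact ⟨⟨x, hAL (hYA hx)⟩, mem_sup_right (ph_mem_im Q hx), rfl⟩
  · right
    rintro _ ⟨a, ha, rfl⟩ h1 w hw h2
    have h3 : (a : G) ∉ centralizer (zl (S : Subgroup G) P : Set G) := by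
      intro h4
      apply h1
      intro v hv
      rw [ph_smul, smul_eq_iff, mul_inv_eq_iff_eq_mul]
      exact (mem_centralizer_iff.1 h4 _ hv).symm
    rw [ph_smul, smul_eq_iff, mul_inv_eq_iff_eq_mul] at h2
    rw [fxd_im Q hAL, mem_centralizer_iff]
    exact fun c hc' => h a ha h3 _ hw h2 c hc'

end Cfsg.Agent.Omega.NOThreeL.RRed.Ex.Sg
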