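import Cfsg.Agent.Omega.NOThreeL.RRed.Ex.OneQuad
import Cfsg.Agent.Omega.NOThreeL.RRed.Ex.Pf

/-!
# NO-3L, box R: THEOREM EX (#26554), the transfer of the facts about one parabolic: `out` and `pair` (text: helper245)

`Q : Nrm L (zl S L)`, `P ∈ P*(S)`, `P ≤ L`, `pf : ConclM S P → Pf S P (zl S P) (zl S L)`.

* `concl` : a minimal exact group which moves `V_P` gives `ConclM S P`;
* **`out`**, **`pair`** : the fields of `Inst.Gp` (the fields `one`, `quad` are in `Ex/OneQuad`).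
-/

set_option autoImplicit false
set_option linter.unusedSectionVars false

namespace Cfsg.Agent.Omega.NOThreeL.RRed.Ex.Tr1

open Subgroup Cfsg Cfsg.Agent.ZN Cfsg.Agent.Omega.MinPar
open Cfsg.Agent.Omega.FFThm
open Cfsg.Agent.Omega.NOThreeL.RSplit (Nrm)
open Cfsg.Agent.Omega.NOThreeL.RRed.NS (fxd brk mem_fxd smul_eq_iff Tt tt_of_mx)
open Cfsg.Agent.Omega.NOThreeL.RRed.Blk.TypesNat (XH ph ph_smul ph_eq)
open Cfsg.Agent.Omega.NOThreeL.RRed.Blk.AsmCore (im mem_im ph_mem_im fxd_im)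
open scoped Pointwise

universe u

variable {G : Type u} [Group G] [Finite G] {S : Sylow 2 G} {L P : Subgroup G}

theorem concl (hc : IsCharacteristicTwoType G) (Q : Nrm L (zl (S : Subgroup G) L)) (hP : IsParS (S : Subgroup G) P)
    (hPL : P ≤ L) (no : NoOverM (zl (S : Subgroup G) L) L) {A : Subgroup G} (hA : A ≤ (S : Subgroup G))
    (hM : Mx (zl (S : Subgroup G) L) A) (hne : ¬ A ≤ centralizer (zl (S : Subgroup G) P : Set G)) :
    ConclM (S : Subgroup G) P := by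
  have hcomm : zl (S : Subgroup G) L ≤ centralizer (zl (S : Subgroup G) L : Set G) := fun x hx =>
    mem_centralizer_iff.2 fun y hy => Q.ab y hy x hx
  exact (exact_split hc hP hPL no hcomm hA hM.toElemM hM.exact hne).2.2.2.1

variable (Q : Nrm L (zl (S : Subgroup G) L))

/-- the data of a member of `EE` -/
theorem data (hc : IsCharacteristicTwoType G) (hP : IsParS (S : Subgroup G) P)
    (hPL : P ≤ L) (no : NoOverM (zl (S : Subgroup G) L) L) {B' : Subgroup (XH Q)} (hB' : B' ≤ im Q (S : Subgroup G))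
    (hMn : Mn Q.Mod B') (hF : ¬ Fx (Q.ad (zl (S : Subgroup G) P)) B') :
    ∃ B ≤ (S : Subgroup G), B ≤ L ∧ im Q B = B' ∧ Tt (zl (S : Subgroup G) L) B ∧
      ¬ B ≤ centralizer (zl (S : Subgroup G) P : Set G) ∧ ConclM (S : Subgroup G) P := by
  obtain ⟨B, hBS, hBL, rfl⟩ := Dict.exists_im Q hB'
  have hVU : zl (S : Subgroup G) P ≤ zl (S : Subgroup G) L := Star.zl_mono _ hPL
  have hM := Dict.mx_of Q no hBL (S.isPGroup'.to_le hBS) hMn
  have hne : ¬ B ≤ centralizer (zl (S : Subgroup G) P : Set G) := fun h => hF ((Dict.fx_ad Q hVU hBL).2 h)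
  exact ⟨B, hBS, hBL, rfl, tt_of_mx hM no hBL, hne, concl hc Q hP hPL no hBS hM hne⟩

/-- **the field `out`** -/
theorem out (hc : IsCharacteristicTwoType G) (hP : IsParS (S : Subgroup G) P)
    (hPL : P ≤ L) (no : NoOverM (zl (S : Subgroup G) L) L)
    (pf : ConclM (S : Subgroup G) P → Pf (S : Subgroup G) P (zl (S : Subgroup G) P) (zl (S : Subgroup G) L)) :
    ∀ B ≤ im Q (S : Subgroup G), Mn Q.Mod B → ¬ Fx (Q.ad (zl (S : Subgroup G) P)) B → ∀ b ∈ B, ∀ m : Q.Mod,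
      b • m ≠ m → ∃ p ∈ im Q P, ∃ c ∈ B, (p * c * p⁻¹) • (b • m - m) ∉ (fxd B : AddSubgroup Q.Mod) := by
  intro B' hB' hMn hF b' hb' m hbm
  obtain ⟨B, hBS, hBL, rfl, t, hne, cl⟩ := data Q hc hP hPL no hB' hMn hF
  obtain ⟨b, hb, rfl⟩ := hb'
  have hbm' : (b : G) * Q.val m ≠ Q.val m * b := fun h => hbm (by
    rw [ph_smul, smul_eq_iff, mul_inv_eq_iff_eq_mul]; exact h)
  obtain ⟨p, hp, c, hc', d, hd, h1⟩ := (pf cl).out B hBS t hne b hb _ (Q.val_mem m) hbm'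
  refine ⟨ph Q ⟨p, hPL hp⟩, ph_mem_im Q hp, ph Q ⟨c, hBL hc'⟩, ph_mem_im Q hc', fun h2 => h1 ?_⟩
  rw [fxd_im Q hBL, mem_centralizer_iff] at h2
  have h3 := h2 d hd
  have e : ph Q (⟨p, hPL hp⟩ : L) * ph Q (⟨c, hBL hc'⟩ : L) * (ph Q (⟨p, hPL hp⟩ : L))⁻¹ =
      ph Q ((⟨p, hPL hp⟩ : L) * ⟨c, hBL hc'⟩ * (⟨p, hPL hp⟩ : L)⁻¹) := by rw [map_mul, map_mul, map_inv]
  rw [e, ph_smul, ph_smul, Nrm.val_smul, Nrm.val_sub, Nrm.val_smul] at h3
  exact h3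

/-- **the field `pair`** -/
theorem pair (hc : IsCharacteristicTwoType G) (hP : IsParS (S : Subgroup G) P)
    (hPL : P ≤ L) (no : NoOverM (zl (S : Subgroup G) L) L)
    (pf : ConclM (S : Subgroup G) P → Pf (S : Subgroup G) P (zl (S : Subgroup G) P) (zl (S : Subgroup G) L)) :
    ∀ B ≤ im Q (S : Subgroup G), ∀ B' ≤ im Q (S : Subgroup G), Mn Q.Mod B → Mn Q.Mod B' →
      ¬ Fx (Q.ad (zl (S : Subgroup G) P)) B → ¬ Fx (Q.ad (zl (S : Subgroup G) P)) B' →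
      ∀ b ∈ B, ∀ b' ∈ B', ∀ m m' : Q.Mod, b • m - m = b' • m' - m' → b • m ≠ m →
        ∀ c ∈ B, ∃ c' ∈ B', ∀ w ∈ Q.ad (zl (S : Subgroup G) P), c' • w = c • w := by
  intro B₁ hB₁ B₂ hB₂ hMn₁ hMn₂ hF₁ hF₂ b₁ hb₁ b₂ hb₂ m m' he hbm c₁ hc₁
  obtain ⟨B, hBS, hBL, rfl, t, hne, cl⟩ := data Q hc hP hPL no hB₁ hMn₁ hF₁
  obtain ⟨B', hBS', hBL', rfl, t', hne', -⟩ := data Q hc hP hPL no hB₂ hMn₂ hF₂
  obtain ⟨b, hb, rfl⟩ := hb₁
  obtain ⟨b', hb', rfl⟩ := hb₂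
  obtain ⟨c, hcB, rfl⟩ := hc₁
  have hbm' : (b : G) * Q.val m ≠ Q.val m * b := fun h => hbm (by
    rw [ph_smul, smul_eq_iff, mul_inv_eq_iff_eq_mul]; exact h)
  have he' : (b : G) * Q.val m * (b : G)⁻¹ * (Q.val m)⁻¹ = b' * Q.val m' * (b' : G)⁻¹ * (Q.val m')⁻¹ := by
    have h1 := congrArg Q.val he
    rwa [ph_smul, ph_smul, Nrm.val_sub, Nrm.val_sub, Nrm.val_smul, Nrm.val_smul] at h1
  obtain ⟨c', hc', h1⟩ := (pf cl).pair B hBS B' hBS' t t' hne hne' b hb b' hb' _ (Q.val_mem m) _ (Q.val_mem m') he'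
    hbm' c hcB
  refine ⟨ph Q ⟨c', hBL' hc'⟩, ph_mem_im Q hc', fun w hw => ?_⟩
  rw [ph_smul, ph_smul, Nrm.ext_iff, Nrm.val_smul, Nrm.val_smul]
  exact h1 _ hw

end Cfsg.Agent.Omega.NOThreeL.RRed.Ex.Tr1
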