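import Cfsg.Agent.Omega.NOThreeL.RRed.Ex.InstB
import Cfsg.Agent.Omega.NOThreeL.RRed.NS.Sym
import Cfsg.Agent.Omega.NO3S.ThmB.Inst

/-!
# NO-3L, box R: THEOREM EX (#26554), the field `wab` (text: helper245)

Two offenders of `S` on `V_P` commute on `V_P`: products of root elements of `S`, resp. of transpositions of `S`.

* `nat_swap`, `sym_swap`, **`off_swap`** : the group form;
* **`wab`** : the field `wab` for one `P`.
-/

set_option autoImplicit false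
set_option linter.unusedSectionVars false

namespace Cfsg.Agent.Omega.NOThreeL.RRed.Ex.Wab

open Subgroup Cfsg Cfsg.Agent.ZN Cfsg.Agent.Omega.MinPar
open Cfsg.Agent.Omega.FFThm Cfsg.Agent.Lib.SL2Mat
open Cfsg.Agent.Omega.FrameFF (cv)
open Cfsg.Agent.Omega.NO3S.ThmB Cfsg.Agent.Omega.NO3S.ThmB.Sb
open Cfsg.Agent.Omega.NOThreeL.RSplit (Nrm)
open Cfsg.Agent.Omega.NOThreeL.RRed.NS (fxd brk mem_fxd smul_eq_iff conj_eq_cj keep' off_elem')
open Cfsg.Agent.Omega.NOThreeL.RRed.Blk.Types (Sit El)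
open Cfsg.Agent.Omega.NOThreeL.RRed.Blk.TypesNat (XH ph ph_smul XH_faith ph_eq ph_surj no_XH)
open Cfsg.Agent.Omega.NOThreeL.RRed.Blk.AsmCore (im mem_im ph_mem_im im_mono im_cj)
open Cfsg.Agent.Omega.NOThreeL.RRed.Ex.InstB (exists_im elemM_of exa_of fx_im)
open scoped Pointwise

universe u

variable {G : Type u} [Group G]

/-- natural blocks -/
theorem nat_swap {F : Type} [Field F] {S P V D : Subgroup G} {k : ℕ} {M : NatKM F S P V D k} (h : Nb M)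
    {A B : Subgroup G} (hA : A ≤ S) (hB : B ≤ S) (oA : OffM V A) (oB : OffM V B) {a b v : G} (ha : a ∈ A) (hb : b ∈ B)
    (hv : v ∈ V) : a * (b * v * b⁻¹) * a⁻¹ = b * (a * v * a⁻¹) * b⁻¹ := by
  obtain ⟨I, h1, -⟩ := M.offM A hA oA
  obtain ⟨J, h2, -⟩ := M.offM B hB oB
  obtain ⟨x, -, hx⟩ := h1 a ha
  obtain ⟨y, -, hy⟩ := h2 b hb
  exact h.swap (h.SP' (hA ha)) (h.SP' (hB hb)) hx hy (h.up_comm x y) hv

/-- blocks of letters -/
theorem sym_swap [Finite G] {S P V D : Subgroup G} {k m : ℕ} {M : SymKM S P V D k m} (h : Sb M)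
    {A B : Subgroup G} (hA : A ≤ S) (hB : B ≤ S) (oA : OffM V A) (oB : OffM V B) {a b v : G} (ha : a ∈ A) (hb : b ∈ B)
    (hv : v ∈ V) : a * (b * v * b⁻¹) * a⁻¹ = b * (a * v * a⁻¹) * b⁻¹ := by
  obtain ⟨τ, hτ, -, hτ'⟩ := off_elem' hA oA ha
  obtain ⟨σ, hσ, -, hσ'⟩ := off_elem' hB oB hb
  refine h.swap (h.SP' (hA ha)) (h.SP' (hB hb)) hτ hσ ?_ hv
  funext i
  ext1 x
  rw [Pi.mul_apply, Pi.mul_apply, Equiv.Perm.mul_apply, Equiv.Perm.mul_apply]
  by_cases hx : τ i x = x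
  · by_cases hx' : σ i x = x
    · rw [hx, hx', hx]
    · obtain ⟨-, c, hc, hcA⟩ := hσ' i x hx'
      rcases keep' h hA hτ' (hB hc) (Ne.symm hx') hcA.1 with ⟨-, h2⟩ | ⟨h1, -⟩
      · rw [hx, h2]
      · exact absurd (h1.symm.trans hx) hx'
  · obtain ⟨h0, c, hc, hcA⟩ := hτ' i x hx
    rcases keep' h hB hσ' (hA hc) (Ne.symm hx) hcA.1 with ⟨h1, h2⟩ | ⟨h1, h2⟩
    · rw [h1, h2]
    · rw [h1, h2, h0]

/-- **Two offenders of `S` on `V_P` commute on `V_P`.** -/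
theorem off_swap [Finite G] (hc : IsCharacteristicTwoType G) {S : Sylow 2 G} {P : Subgroup G}
    (hP : IsParS (S : Subgroup G) P) (cl : ConclM (S : Subgroup G) P) {A B : Subgroup G} (hA : A ≤ (S : Subgroup G))
    (hB : B ≤ (S : Subgroup G)) (oA : OffM (zl (S : Subgroup G) P) A) (oB : OffM (zl (S : Subgroup G) P) B) {a b v : G}
    (ha : a ∈ A) (hb : b ∈ B) (hv : v ∈ zl (S : Subgroup G) P) :
    a * (b * v * b⁻¹) * a⁻¹ = b * (a * v * a⁻¹) * b⁻¹ := by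
  rcases cl with ⟨F, i1, i2, i3, k, -, ⟨M⟩⟩ | ⟨k, m, -, hm, ⟨M⟩⟩
  · exact nat_swap (NO3S.ThmB.Inst.nb hc hP M) hA hB oA oB ha hb hv
  · exact sym_swap (NO3S.ThmB.Inst.sb hc hP hm M) hA hB oA oB ha hb hv

/-- one of the two acts trivially -/
theorem triv_swap {S P A : Subgroup G} (hA : A ≤ centralizer (zl S P : Set G)) {a b v : G}
    (ha : a ∈ A) (hb : b ∈ P) (hv : v ∈ zl S P) : a * (b * v * b⁻¹) * a⁻¹ = b * (a * v * a⁻¹) * b⁻¹ := by
  have h1 : ∀ w ∈ zl S P, a * w * a⁻¹ = w := fun w hw => by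
    rw [← mem_centralizer_iff.1 (hA ha) w hw, mul_inv_cancel_right]
  rw [h1 v hv, h1 _ ((mem_normalizer_iff.1 (MinSimple.VModule.le_normalizer_zl S P hb) v).1 hv)]

/-- **the field `wab`** -/
theorem wab [Finite G] (hc : IsCharacteristicTwoType G) {S : Sylow 2 G} {L P : Subgroup G}
    (Q : Nrm L (zl (S : Subgroup G) L)) (hP : IsParS (S : Subgroup G) P) (hPL : P ≤ L)
    (hno : NoOverM (zl (S : Subgroup G) L) L) :
    ∀ A ≤ im Q (S : Subgroup G), El A → Xa Q.Mod A → ∀ B ≤ im Q (S : Subgroup G), Mn Q.Mod B →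
      ∀ a ∈ A, ∀ b ∈ B, ∀ w ∈ Q.ad (zl (S : Subgroup G) P), a • b • w = b • a • w := by
  intro A' hA' hE hX B' hB' hM
  obtain ⟨A, hA, rfl⟩ := exists_im Q hA'
  obtain ⟨B, hB, rfl⟩ := exists_im Q hB'
  have hAL : A ≤ L := (hA.trans hP.le).trans hPL
  have hBL : B ≤ L := (hB.trans hP.le).trans hPL
  have hcomm : zl (S : Subgroup G) L ≤ centralizer (zl (S : Subgroup G) L : Set G) := fun x hx =>
    mem_centralizer_iff.2 fun y hy => Q.ab y hy x hx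
  have hEA := elemM_of Q hAL hE
  have hxA := exa_of Q hAL hno hEA hX
  have hEB := elemM_of Q hBL hM.el
  have hxB := exa_of Q hBL hno hEB hM.ex
  rintro _ ⟨a, ha, rfl⟩ _ ⟨b, hb, rfl⟩ w hw
  refine Nrm.ext ?_
  rw [ph_smul, ph_smul, ph_smul, ph_smul, Nrm.val_smul, Nrm.val_smul, Nrm.val_smul, Nrm.val_smul]
  by_cases h1 : A ≤ centralizer (zl (S : Subgroup G) P : Set G)
  · exact triv_swap h1 ha (hP.le (hB hb)) hw
  by_cases h2 : B ≤ centralizer (zl (S : Subgroup G) P : Set G)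
  · exact (triv_swap h2 hb (hP.le (hA ha)) hw).symm
  obtain ⟨-, -, oA, cl, -⟩ := exact_split hc hP hPL hno hcomm hA hEA hxA h1
  obtain ⟨-, -, oB, -, -⟩ := exact_split hc hP hPL hno hcomm hB hEB hxB h2
  exact off_swap hc hP cl hA hB oA oB ha hb hw

end Cfsg.Agent.Omega.NOThreeL.RRed.Ex.Wab
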