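import Cfsg.Agent.Omega.NOThreeL.RRed.Ex.CommX
import Cfsg.Agent.Omega.NOThreeL.RRed.Ex.D
import Cfsg.Agent.Omega.NOThreeL.RRed.Ex.Inst
import Cfsg.Agent.Omega.NOThreeL.RRed.Ex.InstB
import Cfsg.Agent.Omega.NOThreeL.RRed.Ex.Cov
import Cfsg.Agent.Omega.NOThreeL.RRed.Ex.Wab
import Cfsg.Agent.Omega.NOThreeL.RRed.Ex.Sg
import Cfsg.Agent.Omega.NOThreeL.RRed.Ex.OneQuad
import Cfsg.Agent.Omega.NOThreeL.RRed.Ex.Tr1
import Cfsg.Agent.Omega.NOThreeL.RRed.Ex.PfOf
import Cfsg.Agent.Omega.NOThreeL.RRed.Ex.SymOut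
import Cfsg.Agent.Omega.NOThreeL.RRed.Ex.Cent
import Cfsg.Agent.Omega.NOThreeL.RRed.FourTree

/-!
# NO-3L, box R: THEOREM EX (#26554), assembly

* `gp_of` : `Gp` for one `P`;
* **`exG`** : `ExG S L` for `L` local, generated by its `P ∈ P*(S)`;  **`exB`** : for `V*`.
-/

set_option autoImplicit false
set_option linter.unusedSectionVars false

namespace Cfsg.Agent.Omega.NOThreeL.RRed.Ex.Main

open Subgroup Cfsg Cfsg.Agent.ZN Cfsg.Agent.Omega.MinPar
open Cfsg.Agent.Omega.FFThm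
open Cfsg.Agent.Omega.FrameFF (cv)
open Cfsg.Agent.Omega.NO3S.ThmB (Sb)
open Cfsg.Agent.Omega.NOThreeL.Star (YS)
open Cfsg.Agent.Omega.NOThreeL.RSplit (Nrm)
open Cfsg.Agent.Omega.NOThreeL.RRed.Blk.AsmCore (im)
open Cfsg.Agent.Omega.NOThreeL.RTree (RB)
open Cfsg.Agent.Omega.NOThreeL.RRed.Ex.Inst (Gp gy_of)
open Cfsg.Agent.Omega.NOThreeL.RRed.Ex.Cent (ExG exG_of)

universe u

variable {G : Type u} [Group G] [Finite G] {S : Sylow 2 G} {L P : Subgroup G}

theorem gp_of (hc : IsCharacteristicTwoType G) (Q : Nrm L (zl (S : Subgroup G) L))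
    (hL : IsLoc (S : Subgroup G) L) (hP : IsParS (S : Subgroup G) P)
    (hPL : P ≤ L) (hno : NoOverM (zl (S : Subgroup G) L) L) :
    Gp Q.Mod (im Q (S : Subgroup G)) (im Q P) (Q.ad (zl (S : Subgroup G) P)) := by
  have hU2 := FFThm.elem_zl hc S hL
  have hVU : zl (S : Subgroup G) P ≤ zl (S : Subgroup G) L := NOThreeL.Star.zl_mono _ hPL
  have pf : ConclM (S : Subgroup G) P → Pf (S : Subgroup G) P (zl (S : Subgroup G) P) (zl (S : Subgroup G) L) :=
    fun con => pf_of' hc hP hU2 hVU con fun hM => SymOut.pf_sym hM hU2 hVU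
  exact
    { sy := InstB.sy S Q hP.le hPL
      split := InstB.split hc Q hP hPL hno
      one := OneQuad.one Q hc hL hP hPL hno
      quad := OneQuad.quad Q hc hL hP hPL hno
      out := Tr1.out Q hc hP hPL hno pf
      pair := Tr1.pair Q hc hP hPL hno pf
      sg := Sg.sg hc Q hP hPL hno pf
      cov := Cov.cov hc Q hP hPL hno
      wab := Wab.wab hc Q hP hPL hno }

/-- **THEOREM EX for a local `L`.** -/
theorem exG (hc : IsCharacteristicTwoType G) (hSL : (S : Subgroup G) ≤ L)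
    (hL : IsLoc (S : Subgroup G) L) (gen : L ≤ sSup {P | IsParS (S : Subgroup G) P ∧ P ≤ L})
    (hno : NoOverM (zl (S : Subgroup G) L) L) : ExG (S : Subgroup G) L := by
  have el := FFThm.elem_zl hc S hL
  have Q : Nrm L (zl (S : Subgroup G) L) :=
    { ab := fun u hu v hv => congrArg Subtype.val (el.1.is_comm.comm ⟨u, hu⟩ ⟨v, hv⟩)
      nrm := MinSimple.VModule.le_normalizer_zl _ _ }
  have g := gy_of Q hc hSL hL gen el hno fun P hP hPL => gp_of hc Q hL hP hPL hno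
  exact exG_of Q hSL S.isPGroup' hno (exThm g g.commX)

/-- **THEOREM EX for `V*`.** -/
theorem exB (hG : RB S) (hno : NoOverM (zl (S : Subgroup G) (YS S)) (YS (S : Subgroup G))) :
    ExG (S : Subgroup G) (YS S) :=
  exG hG.ctx.char2 (EOne.S_YS hG) (Merge.isLoc_MZ hG.ctx hG.full hG.data.noff) (FourTree.gen_MZ S) hno

end Cfsg.Agent.Omega.NOThreeL.RRed.Ex.Main
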