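import Cfsg.Agent.Omega.NOThreeL.RRed.Ex.Pf

/-!
# NO-3L, box R: THEOREM EX (#26554): the facts about one parabolic, symmetric type

`M : SymKM S P V D k m`, `V ≤ U`: `pf_sym : Pf S P V U`.

* `exists_tr` : an offender `A ≤ S` contains a transposition `t`;
* `cutS` : `X = C_A(n0)` (`n0` = the vector `{x, 0}`) satisfies `|A| |C_U(A)| ≤ |X| |C_U(X)|`, `t ∉ X`, `A = X ∪ t X`;
* `comU` : `[b, u] = 1` or `[t, n0]` for `u ∈ U`;
* `commW` : offenders of `S` centralise `[t, n0]`.
-/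

set_option autoImplicit false
set_option linter.unusedSectionVars false

namespace Cfsg.Agent.Omega.NOThreeL.RRed.Ex

open Subgroup Cfsg Cfsg.Agent.ZN Cfsg.Agent.ZN.ChoiceBase
open Cfsg.Agent.Omega.FFThm
open Cfsg.Agent.Omega.NO3S.ThmB Cfsg.Agent.Omega.NO3S.ThmB.Sb
open Cfsg.Agent.Omega.NOThreeL.RRed.NS (Tt off_elem' keep' Tt.oneS)

universe u

variable {G : Type u} [Group G] {S P V D : Subgroup G} {k m : ℕ} {M : SymKM S P V D k m} (h : Sb M)

include h

/-- An offender contains a transposition. -/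
theorem exists_tr [Finite G] {A : Subgroup G} (hAS : A ≤ S) (ho : OffM V A) :
    ∃ (i : Fin k) (x y : Fin (2 ^ m + 1)) (t : G), x ≠ y ∧ x ≠ 0 ∧ y ≠ 0 ∧ t ∈ A ∧ Ac M t (pr i x y) := by
  by_contra hne
  push Not at hne
  refine ho.ne fun a ha => mem_centralizer_iff.2 fun v hv => ?_
  obtain ⟨τ, hτ, h0, hτ'⟩ := off_elem' hAS ho ha
  have h1 : τ = 1 := by
    funext i
    ext1 x
    by_contra hx
    have hx' : τ i x ≠ x := hx
    obtain ⟨-, b, hb, hbA⟩ := hτ' i x hx'
    have hx0 : x ≠ 0 := fun e => hx' (by rw [e, h0])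
    have hy0 : τ i x ≠ 0 := fun e => hx0 ((τ i).injective (by rw [e, h0]))
    exact hne i x (τ i x) b (Ne.symm hx') hx0 hy0 hb hbA
  rw [h1] at hτ
  exact (h.comm_of_one (h.SP' (hAS ha)) hτ hv).symm

/-- The cut at a transposition. -/
theorem cutS [Finite G] {U A : Subgroup G} (hVU : V ≤ U) (hAS : A ≤ S) (ho : OffM V A) {i : Fin k}
    {x y : Fin (2 ^ m + 1)} {t : G} (hxy : x ≠ y) (hx0 : x ≠ 0) (hy0 : y ≠ 0) (htA : t ∈ A)
    (htt : Ac M t (pr i x y)) :
    ∃ n0 ∈ V, (∀ g ∈ P, ∀ τ : Fin k → Equiv.Perm (Fin (2 ^ m + 1)), Ac M g τ → τ i x = x → τ i y = y →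
        τ i 0 = 0 → g * n0 = n0 * g) ∧ t * n0 ≠ n0 * t ∧
      Nat.card A * Nat.card ↥(U ⊓ centralizer (A : Set G)) ≤ Nat.card ↥(A ⊓ centralizer ({n0} : Set G)) *
        Nat.card ↥(U ⊓ centralizer ((A ⊓ centralizer ({n0} : Set G) : Subgroup G) : Set G)) ∧
      ∀ a ∈ A, a * n0 = n0 * a ∨ (t⁻¹ * a) * n0 = n0 * (t⁻¹ * a) := by
  have hAP : A ≤ P := hAS.trans h.SP'
  obtain ⟨n0, hn, hne, hfix⟩ := h.nx (i := i) hxy hx0 hy0
  have htP := hAP htA
  have hpx : pr i x y i x = y := by rw [pr, sg_self, Equiv.swap_apply_left]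
  have hp0 : pr i x y i 0 = 0 := by
    rw [pr, sg_self, Equiv.swap_apply_of_ne_of_ne (Ne.symm hx0) (Ne.symm hy0)]
  have htn : M.e (t * n0 * t⁻¹) = dl i y + dl i 0 := by rw [e_pair htt.1 hn hne, hpx, hp0]
  have htn' : t * n0 * t⁻¹ ≠ n0 := fun e => by
    rw [e, hne] at htn
    have h1 := congrFun (congrFun htn i) x
    rw [Pi.add_apply, Pi.add_apply, Pi.add_apply, Pi.add_apply, dl_self, dl_ne i hx0, dl_ne i hxy] at h1
    simp at h1
  have hel : ∀ a ∈ A, a * n0 = n0 * a ∨ (t⁻¹ * a) * n0 = n0 * (t⁻¹ * a) := by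
    intro a ha
    obtain ⟨τ, hτ, h0, hτ'⟩ := off_elem' hAS ho ha
    rcases keep' h hAS hτ' (hAS htA) hxy htt.1 with ⟨h1, h2⟩ | ⟨h1, h2⟩
    · exact Or.inl (hfix a (hAP ha) τ hτ h1 h2 (h0 i))
    · right
      have h3 := h.ac_mul (hAP ha) (h.ac_inv htP htt) hτ
      have e : ((pr i x y)⁻¹ * τ) i = Equiv.swap x y * τ i := by
        rw [Pi.mul_apply, Pi.inv_apply, pr, sg_self, Equiv.swap_inv]
      refine hfix _ (mul_mem (inv_mem htP) (hAP ha)) _ h3 ?_ ?_ ?_
      · rw [e, Equiv.Perm.mul_apply, h1, Equiv.swap_apply_right]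
      · rw [e, Equiv.Perm.mul_apply, h2, Equiv.swap_apply_left]
      · rw [e, Equiv.Perm.mul_apply, h0 i, Equiv.swap_apply_of_ne_of_ne (Ne.symm hx0) (Ne.symm hy0)]
  set B : Subgroup G := A ⊓ centralizer ({n0} : Set G) with hB
  have hBmem : ∀ a, a ∈ B ↔ a ∈ A ∧ a * n0 = n0 * a := fun a => by
    rw [hB, mem_inf, mem_centralizer_singleton_iff]
  have hBA : B ≤ A := inf_le_left
  have hcA : Nat.card A ≤ 2 * Nat.card B := by
    classical
    have h1 : Nat.card A ≤ Nat.card Bool * Nat.card B := by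
      refine card_le_of_map (fun a => decide (a * n0 = n0 * a)) fun a ha a' ha' he => ?_
      have he' : (a * n0 = n0 * a) ↔ (a' * n0 = n0 * a') := decide_eq_decide.1 he
      refine (hBmem _).2 ⟨mul_mem (inv_mem ha) ha', ?_⟩
      by_cases hc : a * n0 = n0 * a
      · exact ((show Commute a n0 from hc).inv_left).mul_left (he'.1 hc)
      · have h2 : Commute (t⁻¹ * a) n0 := (hel a ha).resolve_left hc
        have h3 : Commute (t⁻¹ * a') n0 := (hel a' ha').resolve_left fun h => hc (he'.2 h)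
        have h4 := h2.inv_left.mul_left h3
        have e : (t⁻¹ * a)⁻¹ * (t⁻¹ * a') = a⁻¹ * a' := by group
        rw [e] at h4
        exact h4
    rwa [Nat.card_eq_fintype_card (α := Bool), Fintype.card_bool] at h1
  let f : Bool → G := fun b => if b then n0 else 1
  have hfU : ∀ b, f b ∈ U := fun b => by
    cases b
    · exact one_mem _
    · exact hVU hn
  have hinj : ∀ b c b' c', c ∈ U → (∀ a ∈ A, a * c = c * a) → c' ∈ U → (∀ a ∈ A, a * c' = c' * a) →
      f b * c = f b' * c' → b = b' ∧ c = c' := by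
    intro b c b' c' hc hca hc' hca' e
    have key : ∀ c c' : G, (∀ a ∈ A, a * c = c * a) → (∀ a ∈ A, a * c' = c' * a) → n0 * c = c' → False := by
      intro c c' h1 h2 h3
      have h4 : Commute t (n0 * c) := by rw [h3]; exact h2 t htA
      have h5 : Commute t (n0 * c * c⁻¹) := h4.mul_right ((show Commute t c from h1 t htA).inv_right)
      rw [mul_inv_cancel_right] at h5
      exact htn' (by rw [h5.eq]; group)
    cases b <;> cases b'
    · simp only [f] at e
      exact ⟨rfl, by simpa using e⟩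
    · simp only [f] at e
      exact (key c' c hca' hca (by simpa using e.symm)).elim
    · simp only [f] at e
      exact (key c c' hca hca' (by simpa using e)).elim
    · simp only [f] at e
      exact ⟨rfl, by simpa using e⟩
  have hcU : 2 * Nat.card ↥(U ⊓ centralizer (A : Set G)) ≤ Nat.card ↥(U ⊓ centralizer (B : Set G)) := by
    have h2 : (2 : ℕ) = Nat.card Bool := by rw [Nat.card_eq_fintype_card, Fintype.card_bool]
    rw [h2, ← Nat.card_prod]
    refine Nat.card_le_card_of_injective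
      (fun p : Bool × ↥(U ⊓ centralizer (A : Set G)) =>
        (⟨f p.1 * p.2, mul_mem ⟨hfU _, ?_⟩ ?_⟩ : ↥(U ⊓ centralizer (B : Set G)))) fun p q e => ?_
    · refine mem_centralizer_iff.2 fun a ha => ?_
      cases p.1
      · simp [f]
      · simpa [f] using ((hBmem a).1 ha).2
    · exact ⟨p.2.2.1, mem_centralizer_iff.2 fun a ha => mem_centralizer_iff.1 p.2.2.2 a (hBA ha)⟩
    · have h1 := hinj p.1 p.2 q.1 q.2 p.2.2.1 (mem_centralizer_iff.1 p.2.2.2) q.2.2.1
        (mem_centralizer_iff.1 q.2.2.2) (congrArg Subtype.val e)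
      exact Prod.ext h1.1 (Subtype.ext h1.2)
  refine ⟨n0, hn, hfix, fun e => htn' (by rw [e]; group), ?_, hel⟩
  calc Nat.card A * Nat.card ↥(U ⊓ centralizer (A : Set G)) ≤
      2 * Nat.card B * Nat.card ↥(U ⊓ centralizer (A : Set G)) := Nat.mul_le_mul_right _ hcA
    _ = Nat.card B * (2 * Nat.card ↥(U ⊓ centralizer (A : Set G))) := by ring
    _ ≤ _ := Nat.mul_le_mul_left _ hcU

omit h in
/-- `[b, u] = 1` or `[t, n0]` -/
theorem comU {U B : Subgroup G} (hU2 : IsElementaryAbelian 2 U) (hVU : V ≤ U) {i : Fin k} {x y : Fin (2 ^ m + 1)}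
    {t n0 : G} (O : OneS M U B i x y t n0) {b u : G} (hb : b ∈ B) (hu : u ∈ U) :
    b * u * b⁻¹ * u⁻¹ = 1 ∨ b * u * b⁻¹ * u⁻¹ = t * n0 * t⁻¹ * n0⁻¹ := by
  rcases O.act b hb with h1 | h1
  · left
    rw [← mem_centralizer_iff.1 h1 u hu]; group
  · have h2 := mem_centralizer_iff.1 h1 u hu
    have e2 : b * u * b⁻¹ * u⁻¹ = t * u * t⁻¹ * u⁻¹ := by
      calc b * u * b⁻¹ * u⁻¹ = t * (t⁻¹ * b * u) * b⁻¹ * u⁻¹ := by group
        _ = t * (u * (t⁻¹ * b)) * b⁻¹ * u⁻¹ := by rw [h2]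
        _ = _ := by group
    rw [e2]
    rcases O.full u hu with h3 | h3
    · left
      rw [h3 t O.tA]; group
    · right
      have h4 := h3 t O.tA
      calc t * u * t⁻¹ * u⁻¹ = t * n0 * (t⁻¹ * (t * (n0⁻¹ * u))) * t⁻¹ * u⁻¹ := by group
        _ = t * n0 * (t⁻¹ * ((n0⁻¹ * u) * t)) * t⁻¹ * u⁻¹ := by rw [h4]
        _ = t * n0 * t⁻¹ * (n0⁻¹ * u) * u⁻¹ := by group
        _ = _ := by group

/-- offenders of `S` centralise `[t, n0]` -/
theorem commW [Finite G] {U B : Subgroup G} {i : Fin k} {x y : Fin (2 ^ m + 1)} {t n0 : G}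
    (O : OneS M U B i x y t n0) {A : Subgroup G} (hAS : A ≤ S) (ho : OffM V A) {a : G} (ha : a ∈ A) :
    Commute a (t * n0 * t⁻¹ * n0⁻¹) := by
  obtain ⟨τ, hτ, h0, hτ'⟩ := off_elem' hAS ho ha
  have hbP := h.SP' (hAS ha)
  have htP := h.SP' (O.AS O.tA)
  rcases keep' h hAS hτ' (O.AS O.tA) O.xy O.tt.1 with ⟨h1, h2⟩ | ⟨h1, h2⟩
  · exact h.fix_nxy O hbP hτ h1 h2 (h0 i)
  · have h3 := h.ac_mul hbP (h.ac_inv htP O.tt) hτ
    have e : ((pr i x y)⁻¹ * τ) i = Equiv.swap x y * τ i := by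
      rw [Pi.mul_apply, Pi.inv_apply, pr, sg_self, Equiv.swap_inv]
    have h4 := h.fix_nxy O (mul_mem (inv_mem htP) hbP) h3
      (by rw [e, Equiv.Perm.mul_apply, h1, Equiv.swap_apply_right])
      (by rw [e, Equiv.Perm.mul_apply, h2, Equiv.swap_apply_left])
      (by rw [e, Equiv.Perm.mul_apply, h0 i, Equiv.swap_apply_of_ne_of_ne (Ne.symm O.x0) (Ne.symm O.y0)])
    have h5 := (h.t_nxy O).mul_left h4
    rw [mul_inv_cancel_left] at h5
    exact h5

/-- an element of an offender of `S` commutes with `t` on `V` -/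
theorem commT [Finite G] {A : Subgroup G} (hAS : A ≤ S) (ho : OffM V A) {a : G} (ha : a ∈ A) {i : Fin k}
    {x y : Fin (2 ^ m + 1)} (hxy : x ≠ y) {t : G} (ht : t ∈ S) (htt : Ac M t (pr i x y)) {v : G} (hv : v ∈ V) :
    a * (t * v * t⁻¹) * a⁻¹ = t * (a * v * a⁻¹) * t⁻¹ := by
  obtain ⟨τ, hτ, h0, hτ'⟩ := off_elem' hAS ho ha
  refine h.swap (h.SP' (hAS ha)) (h.SP' ht) hτ htt ?_ hv
  rcases keep' h hAS hτ' ht hxy htt.1 with ⟨h1, h2⟩ | ⟨h1, h2⟩
  · exact pr_comm h1 h2
  · funext l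
    rw [Pi.mul_apply, Pi.mul_apply]
    by_cases hl : l = i
    · subst hl
      rw [pr, sg_self, Equiv.mul_swap_eq_swap_mul, h1, h2, Equiv.swap_comm]
    · rw [pr, sg_ne hl, one_mul, mul_one]

/-- if all transpositions of the offender `A` are equal, its elements act as `1` or as `t` -/
theorem one_or_tr [Finite G] {A : Subgroup G} (hAS : A ≤ S) (ho : OffM V A) {i : Fin k} {x y : Fin (2 ^ m + 1)}
    {t : G} (hxy : x ≠ y) (htA : t ∈ A) (htt : Ac M t (pr i x y))
    (hall : ∀ (i' : Fin k) (x' y' : Fin (2 ^ m + 1)) (t' : G), x' ≠ y' → x' ≠ 0 → y' ≠ 0 → t' ∈ A →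
      Ac M t' (pr i' x' y') → pr i' x' y' = pr i x y) {a : G} (ha : a ∈ A) {v : G} (hv : v ∈ V) :
    (∀ v ∈ V, a * v = v * a) ∨ a * v * a⁻¹ = t * v * t⁻¹ := by
  obtain ⟨τ, hτ, h0, hτ'⟩ := off_elem' hAS ho ha
  have haP := h.SP' (hAS ha)
  -- moved points
  have hmv : ∀ l z, τ l z ≠ z → pr i x y l z = τ l z := by
    intro l z hz
    obtain ⟨-, b, hb, hbA⟩ := hτ' l z hz
    have hz0 : z ≠ 0 := fun e => hz (by rw [e, h0])
    have hw0 : τ l z ≠ 0 := fun e => hz0 ((τ l).injective (by rw [e, h0]))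
    rw [← hall l z (τ l z) b (Ne.symm hz) hz0 hw0 hb hbA, pr, sg_self, Equiv.swap_apply_left]
  rcases keep' h hAS hτ' (hAS htA) hxy htt.1 with ⟨h1, h2⟩ | ⟨h1, h2⟩
  · left
    have h3 : τ = 1 := by
      funext l
      ext1 z
      by_contra hz
      have hz' : τ l z ≠ z := hz
      have h4 := hmv l z hz'
      by_cases hl : l = i
      · subst hl
        rw [pr, sg_self] at h4
        by_cases hzx : z = x
        · exact hz' (by rw [hzx, h1])
        · by_cases hzy : z = y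
          · exact hz' (by rw [hzy, h2])
          · rw [Equiv.swap_apply_of_ne_of_ne hzx hzy] at h4
            exact hz' h4.symm
      · rw [pr, sg_ne hl, Equiv.Perm.one_apply] at h4
        exact hz' h4.symm
    rw [h3] at hτ
    exact fun w hw => h.comm_of_one haP hτ hw
  · right
    have h3 : τ = pr i x y := by
      funext l
      ext1 z
      by_cases hz : τ l z = z
      · rw [hz]
        by_cases hl : l = i
        · subst hl
          rw [pr, sg_self]
          have hzx : z ≠ x := by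
            rintro rfl
            exact hxy (hz.symm.trans h1)
          have hzy : z ≠ y := by
            rintro rfl
            exact hxy (h2.symm.trans hz)
          rw [Equiv.swap_apply_of_ne_of_ne hzx hzy]
        · rw [pr, sg_ne hl, Equiv.Perm.one_apply]
      · exact (hmv l z hz).symm
    rw [h3] at hτ
    exact h.same haP (h.SP' (hAS htA)) hτ htt hv

omit h in
/-- equal pairs -/
theorem pr_eq {i i' : Fin k} {x y x' y' : Fin (2 ^ m + 1)} (hxy : x ≠ y) (hxy' : x' ≠ y')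
    (he : (dl i x + dl i y : Fin k → Fin (2 ^ m + 1) → ZMod 2) = dl i' x' + dl i' y') : pr i x y = pr i' x' y' := by
  have hi : i = i' := by
    by_contra hne
    have h1 := congrFun (congrFun he i) x
    rw [Pi.add_apply, Pi.add_apply, Pi.add_apply, Pi.add_apply, dl_self, dl_ne i hxy, dl_ne' hne, dl_ne' hne] at h1
    simp at h1
  subst hi
  have key : ∀ z, z = x ∨ z = y → z = x' ∨ z = y' := by
    intro z hz
    by_contra hne
    push Not at hne
    have h1 := congrFun (congrFun he i) z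
    rw [Pi.add_apply, Pi.add_apply, Pi.add_apply, Pi.add_apply, dl_ne i hne.1, dl_ne i hne.2] at h1
    rcases hz with rfl | rfl
    · rw [dl_self, dl_ne i hxy] at h1
      simp at h1
    · rw [dl_self, dl_ne i (Ne.symm hxy)] at h1
      simp at h1
  rcases key x (Or.inl rfl) with h1 | h1 <;> rcases key y (Or.inr rfl) with h2 | h2
  · exact absurd (h1.trans h2.symm) hxy
  · rw [h1, h2]
  · rw [h1, h2, pr, pr, Equiv.swap_comm]
  · exact absurd (h1.trans h2.symm) hxy

/-- **The facts about one parabolic, symmetric type.** -/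
theorem pf_sym [Finite G] {U : Subgroup G} (hU2 : IsElementaryAbelian 2 U) (hVU : V ≤ U) : Pf S P V U where
  one := by
    intro B hBS tt hnc b hb hbU u hu hbu c hc
    obtain ⟨i, x, y, t, n0, O⟩ := Tt.oneS h tt hU2 hVU hBS hnc
    have h1 := (O.act b hb).resolve_left hbU
    have h2 : Commute (t⁻¹ * b) u := (mem_centralizer_iff.1 h1 u hu).symm
    have h3 : Commute t u := by
      have h4 : Commute (b * (t⁻¹ * b)⁻¹) u := (show Commute b u from hbu).mul_left h2.inv_left
      have e : b * (t⁻¹ * b)⁻¹ = t := by group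
      rwa [e] at h4
    rcases O.act c hc with h4 | h4
    · exact (mem_centralizer_iff.1 h4 u hu).symm
    · have h5 : Commute (t * (t⁻¹ * c)) u := h3.mul_left (mem_centralizer_iff.1 h4 u hu).symm
      rw [mul_inv_cancel_left] at h5
      exact h5
  quad := by
    intro B hBS tt hnc B' hBS' tt' b hb u hu c hc
    obtain ⟨i, x, y, t, n0, O⟩ := Tt.oneS h tt hU2 hVU hBS hnc
    rcases comU hU2 hVU O hb hu with h1 | h1
    · rw [h1, one_mul, mul_one]
    · rw [h1]
      by_cases hnc' : B' ≤ centralizer (V : Set G)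
      · exact (mem_centralizer_iff.1 (hnc' hc) _ (h.e_nxy O).1).symm
      · exact commW h O hBS' (tt'.offM hU2 hVU hnc') hc
  out := by
    intro B hBS tt hnc b hb u hu hbu
    obtain ⟨i, x, y, t, n0, O⟩ := Tt.oneS h tt hU2 hVU hBS hnc
    have hw : b * u * b⁻¹ * u⁻¹ = t * n0 * t⁻¹ * n0⁻¹ :=
      (comU hU2 hVU O hb hu).resolve_left fun h1 => hbu (mul_inv_eq_iff_eq_mul.1 (mul_inv_eq_one.1 h1))
    rw [hw]
    obtain ⟨hwV, hwe⟩ := h.e_nxy O
    have htP := h.SP' (O.AS O.tA)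
    obtain ⟨p, hp, hpA⟩ := M.lift (pr i y 0)
    refine ⟨p, hp, t, O.tA, t, O.tA, ?_⟩
    have hq : Ac M (p * t * p⁻¹) (pr i y 0 * pr i x y * (pr i y 0)⁻¹) :=
      h.ac_mul (inv_mem hp) (h.ac_mul htP hpA O.tt) (h.ac_inv hp hpA)
    have hqi : (pr i y 0 * pr i x y * (pr i y 0)⁻¹) i = Equiv.swap y 0 * Equiv.swap x y * Equiv.swap y 0 := by
      rw [Pi.mul_apply, Pi.mul_apply, Pi.inv_apply, pr, pr, sg_self, sg_self, Equiv.swap_inv]
    have hqx : (pr i y 0 * pr i x y * (pr i y 0)⁻¹) i x = 0 := by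
      rw [hqi, Equiv.Perm.mul_apply, Equiv.Perm.mul_apply, Equiv.swap_apply_of_ne_of_ne O.xy O.x0,
        Equiv.swap_apply_left, Equiv.swap_apply_left]
    have hqy : (pr i y 0 * pr i x y * (pr i y 0)⁻¹) i y = y := by
      rw [hqi, Equiv.Perm.mul_apply, Equiv.Perm.mul_apply, Equiv.swap_apply_left,
        Equiv.swap_apply_of_ne_of_ne (Ne.symm O.x0) (Ne.symm O.y0), Equiv.swap_apply_right]
    have hqP : p * t * p⁻¹ ∈ P := mul_mem (mul_mem hp htP) (inv_mem hp)
    set w := t * n0 * t⁻¹ * n0⁻¹ with hwdef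
    have hX : M.e (p * t * p⁻¹ * w * (p * t * p⁻¹)⁻¹) = dl i 0 + dl i y := by
      rw [e_pair hq.1 hwV hwe, hqx, hqy]
    have hXV : p * t * p⁻¹ * w * (p * t * p⁻¹)⁻¹ ∈ V := h.memV hqP hwV
    intro e
    set X := p * t * p⁻¹ * w * (p * t * p⁻¹)⁻¹ with hXdef
    have h1 : t * X * t⁻¹ = X := by rw [e]; group
    have h2 := e_pair O.tt.1 hXV hX
    rw [h1, hX, pr, sg_self, Equiv.swap_apply_right,
      Equiv.swap_apply_of_ne_of_ne (Ne.symm O.x0) (Ne.symm O.y0)] at h2
    have h3 := congrFun (congrFun h2 i) y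
    rw [Pi.add_apply, Pi.add_apply, Pi.add_apply, Pi.add_apply, dl_self, dl_ne i O.y0, dl_ne i (Ne.symm O.xy)] at h3
    simp at h3
  pair := by
    intro B hBS B' hBS' tt tt' hnc hnc' b hb b' hb' u hu u' hu' he hbu c hc
    obtain ⟨i, x, y, t, n0, O⟩ := Tt.oneS h tt hU2 hVU hBS hnc
    obtain ⟨i', x', y', t', n0', O'⟩ := Tt.oneS h tt' hU2 hVU hBS' hnc'
    have hw1 : b * u * b⁻¹ * u⁻¹ ≠ 1 := fun h1 => hbu (mul_inv_eq_iff_eq_mul.1 (mul_inv_eq_one.1 h1))
    have hw : b * u * b⁻¹ * u⁻¹ = t * n0 * t⁻¹ * n0⁻¹ := (comU hU2 hVU O hb hu).resolve_left hw1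
    have hw' : b' * u' * b'⁻¹ * u'⁻¹ = t' * n0' * t'⁻¹ * n0'⁻¹ :=
      (comU hU2 hVU O' hb' hu').resolve_left (he ▸ hw1)
    have h1 : (dl i x + dl i y : Fin k → Fin (2 ^ m + 1) → ZMod 2) = dl i' x' + dl i' y' := by
      rw [← (h.e_nxy O).2, ← (h.e_nxy O').2, ← hw, ← hw', he]
    have h2 := pr_eq O.xy O'.xy h1
    have htP := h.SP' (O.AS O.tA)
    have htP' := h.SP' (O'.AS O'.tA)
    rcases O.act c hc with h3 | h3
    · refine ⟨1, one_mem _, fun v hv => ?_⟩
      rw [← mem_centralizer_iff.1 h3 v (hVU hv)]; group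
    · refine ⟨t', O'.tA, fun v hv => ?_⟩
      have h4 : t' * v * t'⁻¹ = t * v * t⁻¹ := by
        have h5 := O'.tt
        rw [← h2] at h5
        exact h.same htP' htP h5 O.tt hv
      have h5 := mem_centralizer_iff.1 h3 v (hVU hv)
      rw [h4]
      calc t * v * t⁻¹ = t * (v * (t⁻¹ * c)) * c⁻¹ := by group
        _ = t * (t⁻¹ * c * v) * c⁻¹ := by rw [h5]
        _ = c * v * c⁻¹ := by group
  sg := by
    intro A hAS ho
    obtain ⟨i, x, y, t, hxy, hx0, hy0, htA, htt⟩ := exists_tr h hAS ho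
    by_cases hcase : ∃ (i' : Fin k) (x' y' : Fin (2 ^ m + 1)) (t' : G), x' ≠ y' ∧ x' ≠ 0 ∧ y' ≠ 0 ∧ t' ∈ A ∧
        Ac M t' (pr i' x' y') ∧ pr i' x' y' ≠ pr i x y
    · left
      obtain ⟨i', x', y', t', hxy', hx0', hy0', htA', htt', hne⟩ := hcase
      obtain ⟨n0, hn, hfix, htn, hcard, hel⟩ := cutS h hVU hAS ho hxy hx0 hy0 htA htt
      obtain ⟨n1, hn1, hfix1, htn1, hcard1, hel1⟩ := cutS h hVU hAS ho hxy' hx0' hy0' htA' htt'
      -- `t` fixes `x', y'`
      have hpt : ∀ z, (z = x' ∨ z = y') → pr i x y i' z = z := by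
        intro z hz
        by_cases hi : i' = i
        · subst hi
          have hzx : z ≠ x := by
            rintro rfl
            rcases hz with rfl | rfl
            · exact hne (by rw [h.disj (hAS htA) (hAS htA') (Ne.symm hxy) (Ne.symm hxy') htt.1 htt'.1])
            · have h3 : ActsSym M.e V t' 1 (pr i' z x') := by
                have := htt'.1
                rwa [pr, Equiv.swap_comm] at this
              refine hne ?_
              rw [h.disj (hAS htA) (hAS htA') (Ne.symm hxy) hxy' htt.1 h3, pr, pr, Equiv.swap_comm]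
          have hzy : z ≠ y := by
            rintro rfl
            have h4 : ActsSym M.e V t 1 (pr i' z x) := by
              have := htt.1
              rwa [pr, Equiv.swap_comm] at this
            rcases hz with rfl | rfl
            · refine hne ?_
              rw [h.disj (hAS htA) (hAS htA') hxy (Ne.symm hxy') h4 htt'.1, pr, pr, Equiv.swap_comm]
            · have h3 : ActsSym M.e V t' 1 (pr i' z x') := by
                have := htt'.1
                rwa [pr, Equiv.swap_comm] at this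
              refine hne ?_
              rw [h.disj (hAS htA) (hAS htA') hxy hxy' h4 h3]
          rw [pr, sg_self, Equiv.swap_apply_of_ne_of_ne hzx hzy]
        · rw [pr, sg_ne hi, Equiv.Perm.one_apply]
      have hpt0 : pr i x y i' 0 = 0 := by
        by_cases hi : i' = i
        · subst hi
          rw [pr, sg_self, Equiv.swap_apply_of_ne_of_ne (Ne.symm hx0) (Ne.symm hy0)]
        · rw [pr, sg_ne hi, Equiv.Perm.one_apply]
      have htn1' : t * n1 = n1 * t :=
        hfix1 t (h.SP' (hAS htA)) _ htt (hpt x' (Or.inl rfl)) (hpt y' (Or.inr rfl)) hpt0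
      have hcU : ∀ n ∈ V, A ⊓ centralizer (U : Set G) ≤ A ⊓ centralizer ({n} : Set G) := fun n hn a ha =>
        ⟨ha.1, mem_centralizer_singleton_iff.2 (mem_centralizer_iff.1 ha.2 n (hVU hn)).symm⟩
      refine ⟨A ⊓ centralizer ({n0} : Set G), inf_le_left, A ⊓ centralizer ({n1} : Set G), inf_le_left,
        hcU n0 hn, hcU n1 hn1, fun e => htn ?_, fun e => htn1 ?_, hcard, hcard1, fun a ha => ?_⟩
      · have h1 : t ∈ A ⊓ centralizer ({n0} : Set G) := by rw [e]; exact htA
        exact mem_centralizer_singleton_iff.1 h1.2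
      · have h1 : t' ∈ A ⊓ centralizer ({n1} : Set G) := by rw [e]; exact htA'
        exact mem_centralizer_singleton_iff.1 h1.2
      · have htY : t ∈ A ⊓ centralizer ({n1} : Set G) := ⟨htA, mem_centralizer_singleton_iff.2 htn1'⟩
        rcases hel a ha with h1 | h1
        · exact mem_sup_left ⟨ha, mem_centralizer_singleton_iff.2 h1⟩
        · have h2 : t⁻¹ * a ∈ A ⊓ centralizer ({n0} : Set G) :=
            mem_inf.2 ⟨A.mul_mem (A.inv_mem htA) ha, mem_centralizer_singleton_iff.2 h1⟩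
          have h3 := mul_mem (mem_sup_right (S := A ⊓ centralizer ({n0} : Set G)) htY)
            (mem_sup_left (T := A ⊓ centralizer ({n1} : Set G)) h2)
          rwa [mul_inv_cancel_left] at h3
    · right
      push Not at hcase
      intro a ha hna v hv hav c hc
      have hall : ∀ (i' : Fin k) (x' y' : Fin (2 ^ m + 1)) (t' : G), x' ≠ y' → x' ≠ 0 → y' ≠ 0 → t' ∈ A →
          Ac M t' (pr i' x' y') → pr i' x' y' = pr i x y := hcase
      have h1 : a * v * a⁻¹ = t * v * t⁻¹ := (one_or_tr h hAS ho hxy htA htt hall ha hv).resolve_left fun h1 =>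
        hna (mem_centralizer_iff.2 fun w hw => (h1 w hw).symm)
      have h2 : t * v * t⁻¹ = v := by rw [← h1, hav]; group
      rcases one_or_tr h hAS ho hxy htA htt hall hc hv with h3 | h3
      · exact h3 v hv
      · rw [h2] at h3
        exact mul_inv_eq_iff_eq_mul.1 h3
  wab := by
    intro A hAS ho B hBS tt hnc a ha b hb v hv
    obtain ⟨i, x, y, t, n0, O⟩ := Tt.oneS h tt hU2 hVU hBS hnc
    have key : ∀ w ∈ V, b * w * b⁻¹ = w ∨ b * w * b⁻¹ = t * w * t⁻¹ := by
      intro w hw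
      rcases O.act b hb with h1 | h1
      · left
        rw [← mem_centralizer_iff.1 h1 w (hVU hw)]; group
      · right
        have h2 := mem_centralizer_iff.1 h1 w (hVU hw)
        calc b * w * b⁻¹ = t * (t⁻¹ * b * w) * b⁻¹ := by group
          _ = t * (w * (t⁻¹ * b)) * b⁻¹ := by rw [h2]
          _ = _ := by group
    have haV : ∀ w ∈ V, a * w * a⁻¹ ∈ V := fun w hw => h.memV (h.SP' (hAS ha)) hw
    rcases O.act b hb with h1 | h1
    · have e : ∀ w ∈ V, b * w * b⁻¹ = w := fun w hw => by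
        rw [← mem_centralizer_iff.1 h1 w (hVU hw)]; group
      rw [e v hv, e _ (haV v hv)]
    · have e : ∀ w ∈ V, b * w * b⁻¹ = t * w * t⁻¹ := fun w hw => by
        have h2 := mem_centralizer_iff.1 h1 w (hVU hw)
        calc b * w * b⁻¹ = t * (t⁻¹ * b * w) * b⁻¹ := by group
          _ = t * (w * (t⁻¹ * b)) * b⁻¹ := by rw [h2]
          _ = _ := by group
      rw [e v hv, e _ (haV v hv)]
      exact commT h hAS ho ha O.xy (O.AS O.tA) O.tt hv

end Cfsg.Agent.Omega.NOThreeL.RRed.Ex
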