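import Cfsg.Agent.Omega.NOThreeL.RRed.Ex.SymSg

/-!
# NO-3L, box R: THEOREM EX (#26554): `Pf S P V U`, symmetric type

`A` acts on `V` as one transposition `t`: the fields `one`, `quad`, `out`, `pair`, `wab`, and

* **`pf_sym`** : `Pf S P V U` for `Sb M`.
-/

set_option autoImplicit false
set_option linter.unusedSectionVars false

namespace Cfsg.Agent.Omega.NOThreeL.RRed.Ex.SymOut

open Subgroup Cfsg Cfsg.Agent.ZN Cfsg.Agent.ZN.ChoiceBase
open Cfsg.Agent.Omega.FFThm Cfsg.Agent.Omega.NatPair Cfsg.Agent.Lib.SL2Mat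
open Cfsg.Agent.Omega.NO3S.ThmB Cfsg.Agent.Omega.NO3S.ThmB.Sb
open Cfsg.Agent.Omega.NOThreeL.RRed.NS

universe u

variable {G : Type u} [Group G] [Finite G] {S P V D U A : Subgroup G} {k m : ℕ} {M : SymKM S P V D k m} (h : Sb M)

section one

variable {i : Fin k} {x y : Fin (2 ^ m + 1)} {t n0 : G} (O : OneS M U A i x y t n0)
include O

/-- `C_U(a) = C_U(A)` -/
theorem s_one {a : G} (ha : a ∈ A) (hac : a ∉ centralizer (U : Set G)) {u : G} (hu : u ∈ U) (hau : a * u = u * a)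
    {c : G} (hc : c ∈ A) : c * u = u * c := by
  have h1 : t⁻¹ * a ∈ centralizer (U : Set G) := (O.act a ha).resolve_left hac
  have h2 : Commute (t⁻¹ * a) u := (mem_centralizer_iff.1 h1 u hu).symm
  have h3 : Commute a u := hau
  have h4 : Commute t u := by
    have h4 := h3.mul_left h2.inv_left
    have e : a * (t⁻¹ * a)⁻¹ = t := by group
    rwa [e] at h4
  rcases O.act c hc with h5 | h5
  · exact (mem_centralizer_iff.1 h5 u hu).symm
  · have h6 : Commute (t⁻¹ * c) u := (mem_centralizer_iff.1 h5 u hu).symm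
    have h7 := h4.mul_left h6
    rw [mul_inv_cancel_left] at h7
    exact h7

/-- `[a, u]` is `1` or `[t, n₀]` -/
theorem s_comm (hU2 : IsElementaryAbelian 2 U) (hVU : V ≤ U) {a u : G} (ha : a ∈ A) (hu : u ∈ U) :
    a * u * a⁻¹ * u⁻¹ = 1 ∨ a * u * a⁻¹ * u⁻¹ = t * n0 * t⁻¹ * n0⁻¹ := by
  have hn : n0 ∈ U := hVU O.nV
  rcases O.act a ha with h1 | h1
  · left
    rw [← mem_centralizer_iff.1 h1 u hu]
    group
  · rcases O.full u hu with h2 | h2
    · left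
      rw [h2 a ha]
      group
    · right
      have h3 : Commute t (n0⁻¹ * u) := h2 t O.tA
      have h5 : Commute (t⁻¹ * a) u := (mem_centralizer_iff.1 h1 u hu).symm
      have e1 : a * u * a⁻¹ = t * u * t⁻¹ := by
        calc a * u * a⁻¹ = t * ((t⁻¹ * a) * u) * (t⁻¹ * a)⁻¹ * t⁻¹ := by group
          _ = t * (u * (t⁻¹ * a)) * (t⁻¹ * a)⁻¹ * t⁻¹ := by rw [h5.eq]
          _ = t * u * t⁻¹ := by group
      rw [e1]
      calc t * u * t⁻¹ * u⁻¹ = t * n0 * t⁻¹ * (t * (n0⁻¹ * u) * t⁻¹) * u⁻¹ := by group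
        _ = t * n0 * t⁻¹ * (n0⁻¹ * u * t * t⁻¹) * u⁻¹ := by rw [h3.eq]
        _ = t * n0 * t⁻¹ * n0⁻¹ := by group

theorem s_comm_ne (hU2 : IsElementaryAbelian 2 U) (hVU : V ≤ U) {a u : G} (ha : a ∈ A) (hu : u ∈ U)
    (hau : a * u ≠ u * a) : a * u * a⁻¹ * u⁻¹ = t * n0 * t⁻¹ * n0⁻¹ := by
  rcases s_comm O hU2 hVU ha hu with e | e
  · exact absurd (mul_inv_eq_iff_eq_mul.1 (mul_inv_eq_one.1 e)) hau
  · exact e

include h

/-- an element of `P` which fixes `0` and fixes or interchanges `x`, `y` commutes with `[t, n₀]` -/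
theorem s_cen {g : G} (hg : g ∈ P) {τ : Fin k → Equiv.Perm (Fin (2 ^ m + 1))} (hτ : Ac M g τ) (h0 : τ i 0 = 0)
    (hxy : (τ i x = x ∧ τ i y = y) ∨ (τ i x = y ∧ τ i y = x)) :
    g * (t * n0 * t⁻¹ * n0⁻¹) = t * n0 * t⁻¹ * n0⁻¹ * g := by
  rcases hxy with ⟨hx, hy⟩ | ⟨hx, hy⟩
  · exact (h.fix_nxy O hg hτ hx hy h0).eq
  · have htP : t ∈ P := h.SP' (O.AS O.tA)
    have hpi : ((pr i x y)⁻¹ * τ) i = Equiv.swap x y * τ i := by
      rw [Pi.mul_apply, Pi.inv_apply, pr, sg_self, Equiv.swap_inv]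
    have h1 : Commute (t⁻¹ * g) (t * n0 * t⁻¹ * n0⁻¹) := by
      refine h.fix_nxy O (mul_mem (inv_mem htP) hg) (h.ac_mul hg (h.ac_inv htP O.tt) hτ) ?_ ?_ ?_
      · rw [hpi, Equiv.Perm.mul_apply, hx, Equiv.swap_apply_right]
      · rw [hpi, Equiv.Perm.mul_apply, hy, Equiv.swap_apply_left]
      · rw [hpi, Equiv.Perm.mul_apply, h0, Equiv.swap_apply_of_ne_of_ne (Ne.symm O.x0) (Ne.symm O.y0)]
    have h2 := (h.t_nxy O).mul_left h1
    rw [mul_inv_cancel_left] at h2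
    exact h2.eq

/-- a smallest best offender centralises `[U, A]` -/
theorem s_quad (hU2 : IsElementaryAbelian 2 U) (hVU : V ≤ U) {B : Subgroup G} (hBS : B ≤ S) (tB : Tt U B) {b a u : G}
    (hb : b ∈ B) (ha : a ∈ A) (hu : u ∈ U) : b * (a * u * a⁻¹ * u⁻¹) = a * u * a⁻¹ * u⁻¹ * b := by
  rcases s_comm O hU2 hVU ha hu with e | e
  · rw [e, mul_one, one_mul]
  · rw [e]
    by_cases hBV : B ≤ centralizer (V : Set G)
    · exact (mem_centralizer_iff.1 (hBV hb) _ (h.e_nxy O).1).symm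
    · obtain ⟨τ, hτ, h0, hτ'⟩ := off_elem' hBS (tB.offM hU2 hVU hBV) hb
      exact s_cen h O (h.SP' (hBS hb)) hτ (h0 i) (keep' h hBS hτ' (O.AS O.tA) O.xy O.tt.1)

/-- **the field `out`** -/
theorem s_out (hU2 : IsElementaryAbelian 2 U) (hVU : V ≤ U) {a : G} (ha : a ∈ A) {u : G} (hu : u ∈ U)
    (hau : a * u ≠ u * a) :
    ∃ p ∈ P, ∃ c ∈ A, ∃ d ∈ A, d * (p * c * p⁻¹ * (a * u * a⁻¹ * u⁻¹) * (p * c * p⁻¹)⁻¹) ≠
      p * c * p⁻¹ * (a * u * a⁻¹ * u⁻¹) * (p * c * p⁻¹)⁻¹ * d := by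
  have htP : t ∈ P := h.SP' (O.AS O.tA)
  rw [s_comm_ne O hU2 hVU ha hu hau]
  obtain ⟨hwV, hwe⟩ := h.e_nxy O
  set w := t * n0 * t⁻¹ * n0⁻¹ with hw
  obtain ⟨z, -, -, hzx, hzy, -⟩ := h.exists_ne x y x
  obtain ⟨p, hp, hpA⟩ := M.lift (pr i x z)
  refine ⟨p, hp, t, O.tA, t, O.tA, fun hcon => ?_⟩
  have hg : p * t * p⁻¹ ∈ P := mul_mem (mul_mem hp htP) (inv_mem hp)
  have hgA : Ac M (p * t * p⁻¹) (pr i x z * pr i x y * (pr i x z)⁻¹) :=
    h.ac_mul (inv_mem hp) (h.ac_mul htP hpA O.tt) (h.ac_inv hp hpA)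
  have hsi : (pr i x z * pr i x y * (pr i x z)⁻¹) i = Equiv.swap x z * Equiv.swap x y * Equiv.swap x z := by
    rw [Pi.mul_apply, Pi.mul_apply, Pi.inv_apply, pr, pr, sg_self, sg_self, Equiv.swap_inv]
  have he : M.e (p * t * p⁻¹ * w * (p * t * p⁻¹)⁻¹) = dl i x + dl i z := by
    rw [e_pair hgA.1 hwV hwe, hsi, Equiv.Perm.mul_apply, Equiv.Perm.mul_apply, Equiv.Perm.mul_apply,
      Equiv.Perm.mul_apply, Equiv.swap_apply_left, Equiv.swap_apply_of_ne_of_ne hzx hzy, Equiv.swap_apply_right,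
      Equiv.swap_apply_of_ne_of_ne (Ne.symm O.xy) (Ne.symm hzy), Equiv.swap_apply_right, Equiv.swap_apply_left]
  have hm : p * t * p⁻¹ * w * (p * t * p⁻¹)⁻¹ ∈ V := h.memV hg hwV
  have h1 := e_pair O.tt.1 hm he
  have h2 : t * (p * t * p⁻¹ * w * (p * t * p⁻¹)⁻¹) * t⁻¹ = p * t * p⁻¹ * w * (p * t * p⁻¹)⁻¹ := by
    rw [hcon, mul_inv_cancel_right]
  have hpz : pr i x y i z = z := by
    rw [pr, sg_self, Equiv.swap_apply_of_ne_of_ne hzx hzy]
  have hpx : pr i x y i x = y := by rw [pr, sg_self, Equiv.swap_apply_left]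
  rw [h2, he, hpx, hpz] at h1
  have h3 := congrFun (congrFun h1 i) x
  rw [Pi.add_apply, Pi.add_apply, Pi.add_apply, Pi.add_apply, dl_self, dl_ne i (Ne.symm hzx), dl_ne i O.xy] at h3
  simp at h3

end one

include h

/-- equal pairs -/
theorem pair_eq {i j : Fin k} {x y x' y' : Fin (2 ^ m + 1)} (hxy : x ≠ y) (hxy' : x' ≠ y')
    (e : (dl i x + dl i y : Fin k → Fin (2 ^ m + 1) → ZMod 2) = dl j x' + dl j y') : pr j x' y' = pr i x y := by
  have hji : j = i := by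
    by_contra hji
    have h1 := congrFun (congrFun e i) x
    rw [Pi.add_apply, Pi.add_apply, Pi.add_apply, Pi.add_apply, dl_self, dl_ne i hxy, dl_ne' (Ne.symm hji),
      dl_ne' (Ne.symm hji)] at h1
    simp at h1
  subst hji
  have key : ∀ z, (z = x' ∨ z = y') → z = x ∨ z = y := by
    intro z hz
    by_contra hcon
    push Not at hcon
    have h1 := congrFun (congrFun e j) z
    rw [Pi.add_apply, Pi.add_apply, Pi.add_apply, Pi.add_apply, dl_ne j hcon.1, dl_ne j hcon.2] at h1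
    rcases hz with rfl | rfl
    · rw [dl_self, dl_ne j hxy'] at h1
      simp at h1
    · rw [dl_self, dl_ne j (Ne.symm hxy')] at h1
      simp at h1
  rcases key x' (Or.inl rfl) with h1 | h1 <;> rcases key y' (Or.inr rfl) with h2 | h2
  · exact absurd (h1.trans h2.symm) hxy'
  · rw [h1, h2]
  · rw [h1, h2, pr, pr, Equiv.swap_comm]
  · exact absurd (h1.trans h2.symm) hxy'

/-- **the field `pair`** -/
theorem s_pair (hU2 : IsElementaryAbelian 2 U) (hVU : V ≤ U) {A' : Subgroup G} {i : Fin k}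
    {x y : Fin (2 ^ m + 1)} {t n0 : G} (O : OneS M U A i x y t n0) {j : Fin k} {x' y' : Fin (2 ^ m + 1)} {t' n0' : G}
    (O' : OneS M U A' j x' y' t' n0') {b b' u u' : G} (hb : b ∈ A) (hb' : b' ∈ A') (hu : u ∈ U) (hu' : u' ∈ U)
    (e : b * u * b⁻¹ * u⁻¹ = b' * u' * b'⁻¹ * u'⁻¹) (hbu : b * u ≠ u * b) {c : G} (hc : c ∈ A) :
    ∃ c' ∈ A', ∀ v ∈ V, c' * v * c'⁻¹ = c * v * c⁻¹ := by
  have htP : t ∈ P := h.SP' (O.AS O.tA)
  have htP' : t' ∈ P := h.SP' (O'.AS O'.tA)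
  have hbu' : b' * u' ≠ u' * b' := by
    intro h2
    have h3 : b' * u' * b'⁻¹ * u'⁻¹ = 1 := by rw [h2]; group
    rw [← e] at h3
    exact hbu (mul_inv_eq_iff_eq_mul.1 (mul_inv_eq_one.1 h3))
  rw [s_comm_ne O hU2 hVU hb hu hbu, s_comm_ne O' hU2 hVU hb' hu' hbu'] at e
  have e1 := congrArg M.e e
  rw [(h.e_nxy O).2, (h.e_nxy O').2] at e1
  have e2 : pr j x' y' = pr i x y := pair_eq h O.xy O'.xy e1
  have htt' : Ac M t' (pr i x y) := by rw [← e2]; exact O'.tt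
  rcases O.act c hc with h1 | h1
  · refine ⟨1, one_mem _, fun v hv => ?_⟩
    rw [← mem_centralizer_iff.1 h1 v (hVU hv)]
    group
  · refine ⟨t', O'.tA, fun v hv => ?_⟩
    rw [h.same htP' htP htt' O.tt hv]
    have h2 : Commute (t⁻¹ * c) v := (mem_centralizer_iff.1 h1 v (hVU hv)).symm
    symm
    calc c * v * c⁻¹ = t * ((t⁻¹ * c) * v) * (t⁻¹ * c)⁻¹ * t⁻¹ := by group
      _ = t * (v * (t⁻¹ * c)) * (t⁻¹ * c)⁻¹ * t⁻¹ := by rw [h2.eq]
      _ = t * v * t⁻¹ := by group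

/-- **the field `wab`** -/
theorem s_wab (hVU : V ≤ U) (hAS : A ≤ S) (oA : OffM V A) {B : Subgroup G} {i : Fin k}
    {x y : Fin (2 ^ m + 1)} {t n0 : G} (O : OneS M U B i x y t n0) {a b v : G} (ha : a ∈ A) (hb : b ∈ B) (hv : v ∈ V) :
    a * (b * v * b⁻¹) * a⁻¹ = b * (a * v * a⁻¹) * b⁻¹ := by
  have htP : t ∈ P := h.SP' (O.AS O.tA)
  have haP : a ∈ P := h.SP' (hAS ha)
  obtain ⟨τ, hτ, h0, hτ'⟩ := off_elem' hAS oA ha
  have hc : τ * pr i x y = pr i x y * τ := by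
    rcases keep' h hAS hτ' (O.AS O.tA) O.xy O.tt.1 with ⟨h1, h2⟩ | ⟨h1, h2⟩
    · exact pr_comm h1 h2
    · funext l
      rw [Pi.mul_apply, Pi.mul_apply]
      by_cases hl : l = i
      · subst hl
        rw [pr, sg_self, Equiv.mul_swap_eq_swap_mul, h1, h2, Equiv.swap_comm]
      · rw [pr, sg_ne hl, one_mul, mul_one]
  have hav : a * v * a⁻¹ ∈ V := h.memV haP hv
  rcases O.act b hb with h1 | h1
  · have h2 : b * v * b⁻¹ = v := by
      rw [← mem_centralizer_iff.1 h1 v (hVU hv)]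
      group
    have h3 : b * (a * v * a⁻¹) * b⁻¹ = a * v * a⁻¹ := by
      rw [← mem_centralizer_iff.1 h1 _ (hVU hav)]
      group
    rw [h2, h3]
  · have key : ∀ w ∈ V, b * w * b⁻¹ = t * w * t⁻¹ := by
      intro w hw
      have h2 : Commute (t⁻¹ * b) w := (mem_centralizer_iff.1 h1 w (hVU hw)).symm
      calc b * w * b⁻¹ = t * ((t⁻¹ * b) * w) * (t⁻¹ * b)⁻¹ * t⁻¹ := by group
        _ = t * (w * (t⁻¹ * b)) * (t⁻¹ * b)⁻¹ * t⁻¹ := by rw [h2.eq]
        _ = t * w * t⁻¹ := by group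
    rw [key v hv, key _ hav]
    exact h.swap haP htP hτ O.tt hc hv

/-- **symmetric type** -/
theorem pf_sym (hU2 : IsElementaryAbelian 2 U) (hVU : V ≤ U) : Pf S P V U where
  one := by
    intro B hB t hne b hb hbc u hu hbu c hc
    obtain ⟨i, x, y, t', n0, O⟩ := t.oneS h hU2 hVU hB hne
    exact s_one O hb hbc hu hbu hc
  quad := by
    intro B hB t hne B' hB' t' b hb u hu c hc
    obtain ⟨i, x, y, t'', n0, O⟩ := t.oneS h hU2 hVU hB hne
    exact s_quad h O hU2 hVU hB' t' hc hb hu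
  out := by
    intro B hB t hne b hb u hu hbu
    obtain ⟨i, x, y, t', n0, O⟩ := t.oneS h hU2 hVU hB hne
    exact s_out h O hU2 hVU hb hu hbu
  pair := by
    intro B hB B' hB' t t' hne hne' b hb b' hb' u hu u' hu' e hbu c hc
    obtain ⟨i, x, y, s, n0, O⟩ := t.oneS h hU2 hVU hB hne
    obtain ⟨j, x', y', s', n0', O'⟩ := t'.oneS h hU2 hVU hB' hne'
    exact s_pair h hU2 hVU O O' hb hb' hu hu' e hbu hc
  sg := fun A hA hoff => SymSg.sym_sg h hVU hA hoff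
  wab := by
    intro A hA oA B hB t hne a ha b hb v hv
    obtain ⟨i, x, y, t', n0, O⟩ := t.oneS h hU2 hVU hB hne
    exact s_wab h hVU hA oA O ha hb hv

end Cfsg.Agent.Omega.NOThreeL.RRed.Ex.SymOut
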