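import Cfsg.Agent.Omega.NOThreeL.RRed.Ex.Pf

/-!
# NO-3L, box R: THEOREM EX (#26554): the field `sg` of `Pf`, symmetric type

* `sym_cut` : the centraliser of `n0` in an offender, for one transposition;
* **`sym_sg`** : the field `sg` of `Pf S P V U` for `Sb M`.
-/

set_option autoImplicit false
set_option linter.unusedSectionVars false

namespace Cfsg.Agent.Omega.NOThreeL.RRed.Ex.SymSg

open Subgroup Cfsg Cfsg.Agent.ZN Cfsg.Agent.ZN.ChoiceBase
open Cfsg.Agent.Omega.FFThm Cfsg.Agent.Omega.NatPair Cfsg.Agent.Lib.SL2Mat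
open Cfsg.Agent.Omega.NO3S.ThmB Cfsg.Agent.Omega.NO3S.ThmB.Sb
open Cfsg.Agent.Omega.NOThreeL.RRed.NS

universe u

variable {G : Type u} [Group G] [Finite G] {S P V D U A : Subgroup G} {k m : ℕ} {M : SymKM S P V D k m} (h : Sb M)
include h

/-- **the cut** (copy of `Tt.oneS`) -/
theorem sym_cut (hVU : V ≤ U) (hAS : A ≤ S) (hoff : OffM V A) {i : Fin k} {x y : Fin (2 ^ m + 1)} {t : G}
    (hxy : x ≠ y) (hx0 : x ≠ 0) (hy0 : y ≠ 0) (htA : t ∈ A) (htt : Ac M t (pr i x y)) :
    ∃ B ≤ A, A ⊓ centralizer (U : Set G) ≤ B ∧ t ∉ B ∧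
      Nat.card A * Nat.card ↥(U ⊓ centralizer (A : Set G)) ≤ Nat.card B * Nat.card ↥(U ⊓ centralizer (B : Set G)) ∧
      (∀ a ∈ A, a ∈ B ∨ t⁻¹ * a ∈ B) ∧
      ∀ a ∈ A, ∀ τ : Fin k → Equiv.Perm (Fin (2 ^ m + 1)), Ac M a τ → τ i x = x → τ i y = y → τ i 0 = 0 → a ∈ B := by
  have hAP : A ≤ P := hAS.trans h.SP'
  obtain ⟨n0, hn, hne, hfix⟩ := h.nx (i := i) hxy hx0 hy0
  have htP := hAP htA
  have hpx : pr i x y i x = y := by rw [pr, sg_self, Equiv.swap_apply_left]
  have hpy : pr i x y i y = x := by rw [pr, sg_self, Equiv.swap_apply_right]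
  have hp0 : pr i x y i 0 = 0 := by
    rw [pr, sg_self, Equiv.swap_apply_of_ne_of_ne (Ne.symm hx0) (Ne.symm hy0)]
  have htn : M.e (t * n0 * t⁻¹) = dl i y + dl i 0 := by rw [e_pair htt.1 hn hne, hpx, hp0]
  have htn' : t * n0 * t⁻¹ ≠ n0 := fun e => by
    rw [e, hne] at htn
    have h1 := congrFun (congrFun htn i) x
    rw [Pi.add_apply, Pi.add_apply, Pi.add_apply, Pi.add_apply, dl_self, dl_ne i hx0, dl_ne i hxy] at h1
    simp at h1
  -- every element of `A`
  have hel : ∀ a ∈ A, a * n0 = n0 * a ∨ (t⁻¹ * a) * n0 = n0 * (t⁻¹ * a) := by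
    intro a ha
    obtain ⟨τ, hτ, h0, hτ'⟩ := off_elem' hAS hoff ha
    rcases keep' h hAS hτ' (hAS htA) hxy htt.1 with ⟨h1, h2⟩ | ⟨h1, h2⟩
    · exact Or.inl (hfix a (hAP ha) τ hτ h1 h2 (h0 i))
    · right
      have h3 := h.ac_mul (hAP ha) (h.ac_inv htP htt) hτ
      have e : ((pr i x y)⁻¹ * τ) i = Equiv.swap x y * τ i := by
        rw [Pi.mul_apply, Pi.inv_apply, pr, sg_self, Equiv.swap_inv]
      refine hfix _ (mul_mem (inv_mem htP) (hAP ha)) _ h3 ?_ ?_ ?_
      · rw [e, Equiv.Perm.mul_apply, h1, Equiv.swap_apply_right]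
      · rw [e, Equiv.Perm.mul_apply, h2, Equiv.swap_apply_left]
      · rw [e, Equiv.Perm.mul_apply, h0 i, Equiv.swap_apply_of_ne_of_ne (Ne.symm hx0) (Ne.symm hy0)]
  let B : Subgroup G := A ⊓ centralizer ({n0} : Set G)
  have hBmem : ∀ a, a ∈ B ↔ a ∈ A ∧ a * n0 = n0 * a := fun a => by
    rw [mem_inf, mem_centralizer_singleton_iff]
  have hBA : B ≤ A := inf_le_left
  have h1B : A ⊓ centralizer (U : Set G) ≤ B := fun a ha =>
    (hBmem a).2 ⟨ha.1, (mem_centralizer_iff.1 ha.2 n0 (hVU hn)).symm⟩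
  have htB : t ∉ B := fun h1 => htn' (by rw [((hBmem t).1 h1).2]; group)
  -- `|A| ≤ 2 |B|`
  have hcA : Nat.card A ≤ 2 * Nat.card B := by
    classical
    have h1 : Nat.card A ≤ Nat.card Bool * Nat.card B := by
      refine card_le_of_map (fun a => decide (a * n0 = n0 * a)) fun a ha a' ha' he => ?_
      have he' : (a * n0 = n0 * a) ↔ (a' * n0 = n0 * a') := decide_eq_decide.1 he
      refine (hBmem _).2 ⟨mul_mem (inv_mem ha) ha', ?_⟩
      by_cases hc : a * n0 = n0 * a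
      · exact ((show Commute a n0 from hc).inv_left).mul_left (he'.1 hc)
      · have h2 : Commute (t⁻¹ * a) n0 := (hel a ha).resolve_left hc
        have h3 : Commute (t⁻¹ * a') n0 := (hel a' ha').resolve_left fun h => hc (he'.2 h)
        have h4 := h2.inv_left.mul_left h3
        have e : (t⁻¹ * a)⁻¹ * (t⁻¹ * a') = a⁻¹ * a' := by group
        rw [e] at h4
        exact h4
    rwa [Nat.card_eq_fintype_card (α := Bool), Fintype.card_bool] at h1
  -- `2 |C_U(A)| ≤ |C_U(B)|`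
  let f : Bool → G := fun b => if b then n0 else 1
  have hfU : ∀ b, f b ∈ U := fun b => by
    cases b
    · exact one_mem _
    · exact hVU hn
  have hinj : ∀ b c b' c', c ∈ U → (∀ a ∈ A, a * c = c * a) → c' ∈ U → (∀ a ∈ A, a * c' = c' * a) →
      f b * c = f b' * c' → b = b' ∧ c = c' := by
    intro b c b' c' hc hca hc' hca' e
    have key : ∀ c c' : G, (∀ a ∈ A, a * c = c * a) → (∀ a ∈ A, a * c' = c' * a) → n0 * c = c' → False := by
      intro c c' h1 h2 h3
      have h4 : Commute t (n0 * c) := by rw [h3]; exact h2 t htA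
      have h5 : Commute t (n0 * c * c⁻¹) := h4.mul_right ((show Commute t c from h1 t htA).inv_right)
      rw [mul_inv_cancel_right] at h5
      exact htn' (by rw [h5.eq]; group)
    cases b <;> cases b'
    · simp only [f] at e
      exact ⟨rfl, by simpa using e⟩
    · simp only [f] at e
      exact (key c' c hca' hca (by simpa using e.symm)).elim
    · simp only [f] at e
      exact (key c c' hca hca' (by simpa using e)).elim
    · simp only [f] at e
      exact ⟨rfl, by simpa using e⟩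
  have hcU : 2 * Nat.card ↥(U ⊓ centralizer (A : Set G)) ≤ Nat.card ↥(U ⊓ centralizer (B : Set G)) := by
    have h2 : (2 : ℕ) = Nat.card Bool := by rw [Nat.card_eq_fintype_card, Fintype.card_bool]
    rw [h2, ← Nat.card_prod]
    refine Nat.card_le_card_of_injective
      (fun p : Bool × ↥(U ⊓ centralizer (A : Set G)) =>
        (⟨f p.1 * p.2, mul_mem ⟨hfU _, ?_⟩ ?_⟩ : ↥(U ⊓ centralizer (B : Set G)))) fun p q e => ?_
    · refine mem_centralizer_iff.2 fun a ha => ?_
      cases p.1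
      · simp [f]
      · simpa [f] using ((hBmem a).1 ha).2
    · exact ⟨p.2.2.1, mem_centralizer_iff.2 fun a ha => mem_centralizer_iff.1 p.2.2.2 a (hBA ha)⟩
    · have h1 := hinj p.1 p.2 q.1 q.2 p.2.2.1 (mem_centralizer_iff.1 p.2.2.2) q.2.2.1
        (mem_centralizer_iff.1 q.2.2.2) (congrArg Subtype.val e)
      exact Prod.ext h1.1 (Subtype.ext h1.2)
  refine ⟨B, hBA, h1B, htB, ?_, fun a ha => ?_, fun a ha τ hτ h1 h2 h0 => ?_⟩
  · calc Nat.card A * Nat.card ↥(U ⊓ centralizer (A : Set G)) ≤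
        2 * Nat.card B * Nat.card ↥(U ⊓ centralizer (A : Set G)) := Nat.mul_le_mul_right _ hcA
      _ = Nat.card B * (2 * Nat.card ↥(U ⊓ centralizer (A : Set G))) := by ring
      _ ≤ _ := Nat.mul_le_mul_left _ hcU
  · rcases hel a ha with h1 | h1
    · exact Or.inl ((hBmem a).2 ⟨ha, h1⟩)
    · exact Or.inr ((hBmem _).2 ⟨mul_mem (inv_mem htA) ha, h1⟩)
  · exact (hBmem a).2 ⟨ha, hfix a (hAP ha) τ hτ h1 h2 h0⟩

omit h in
/-- a transposition with other points fixes `x` and `y` -/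
theorem pr_fix {i j : Fin k} {x y x' y' : Fin (2 ^ m + 1)}
    (hd : j = i → x ≠ x' ∧ x ≠ y' ∧ y ≠ x' ∧ y ≠ y') : pr j x' y' i x = x ∧ pr j x' y' i y = y := by
  by_cases hji : j = i
  · subst hji
    obtain ⟨h1, h2, h3, h4⟩ := hd rfl
    rw [pr, sg_self]
    exact ⟨Equiv.swap_apply_of_ne_of_ne h1 h2, Equiv.swap_apply_of_ne_of_ne h3 h4⟩
  · rw [pr, sg_ne (Ne.symm hji)]
    exact ⟨rfl, rfl⟩

omit h in
theorem pr_zero {i j : Fin k} {x y : Fin (2 ^ m + 1)} (hx0 : x ≠ 0) (hy0 : y ≠ 0) : pr j x y i 0 = 0 := by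
  by_cases hji : j = i
  · subst hji
    rw [pr, sg_self]
    exact Equiv.swap_apply_of_ne_of_ne (Ne.symm hx0) (Ne.symm hy0)
  · rw [pr, sg_ne (Ne.symm hji)]
    rfl

/-- two transpositions of `S` are equal or disjoint -/
theorem sym_disj {t b : G} (ht : t ∈ S) (hb : b ∈ S) {i j : Fin k} {x y x' y' : Fin (2 ^ m + 1)} (hxy : x ≠ y)
    (hxy' : x' ≠ y') (htA : Ac M t (pr i x y)) (hbA : Ac M b (pr j x' y')) :
    pr j x' y' = pr i x y ∨ (j = i → x ≠ x' ∧ x ≠ y' ∧ y ≠ x' ∧ y ≠ y') := by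
  by_cases hji : j = i
  swap
  · exact Or.inr fun e => absurd e hji
  subst hji
  have hsw : ∀ a c : Fin (2 ^ m + 1), pr j a c = pr j c a := fun a c => by rw [pr, pr, Equiv.swap_comm]
  by_cases h1 : x = x'
  · left
    subst h1
    rw [h.disj ht hb (Ne.symm hxy) (Ne.symm hxy') htA.1 hbA.1]
  by_cases h2 : x = y'
  · left
    subst h2
    rw [hsw x' x] at hbA ⊢
    rw [h.disj ht hb (Ne.symm hxy) hxy' htA.1 hbA.1]
  by_cases h3 : y = x'
  · left
    subst h3
    rw [hsw x y] at htA ⊢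
    rw [h.disj ht hb hxy (Ne.symm hxy') htA.1 hbA.1]
  by_cases h4 : y = y'
  · left
    subst h4
    rw [hsw x' y] at hbA ⊢
    rw [hsw x y] at htA ⊢
    rw [h.disj ht hb hxy hxy' htA.1 hbA.1]
  exact Or.inr fun _ => ⟨h1, h2, h3, h4⟩

/-- **the field `sg`, symmetric type** -/
theorem sym_sg (hVU : V ≤ U) (hAS : A ≤ S) (hoff : OffM V A) :
    (∃ X ≤ A, ∃ Y ≤ A, A ⊓ centralizer (U : Set G) ≤ X ∧ A ⊓ centralizer (U : Set G) ≤ Y ∧ X ≠ A ∧ Y ≠ A ∧
      Nat.card A * Nat.card ↥(U ⊓ centralizer (A : Set G)) ≤ Nat.card X * Nat.card ↥(U ⊓ centralizer (X : Set G)) ∧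
      Nat.card A * Nat.card ↥(U ⊓ centralizer (A : Set G)) ≤ Nat.card Y * Nat.card ↥(U ⊓ centralizer (Y : Set G)) ∧
      A ≤ X ⊔ Y) ∨
      (∀ a ∈ A, a ∉ centralizer (V : Set G) → ∀ v ∈ V, a * v = v * a → ∀ c ∈ A, c * v = v * c) := by
  have hAP : A ≤ P := hAS.trans h.SP'
  -- a transposition
  obtain ⟨i, x, y, t, hxy, hx0, hy0, htA, htt⟩ : ∃ i x y, ∃ t, x ≠ y ∧ x ≠ 0 ∧ y ≠ 0 ∧ t ∈ A ∧ Ac M t (pr i x y) := by
    by_contra hne
    push Not at hne
    refine hoff.ne fun a ha => mem_centralizer_iff.2 fun v hv => ?_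
    obtain ⟨τ, hτ, h0, hτ'⟩ := off_elem' hAS hoff ha
    have h1 : τ = 1 := by
      funext i
      ext1 x
      by_contra hx
      have hx' : τ i x ≠ x := hx
      obtain ⟨-, b, hb, hbA⟩ := hτ' i x hx'
      have hx0 : x ≠ 0 := fun e => hx' (by rw [e, h0])
      have hy0 : τ i x ≠ 0 := fun e => hx0 ((τ i).injective (by rw [e, h0]))
      exact hne i x (τ i x) b (Ne.symm hx') hx0 hy0 hb hbA
    rw [h1] at hτ
    exact (h.comm_of_one (hAP ha) hτ hv).symm
  by_cases hall : ∀ j x' y', x' ≠ y' → x' ≠ 0 → y' ≠ 0 → ∀ b ∈ A, Ac M b (pr j x' y') → pr j x' y' = pr i x y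
  · right
    -- every element of `A` acts as `1` or as `t`
    have hel : ∀ a ∈ A, (∀ v ∈ V, a * v = v * a) ∨ ∀ v ∈ V, a * v * a⁻¹ = t * v * t⁻¹ := by
      intro a ha
      obtain ⟨τ, hτ, h0, hτ'⟩ := off_elem' hAS hoff ha
      have hmv : ∀ j z, τ j z ≠ z → pr j z (τ j z) = pr i x y := by
        intro j z hz
        obtain ⟨-, b, hb, hbA⟩ := hτ' j z hz
        have hx0 : z ≠ 0 := fun e => hz (by rw [e, h0])
        have hy0 : τ j z ≠ 0 := fun e => hx0 ((τ j).injective (by rw [e, h0]))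
        exact hall j z (τ j z) (Ne.symm hz) hx0 hy0 b hb hbA
      -- `τ j z` is `z`, or `(x y) z`
      have hz1 : ∀ j z, τ j z = z ∨ τ j z = pr i x y j z := by
        intro j z
        by_cases hz : τ j z = z
        · exact Or.inl hz
        · right
          rw [← hmv j z hz, pr, sg_self, Equiv.swap_apply_left]
      by_cases h1 : τ = 1
      · left
        rw [h1] at hτ
        exact fun v hv => h.comm_of_one (hAP ha) hτ hv
      · right
        -- `τ` moves a point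
        obtain ⟨j, z, hz⟩ : ∃ j z, τ j z ≠ z := by
          by_contra hcon
          push Not at hcon
          exact h1 (funext fun j => Equiv.ext fun z => hcon j z)
        have e : τ = pr i x y := by
          have h2 := hmv j z hz
          rw [← h2]
          funext l
          ext1 w
          rcases hz1 l w with h3 | h3
          · rw [h3]
            -- `w` is fixed by `τ`
            by_cases hlj : l = j
            · subst hlj
              rw [pr, sg_self]
              have hwz : w ≠ z := fun e => hz (by rw [← e]; exact h3)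
              have hwz' : w ≠ τ l z := fun e => by
                have h4 : τ l (τ l z) = τ l z := by rw [← e]; exact h3
                exact hz ((τ l).injective h4)
              rw [Equiv.swap_apply_of_ne_of_ne hwz hwz']
            · rw [pr, sg_ne hlj]
              rfl
          · rw [h3, h2]
        rw [e] at hτ
        exact fun v hv => h.same (hAP ha) (hAP htA) hτ htt hv
    intro a ha hac v hv hav c hc
    have h1 : ∀ v ∈ V, a * v * a⁻¹ = t * v * t⁻¹ :=
      (hel a ha).resolve_left fun h1 => hac (mem_centralizer_iff.2 fun v hv => (h1 v hv).symm)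
    rcases hel c hc with h2 | h2
    · exact h2 v hv
    · have h3 := h2 v hv
      rw [← h1 v hv, hav, mul_inv_cancel_right] at h3
      exact mul_inv_eq_iff_eq_mul.1 h3
  · left
    push Not at hall
    obtain ⟨j, x', y', hxy', hx0', hy0', t', htA', htt', hne⟩ := hall
    have hd : j = i → x ≠ x' ∧ x ≠ y' ∧ y ≠ x' ∧ y ≠ y' :=
      (sym_disj h (hAS htA) (hAS htA') hxy hxy' htt htt').resolve_left hne
    obtain ⟨X, hXA, hX1, hXt, hXc, hXe, hXf⟩ := sym_cut h hVU hAS hoff hxy hx0 hy0 htA htt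
    obtain ⟨Y, hYA, hY1, hYt, hYc, hYe, hYf⟩ := sym_cut h hVU hAS hoff hxy' hx0' hy0' htA' htt'
    have htY : t ∈ Y := by
      have h1 : pr i x y j x' = x' ∧ pr i x y j y' = y' := pr_fix fun e => by
        obtain ⟨h1, h2, h3, h4⟩ := hd e.symm
        exact ⟨Ne.symm h1, Ne.symm h3, Ne.symm h2, Ne.symm h4⟩
      exact hYf t htA _ htt h1.1 h1.2 (pr_zero hx0 hy0)
    refine ⟨X, hXA, Y, hYA, hX1, hY1, fun e => hXt (by rw [e]; exact htA), fun e => hYt (by rw [e]; exact htA'),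
      hXc, hYc, fun a ha => ?_⟩
    rcases hXe a ha with h1 | h1
    · exact mem_sup_left h1
    · have e : a = t * (t⁻¹ * a) := by group
      rw [e]
      exact mul_mem (mem_sup_right htY) (mem_sup_left h1)

end Cfsg.Agent.Omega.NOThreeL.RRed.Ex.SymSg
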